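import Mathlib
import Cfsg.Agent.Lib.H76.PG

/-!
Suzuki's criterion: a finite `p`-group with an element whose centralizer has order `p²` has maximal
class (`|S : S'| = p²`).
-/

namespace H58.MaxCent

open Subgroup

variable {p : ℕ} [hp : Fact p.Prime]

/-- If the commutator map `g ↦ [g, x]` sends `N ≥ C(x)` into a central subgroup of order `p`, then
`|N : C(x)|` divides `p`. -/
theorem relIndex_dvd {S : Type*} [Group S] [Finite S] {x : S} {N : Subgroup S}
    (hN : ∀ g ∈ N, g * x * g⁻¹ * x⁻¹ ∈ center S) :
    (centralizer ({x} : Set S)).relIndex N ∣ Nat.card (center S) := by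
  let f : ↥N →* ↥(center S) := MonoidHom.mk' (fun g => ⟨(g : S) * x * (g : S)⁻¹ * x⁻¹, hN g g.2⟩) (by
    intro a b
    apply Subtype.ext
    show (a : S) * b * x * ((a : S) * b)⁻¹ * x⁻¹ = (a * x * (a : S)⁻¹ * x⁻¹) * (b * x * (b : S)⁻¹ * x⁻¹)
    have hb := Subgroup.mem_center_iff.1 (hN b b.2)
    have h1 := hb (a * x * (a : S)⁻¹ * x⁻¹)
    rw [h1]
    have h2 := hb (a : S)
    calc (a : S) * b * x * ((a : S) * b)⁻¹ * x⁻¹ = (a * (b * x * (b : S)⁻¹ * x⁻¹)) * x * (a : S)⁻¹ * x⁻¹ := by group
      _ = ((b * x * (b : S)⁻¹ * x⁻¹) * a) * x * (a : S)⁻¹ * x⁻¹ := by rw [h2]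
      _ = (b * x * (b : S)⁻¹ * x⁻¹) * (a * x * (a : S)⁻¹ * x⁻¹) := by group)
  have hker : f.ker = (centralizer ({x} : Set S)).subgroupOf N := by
    ext g
    rw [MonoidHom.mem_ker, Subgroup.mem_subgroupOf, Subgroup.mem_centralizer_singleton_iff]
    constructor
    · intro h
      have h1 : (g : S) * x * (g : S)⁻¹ * x⁻¹ = 1 := congrArg Subtype.val h
      rw [mul_inv_eq_one] at h1
      exact mul_inv_eq_iff_eq_mul.1 h1
    · intro h
      apply Subtype.ext
      show (g : S) * x * (g : S)⁻¹ * x⁻¹ = 1
      rw [h]; group
  have h1 : (centralizer ({x} : Set S)).relIndex N = Nat.card f.range := by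
    rw [← Subgroup.index_ker, hker]; rfl
  rw [h1]
  exact Subgroup.card_subgroup_dvd_card f.range

/-- Suzuki's criterion for maximal class. -/
theorem commutator_index_aux : ∀ (n : ℕ) (S : Type*) [Group S] [Finite S], Nat.card S = n →
    IsPGroup p S → ∀ x : S, Nat.card ↥(centralizer ({x} : Set S)) = p ^ 2 →
    (commutator S).index = p ^ 2 := by
  intro n
  induction n using Nat.strong_induction_on with
  | _ n ih =>
  intro S _ _ hn hS x hx
  have hp2 : 2 ≤ p := hp.out.two_le
  have hZA : center S ≤ centralizer ({x} : Set S) := Subgroup.center_le_centralizer _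
  have hxA : x ∈ centralizer ({x} : Set S) := Subgroup.mem_centralizer_singleton_iff.2 rfl
  by_cases hab : center S = ⊤
  · -- abelian
    have h1 : commutator S = ⊥ := (commutator_eq_bot_iff_center_eq_top S).2 hab
    have h2 : centralizer ({x} : Set S) = ⊤ := top_le_iff.1 (hab ▸ hZA)
    rw [h1, Subgroup.index_bot, ← hx, h2, Subgroup.card_top]
  · have hxZ : x ∉ center S := by
      intro h
      apply hab
      have h2 : centralizer ({x} : Set S) = ⊤ := by
        rw [eq_top_iff]
        intro g _
        rw [Subgroup.mem_centralizer_singleton_iff]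
        exact Subgroup.mem_center_iff.1 h g
      have h3 : Nat.card S = p ^ 2 := by rw [← hx, h2, Subgroup.card_top]
      have h4 := IsPGroup.isMulCommutative_of_card_eq_prime_sq (p := p) h3
      rw [eq_top_iff]
      intro g _
      rw [Subgroup.mem_center_iff]
      intro h
      exact mul_comm' h g
    have hZne : center S ≠ centralizer ({x} : Set S) := by
      intro h; rw [← h] at hxA; exact hxZ hxA
    have hSnt : Nontrivial S := ⟨x, 1, by rintro rfl; exact hxZ (one_mem _)⟩
    have hZnt : Nontrivial (center S) := hS.center_nontrivial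
    have hZcard : Nat.card (center S) = p := by
      have h1 : Nat.card (center S) ∣ p ^ 2 := by
        rw [← hx]; exact Subgroup.card_dvd_of_le hZA
      obtain ⟨k, hk, hk2⟩ := (Nat.dvd_prime_pow hp.out).1 h1
      interval_cases k
      · rw [pow_zero] at hk2
        have := Finite.one_lt_card_iff_nontrivial.2 hZnt
        omega
      · rw [hk2, pow_one]
      · exfalso
        apply hZne
        apply Subgroup.eq_of_le_of_card_ge hZA
        rw [hk2, hx]
    -- the quotient
    let π := QuotientGroup.mk' (center S)
    have hπ : Function.Surjective π := QuotientGroup.mk'_surjective _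
    have hcq : Nat.card S = Nat.card (S ⧸ center S) * p := by
      rw [Subgroup.card_eq_card_quotient_mul_card_subgroup (center S), hZcard]
    have hlt : Nat.card (S ⧸ center S) < n := by
      rw [← hn, hcq]
      have : 0 < Nat.card (S ⧸ center S) := Nat.card_pos
      nlinarith
    have hQ : IsPGroup p (S ⧸ center S) := hS.to_quotient _
    set N := (centralizer ({π x} : Set (S ⧸ center S))).comap π with hNdef
    have hNmem : ∀ g ∈ N, g * x * g⁻¹ * x⁻¹ ∈ center S := by
      intro g hg
      rw [hNdef, Subgroup.mem_comap, Subgroup.mem_centralizer_singleton_iff, ← map_mul, ← map_mul] at hg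
      have h1 : π (g * x * g⁻¹ * x⁻¹) = 1 := by
        have : g * x * g⁻¹ * x⁻¹ = (g * x) * (x * g)⁻¹ := by group
        rw [this, map_mul, map_inv, hg, mul_inv_cancel]
      exact (QuotientGroup.eq_one_iff _).1 h1
    have h1 := relIndex_dvd hNmem
    rw [hZcard] at h1
    have hAN : centralizer ({x} : Set S) ≤ N := by
      intro g hg
      rw [hNdef, Subgroup.mem_comap, Subgroup.mem_centralizer_singleton_iff, ← map_mul, ← map_mul]
      rw [Subgroup.mem_centralizer_singleton_iff] at hg
      rw [hg]
    have hNc : Nat.card N = p ^ 2 * (centralizer ({x} : Set S)).relIndex N := by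
      rw [← hx]
      have h3 := Subgroup.card_mul_index ((centralizer ({x} : Set S)).subgroupOf N)
      rw [Nat.card_congr (Subgroup.subgroupOfEquivOfLe hAN).toEquiv] at h3
      exact h3.symm
    have hNc2 : Nat.card N = Nat.card (centralizer ({π x} : Set (S ⧸ center S))) * p := by
      have h3 : N.index = (centralizer ({π x} : Set (S ⧸ center S))).index :=
        Subgroup.index_comap_of_surjective _ hπ
      have h4 := Subgroup.card_mul_index N
      have h5 := Subgroup.card_mul_index (centralizer ({π x} : Set (S ⧸ center S)))
      rw [h3, hcq, ← h5] at h4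
      have h6 : 0 < (centralizer ({π x} : Set (S ⧸ center S))).index := Nat.pos_of_ne_zero
        (Subgroup.index_ne_zero_of_finite)
      apply Nat.eq_of_mul_eq_mul_right h6
      rw [h4]; ring
    have hCx : Nat.card (centralizer ({π x} : Set (S ⧸ center S))) = p ^ 2 := by
      rcases (Nat.dvd_prime hp.out).1 h1 with h3 | h3
      · exfalso
        rw [h3, mul_one, hNc2, pow_two] at hNc
        have h4 : Nat.card (centralizer ({π x} : Set (S ⧸ center S))) = p :=
          Nat.eq_of_mul_eq_mul_right hp.out.pos hNc
        have hπx : π x ≠ 1 := by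
          intro h; exact hxZ ((QuotientGroup.eq_one_iff _).1 h)
        have hQnt : Nontrivial (S ⧸ center S) := ⟨π x, 1, hπx⟩
        have hZQ : Nontrivial (center (S ⧸ center S)) := hQ.center_nontrivial
        have h5 : center (S ⧸ center S) = centralizer ({π x} : Set (S ⧸ center S)) := by
          apply Subgroup.eq_of_le_of_card_ge (Subgroup.center_le_centralizer _)
          rw [h4]
          obtain ⟨k, hk, hk2⟩ := (hQ.to_subgroup (center (S ⧸ center S))).nontrivial_iff_card.1 hZQ
          rw [hk2]
          exact Nat.le_self_pow (by omega) p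
        have h6 : π x ∈ center (S ⧸ center S) := by
          rw [h5, Subgroup.mem_centralizer_singleton_iff]
        have h7 : centralizer ({π x} : Set (S ⧸ center S)) = ⊤ := by
          rw [eq_top_iff]
          intro g _
          rw [Subgroup.mem_centralizer_singleton_iff]
          exact Subgroup.mem_center_iff.1 h6 g
        have h8 : Nat.card (S ⧸ center S) = p := by
          rw [← h4, h7, Subgroup.card_top]
        have h9 : IsCyclic (S ⧸ center S) := isCyclic_of_prime_card h8
        apply hab
        rw [eq_top_iff]
        intro g _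
        rw [Subgroup.mem_center_iff]
        intro k
        have h10 := MonoidHom.isMulCommutative_of_isCyclic_of_ker_le_center π (by
          intro z hz
          exact (QuotientGroup.eq_one_iff _).1 hz)
        exact mul_comm' k g
      · rw [h3, hNc2] at hNc
        exact Nat.eq_of_mul_eq_mul_right hp.out.pos hNc
    have h2 := ih _ hlt (S ⧸ center S) rfl hQ (π x) hCx
    -- pull back
    have h3 : (commutator S).map π = commutator (S ⧸ center S) := by
      rw [_root_.commutator_def, Subgroup.map_commutator, Subgroup.map_top_of_surjective _ hπ, _root_.commutator_def]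
    have h4 : center S ≤ commutator S := by
      apply H76.PG.center_le_of_normal hS hZcard
      intro h
      exact hab ((commutator_eq_bot_iff_center_eq_top S).1 h)
    rw [← h2, ← h3]
    rw [Subgroup.index_map_eq _ hπ (by rw [QuotientGroup.ker_mk']; exact h4)]

theorem commutator_index {S : Type*} [Group S] [Finite S] (hS : IsPGroup p S) (x : S)
    (hx : Nat.card ↥(centralizer ({x} : Set S)) = p ^ 2) : (commutator S).index = p ^ 2 :=
  commutator_index_aux _ S rfl hS x hx

end H58.MaxCent
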