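import Mathlib
import Cfsg.Agent.Lib.H1.UniqueSub

/-!
Non-abelian 2-groups with exactly one involution, and central extensions of groups with a cyclic
subgroup of index two.
-/

namespace H58.UniqInv

open Subgroup
open scoped commutatorElement

section Q

variable {Q : Type*} [Group Q]

theorem uniq_sub (hu : ∃! x : Q, orderOf x = 2) :
    ∀ H K : Subgroup Q, Nat.card H = 2 → Nat.card K = 2 → H = K := by
  have key : ∀ H : Subgroup Q, Nat.card H = 2 → ∃ x, orderOf x = 2 ∧ H = zpowers x := by
    intro H hH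
    have hfin : Finite H := Nat.finite_of_card_ne_zero (by omega)
    obtain ⟨x, hx⟩ := exists_prime_orderOf_dvd_card' (G := H) 2 (by rw [hH])
    refine ⟨x, by rw [← hx, Subgroup.orderOf_coe], ?_⟩
    symm
    apply Subgroup.eq_of_le_of_card_ge
    · rw [zpowers_le]; exact x.2
    · rw [hH, Nat.card_zpowers, Subgroup.orderOf_coe, hx]
  intro H K hH hK
  obtain ⟨x, hx, rfl⟩ := key H hH
  obtain ⟨y, hy, rfl⟩ := key K hK
  rw [hu.unique hx hy]

theorem cyclic_of_comm [Finite Q] (h2 : IsPGroup 2 Q) (hu : ∃! x : Q, orderOf x = 2)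
    (A : Subgroup Q) (hA : IsMulCommutative A) : IsCyclic A := by
  by_contra hcyc
  obtain ⟨q, a, b, hq, ha, hb, hab⟩ := H1.Cyc.exists_of_not_isCyclic (G := A)
    (fun a b => mul_comm' a b) hcyc
  have hqp : q = 2 := by
    have h1 : q ∣ Nat.card Q := by
      rw [← ha, ← Subgroup.orderOf_coe]; exact orderOf_dvd_natCard _
    obtain ⟨m, hm⟩ := IsPGroup.iff_card.mp h2
    rw [hm] at h1
    exact (Nat.prime_dvd_prime_iff_eq hq Nat.prime_two).mp (hq.dvd_of_dvd_pow h1)
  subst hqp
  have h1 := uniq_sub hu (zpowers (a : Q)) (zpowers (b : Q))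
    (by rw [Nat.card_zpowers, Subgroup.orderOf_coe, ha])
    (by rw [Nat.card_zpowers, Subgroup.orderOf_coe, hb])
  apply hab
  have h2 : (b : Q) ∈ zpowers (a : Q) := by rw [h1]; exact mem_zpowers _
  obtain ⟨l, hl⟩ := mem_zpowers_iff.mp h2
  exact mem_zpowers_iff.mpr ⟨l, Subtype.ext (by push_cast; exact hl)⟩

theorem exists_index_two [Finite Q] (h2 : IsPGroup 2 Q) (hu : ∃! x : Q, orderOf x = 2)
    (hna : ¬ IsMulCommutative Q) : ∃ a : Q, (zpowers a).index = 2 := by
  have hp : Fact (Nat.Prime 2) := ⟨Nat.prime_two⟩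
  rcases H1.UniqueSub.cyclic_or_quaternion 2 h2 (uniq_sub hu) with h | ⟨-, k, ⟨e⟩⟩
  · exfalso
    apply hna
    exact ⟨⟨fun a b => by
      obtain ⟨g, hg⟩ := h.exists_zpow_surjective
      obtain ⟨i, rfl⟩ := hg a
      obtain ⟨j, rfl⟩ := hg b
      exact (Commute.refl g).zpow_zpow i j |>.eq⟩⟩
  · refine ⟨e.symm (QuaternionGroup.a 1), ?_⟩
    have h1 : orderOf (e.symm (QuaternionGroup.a 1 : QuaternionGroup (2 ^ k))) = 2 * 2 ^ k := by
      rw [MulEquiv.orderOf_eq, QuaternionGroup.orderOf_a_one]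
    have h3 : Nat.card Q = 4 * 2 ^ k := by
      rw [Nat.card_congr e.toEquiv, Nat.card_eq_fintype_card, QuaternionGroup.card]
    have h4 := Subgroup.card_mul_index (zpowers (e.symm (QuaternionGroup.a 1 : QuaternionGroup (2 ^ k))))
    rw [Nat.card_zpowers, h1, h3] at h4
    have h5 : 0 < 2 ^ k := by positivity
    have h6 : 2 * 2 ^ k * (zpowers (e.symm (QuaternionGroup.a 1 : QuaternionGroup (2 ^ k)))).index =
      2 * 2 ^ k * 2 := by rw [h4]; ring
    exact Nat.eq_of_mul_eq_mul_left (by positivity) h6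

theorem comm_of_cyclic_index_two {a : Q} (hi : (zpowers a).index = 2) {y : Q} (hy : y ∉ zpowers a)
    (hc : y * a = a * y) : IsMulCommutative Q := by
  have hya : ∀ z ∈ zpowers a, y * z = z * y := by
    rintro _ ⟨i, rfl⟩
    exact (Commute.zpow_right (show Commute y a from hc) i).eq
  have haa : ∀ z ∈ zpowers a, ∀ w ∈ zpowers a, z * w = w * z := by
    rintro _ ⟨i, rfl⟩ _ ⟨j, rfl⟩
    exact ((Commute.refl a).zpow_zpow i j).eq
  have hdec : ∀ s : Q, s ∈ zpowers a ∨ ∃ z ∈ zpowers a, s = z * y := by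
    intro s
    by_cases hs : s ∈ zpowers a
    · exact Or.inl hs
    · right
      refine ⟨s * y⁻¹, ?_, by group⟩
      rw [Subgroup.mul_mem_iff_of_index_two hi]
      constructor
      · intro h; exact absurd h hs
      · intro h; exact absurd (inv_mem_iff.1 h) hy
  refine ⟨⟨fun s t => ?_⟩⟩
  rcases hdec s with hs | ⟨z, hz, rfl⟩ <;> rcases hdec t with ht | ⟨w, hw, rfl⟩
  · exact haa s hs t ht
  · calc s * (w * y) = (s * w) * y := by group
      _ = (w * s) * y := by rw [haa s hs w hw]
      _ = w * (s * y) := by group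
      _ = w * (y * s) := by rw [hya s hs]
      _ = w * y * s := by group
  · calc z * y * t = z * (y * t) := by group
      _ = z * (t * y) := by rw [hya t ht]
      _ = (z * t) * y := by group
      _ = (t * z) * y := by rw [haa z hz t ht]
      _ = t * (z * y) := by group
  · calc z * y * (w * y) = z * (y * w) * y := by group
      _ = z * (w * y) * y := by rw [hya w hw]
      _ = (z * w) * y * y := by group
      _ = (w * z) * y * y := by rw [haa z hz w hw]
      _ = w * (z * y) * y := by group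
      _ = w * (y * z) * y := by rw [hya z hz]
      _ = w * y * (z * y) := by group

theorem structure_of_index_two [Finite Q] (h2 : IsPGroup 2 Q) (hu : ∃! x : Q, orderOf x = 2)
    (hna : ¬ IsMulCommutative Q) {a : Q} (hi : (zpowers a).index = 2) :
    ∃ n, 2 ≤ n ∧ orderOf a = 2 ^ n ∧
      ∀ y, y ∉ zpowers a → y * a * y⁻¹ = a⁻¹ ∧ y ^ 2 = a ^ (2 ^ (n - 1)) := by
  have hp : Fact (Nat.Prime 2) := ⟨Nat.prime_two⟩
  obtain ⟨n, hn⟩ := IsPGroup.iff_orderOf.mp h2 a
  have hex : ∃ y, y ∉ zpowers a := by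
    by_contra hcon
    push Not at hcon
    have : zpowers a = ⊤ := (eq_top_iff' _).2 hcon
    rw [this, index_top] at hi
    omega
  obtain ⟨y₀, hy₀⟩ := hex
  have hcent : centralizer (zpowers a : Set Q) = zpowers a := by
    apply le_antisymm
    · intro y hy
      by_contra hya
      apply hna
      apply comm_of_cyclic_index_two hi hya
      exact (Subgroup.mem_centralizer_iff.1 hy a (mem_zpowers a)).symm
    · intro z hz
      rw [Subgroup.mem_centralizer_iff]
      intro w hw
      obtain ⟨i, rfl⟩ := hz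
      obtain ⟨j, rfl⟩ := hw
      exact ((Commute.refl a).zpow_zpow j i).eq
  have hn1 : 1 ≤ n := by
    by_contra h
    have h0 : n = 0 := by omega
    rw [h0, pow_zero, orderOf_eq_one_iff] at hn
    apply hna
    apply comm_of_cyclic_index_two hi hy₀
    rw [hn, mul_one, one_mul]
  have hmain := fun y (hy : y ∉ zpowers a) => H1.UniqueSub.main (uniq_sub hu) hn1 hn
    (normal_of_index_eq_two hi) hcent hy (Subgroup.sq_mem_of_index_two hi y)
  exact ⟨n, (hmain y₀ hy₀).2.1, hn, fun y hy => (hmain y hy).2.2⟩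

end Q

section S

variable {S : Type*} [Group S]

theorem derived_cyclic (D : Subgroup S) (hD : D ≤ center S) (X : Subgroup S) (hX : X.index = 2)
    {g : S} (hg : g ∈ X) (hgen : ∀ x ∈ X, ∃ i : ℤ, ∃ d ∈ D, x = g ^ i * d) :
    ∃ c, commutator S = zpowers c := by
  have hXn : X.Normal := normal_of_index_eq_two hX
  have hex : ∃ t, t ∉ X := by
    by_contra hcon
    push Not at hcon
    have : X = ⊤ := (eq_top_iff' _).2 hcon
    rw [this, index_top] at hX
    omega
  obtain ⟨t, ht⟩ := hex
  have hDc : ∀ d ∈ D, ∀ s, s * d = d * s := fun d hd s => Subgroup.mem_center_iff.1 (hD hd) s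
  have hXc : ∀ x ∈ X, ∀ y ∈ X, x * y = y * x := by
    intro x hx y hy
    obtain ⟨i, d, hd, rfl⟩ := hgen x hx
    obtain ⟨j, e, he, rfl⟩ := hgen y hy
    have h1 := ((Commute.refl g).zpow_zpow i j).eq
    calc g ^ i * d * (g ^ j * e) = g ^ i * (d * g ^ j) * e := by group
      _ = g ^ i * (g ^ j * d) * e := by rw [hDc d hd]
      _ = (g ^ i * g ^ j) * (d * e) := by group
      _ = (g ^ j * g ^ i) * (e * d) := by rw [h1, hDc e he]
      _ = g ^ j * (g ^ i * e) * d := by group
      _ = g ^ j * (e * g ^ i) * d := by rw [hDc e he]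
      _ = g ^ j * e * (g ^ i * d) := by group
  have hdec : ∀ s : S, s ∈ X ∨ ∃ z ∈ X, s = z * t := by
    intro s
    by_cases hs : s ∈ X
    · exact Or.inl hs
    · right
      refine ⟨s * t⁻¹, ?_, by group⟩
      rw [Subgroup.mul_mem_iff_of_index_two hX]
      constructor
      · intro h; exact absurd h hs
      · intro h; exact absurd (inv_mem_iff.1 h) ht
  have htop : ∀ H : Subgroup S, g ∈ H → D ≤ H → t ∈ H → H = ⊤ := by
    intro H hgH hDH htH
    have hXH : X ≤ H := by
      intro x hx
      obtain ⟨i, d, hd, rfl⟩ := hgen x hx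
      exact mul_mem (zpow_mem hgH i) (hDH hd)
    rw [eq_top_iff]
    intro s _
    rcases hdec s with hs | ⟨z, hz, rfl⟩
    · exact hXH hs
    · exact mul_mem (hXH hz) htH
  set c := g * (t * g * t⁻¹)⁻¹ with hc
  have hg' : t * g * t⁻¹ ∈ X := hXn.conj_mem g hg t
  have hcX : c ∈ X := mul_mem hg (inv_mem hg')
  have htt : t * t ∈ X := Subgroup.mul_self_mem_of_index_two hX t
  have htc : t * c * t⁻¹ = c⁻¹ := by
    have h1 : t * (t * g * t⁻¹) * t⁻¹ = g := by
      calc t * (t * g * t⁻¹) * t⁻¹ = (t * t) * g * (t * t)⁻¹ := by group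
        _ = g * (t * t) * (t * t)⁻¹ := by rw [hXc _ htt g hg]
        _ = g := by group
    calc t * c * t⁻¹ = (t * g * t⁻¹) * (t * (t * g * t⁻¹) * t⁻¹)⁻¹ := by rw [hc]; group
      _ = (t * g * t⁻¹) * g⁻¹ := by rw [h1]
      _ = c⁻¹ := by rw [hc]; group
  have hcn : ∀ s : S, s * c * s⁻¹ ∈ zpowers c := by
    intro s
    rcases hdec s with hs | ⟨z, hz, rfl⟩
    · rw [hXc s hs c hcX, mul_inv_cancel_right]; exact mem_zpowers c
    · have h1 : z * t * c * (z * t)⁻¹ = c⁻¹ := by
        calc z * t * c * (z * t)⁻¹ = z * (t * c * t⁻¹) * z⁻¹ := by group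
          _ = z * c⁻¹ * z⁻¹ := by rw [htc]
          _ = c⁻¹ * z * z⁻¹ := by rw [hXc z hz c⁻¹ (inv_mem hcX)]
          _ = c⁻¹ := by group
      rw [h1]; exact inv_mem (mem_zpowers c)
  have hN : (zpowers c).Normal := by
    refine ⟨?_⟩
    rintro _ ⟨i, rfl⟩ s
    show s * c ^ i * s⁻¹ ∈ zpowers c
    rw [← conj_zpow]
    exact zpow_mem (hcn s) i
  let π := QuotientGroup.mk' (zpowers c)
  have hcomm : ∀ u v : S, π u * π v = π v * π u ↔ u * v * u⁻¹ * v⁻¹ ∈ zpowers c := by
    intro u v
    have h1 : u * v * u⁻¹ * v⁻¹ ∈ zpowers c ↔ π (u * v * u⁻¹ * v⁻¹) = 1 :=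
      (QuotientGroup.eq_one_iff _).symm
    rw [h1, map_mul, map_mul, map_mul, map_inv, map_inv, mul_inv_eq_one, mul_inv_eq_iff_eq_mul]
  have hgt : π g * π t = π t * π g := by
    rw [hcomm]
    have : g * t * g⁻¹ * t⁻¹ = c := by rw [hc]; group
    rw [this]; exact mem_zpowers c
  have hcD : ∀ d ∈ D, ∀ s, π s * π d = π d * π s := by
    intro d hd s
    rw [← map_mul, ← map_mul, hDc d hd]
  have hcg : ∀ s, π s * π g = π g * π s := by
    intro s
    have h1 := htop ((centralizer {π g}).comap π) (by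
      rw [mem_comap, mem_centralizer_singleton_iff]) (by
      intro d hd
      rw [mem_comap, mem_centralizer_singleton_iff]
      exact (hcD d hd g).symm) (by
      rw [mem_comap, mem_centralizer_singleton_iff]
      exact hgt.symm)
    have h3 : s ∈ ((centralizer {π g}).comap π) := by rw [h1]; trivial
    rw [mem_comap, mem_centralizer_singleton_iff] at h3
    exact h3
  have hct : ∀ s, π s * π t = π t * π s := by
    intro s
    have h1 := htop ((centralizer {π t}).comap π) (by
      rw [mem_comap, mem_centralizer_singleton_iff]; exact hgt) (by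
      intro d hd
      rw [mem_comap, mem_centralizer_singleton_iff]
      exact (hcD d hd t).symm) (by
      rw [mem_comap, mem_centralizer_singleton_iff])
    have h3 : s ∈ ((centralizer {π t}).comap π) := by rw [h1]; trivial
    rw [mem_comap, mem_centralizer_singleton_iff] at h3
    exact h3
  have hall : ∀ u v, π u * π v = π v * π u := by
    intro u v
    have h1 := htop ((centralizer {π u}).comap π) (by
      rw [mem_comap, mem_centralizer_singleton_iff]; exact (hcg u).symm) (by
      intro d hd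
      rw [mem_comap, mem_centralizer_singleton_iff]
      exact (hcD d hd u).symm) (by
      rw [mem_comap, mem_centralizer_singleton_iff]; exact (hct u).symm)
    have h3 : v ∈ ((centralizer {π u}).comap π) := by rw [h1]; trivial
    rw [mem_comap, mem_centralizer_singleton_iff] at h3
    exact h3.symm
  refine ⟨c, le_antisymm ?_ ?_⟩
  · rw [_root_.commutator_def, Subgroup.commutator_le]
    intro u _ v _
    rw [commutatorElement_def]
    exact (hcomm u v).1 (hall u v)
  · rw [zpowers_le]
    have : c = ⁅g, t⁆ := by rw [hc, commutatorElement_def]; group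
    rw [this, _root_.commutator_def]
    exact Subgroup.commutator_mem_commutator (mem_top g) (mem_top t)

end S

end H58.UniqInv
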