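import Mathlib

/-! Sylow lemmas used for the uniqueness of `J₁`. -/

set_option autoImplicit false
open Subgroup

namespace H58.J1

theorem factorization_of {n p k : ℕ} (hp : p.Prime) (hn : n ≠ 0) (h1 : p ^ k ∣ n) (h2 : ¬ p ^ (k + 1) ∣ n) :
    n.factorization p = k := by
  have a := (hp.pow_dvd_iff_le_factorization hn).1 h1
  by_contra hcon
  exact h2 ((hp.pow_dvd_iff_le_factorization hn).2 (by omega))

section
variable {Y : Type*} [Group Y]

theorem exists_pow_lt {x b : Y} {n : ℕ} (hb : orderOf b = n) (hn : 0 < n) (h : x ∈ zpowers b) :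
    ∃ k < n, b ^ k = x := by
  classical
  subst hb
  obtain ⟨k, hk⟩ := mem_zpowers_iff.1 h
  refine ⟨(k % (orderOf b : ℤ)).toNat, ?_, ?_⟩
  · have h1 := Int.emod_lt_of_pos k (show (0 : ℤ) < orderOf b by exact_mod_cast hn)
    have h2 := Int.emod_nonneg k (show (orderOf b : ℤ) ≠ 0 by exact_mod_cast hn.ne')
    omega
  · have h2 := Int.emod_nonneg k (show (orderOf b : ℤ) ≠ 0 by exact_mod_cast hn.ne')
    rw [← zpow_natCast, Int.toNat_of_nonneg h2, zpow_mod_orderOf, hk]

theorem orderOf_conj (g x : Y) : orderOf (g * x * g⁻¹) = orderOf x := by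
  have : g * x * g⁻¹ = MulAut.conj g x := rfl
  rw [this]
  exact MulEquiv.orderOf_eq (MulAut.conj g) x

theorem mem_normalizer_zpowers [Finite Y] {a x : Y} (h : x * a * x⁻¹ ∈ zpowers a) :
    x ∈ normalizer ((zpowers a : Subgroup Y) : Set Y) := by
  have h1 : zpowers (x * a * x⁻¹) = zpowers a := by
    apply Subgroup.eq_of_le_of_card_ge
    · rw [zpowers_le]; exact h
    · rw [Nat.card_zpowers, Nat.card_zpowers, orderOf_conj]
  rw [mem_normalizer_iff]
  intro y
  constructor
  · intro hy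
    obtain ⟨k, rfl⟩ := mem_zpowers_iff.1 hy
    have h2 := zpow_mem h k
    rw [conj_zpow] at h2
    exact h2
  · intro hy
    change x * y * x⁻¹ ∈ zpowers a at hy
    rw [← h1] at hy
    obtain ⟨k, hk⟩ := mem_zpowers_iff.1 hy
    rw [conj_zpow] at hk
    have h3 : a ^ k = y := by
      have := mul_right_cancel (mul_left_cancel (by simpa [mul_assoc] using hk : x * (a ^ k * x⁻¹) = x * (y * x⁻¹)))
      exact this
    rw [← h3]
    exact zpow_mem (mem_zpowers a) k

theorem conj_mem_of_normalizer {a x : Y} (h : x ∈ normalizer ((zpowers a : Subgroup Y) : Set Y)) :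
    x * a * x⁻¹ ∈ zpowers a := ((mem_normalizer_iff.1 h) a).1 (mem_zpowers a)

end

section
variable {Y : Type*} [Group Y] [Finite Y]

theorem conj_prime {p : ℕ} (hp : p.Prime) (h : ¬ p ^ 2 ∣ Nat.card Y) {a b : Y} (ha : orderOf a = p)
    (hb : orderOf b = p) : ∃ g : Y, zpowers (g * a * g⁻¹) = zpowers b := by
  have : Fact p.Prime := ⟨hp⟩
  have hf : (Nat.card Y).factorization p = 1 :=
    factorization_of hp Nat.card_pos.ne' (by rw [pow_one, ← ha]; exact orderOf_dvd_natCard a) h
  let A : Sylow p Y := Sylow.ofCard (zpowers a) (by rw [Nat.card_zpowers, ha, hf, pow_one])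
  let B : Sylow p Y := Sylow.ofCard (zpowers b) (by rw [Nat.card_zpowers, hb, hf, pow_one])
  obtain ⟨g, hg⟩ := MulAction.exists_smul_eq Y A B
  refine ⟨g, ?_⟩
  have h1 : ((g • A : Sylow p Y) : Subgroup Y) = (zpowers a).map (MulAut.conj g).toMonoidHom := rfl
  rw [hg] at h1
  change zpowers b = _ at h1
  rw [h1, MonoidHom.map_zpowers]
  rfl

theorem conj_two (h : ¬ 4 ∣ Nat.card Y) {a b : Y} (ha : orderOf a = 2) (hb : orderOf b = 2) :
    ∃ g : Y, g * a * g⁻¹ = b := by
  obtain ⟨g, hg⟩ := conj_prime Nat.prime_two (by norm_num; exact h) ha hb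
  refine ⟨g, ?_⟩
  have h1 : b ∈ zpowers (g * a * g⁻¹) := by rw [hg]; exact mem_zpowers b
  obtain ⟨k, hk, hk2⟩ := exists_pow_lt (orderOf_conj g a ▸ ha : orderOf (g * a * g⁻¹) = 2) (by norm_num) h1
  interval_cases k
  · rw [pow_zero] at hk2
    rw [← hk2, orderOf_one] at hb
    omega
  · rw [pow_one] at hk2; exact hk2

theorem exists_inv {t : Y} (ht : orderOf t = 2) (h4 : ¬ 4 ∣ Nat.card Y) {r : ℕ} (hr : r.Prime)
    (hr1 : r ∣ Nat.card Y) (hr2 : ¬ r ∣ Nat.card (centralizer ({t} : Set Y))) :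
    ∃ z : Y, orderOf z = r ∧ t * z * t⁻¹ = z⁻¹ := by
  classical
  have hr2' : r ≠ 2 := by
    rintro rfl
    apply hr2
    have h1 : t ∈ centralizer ({t} : Set Y) := mem_centralizer_singleton_iff.2 rfl
    have h2 := orderOf_dvd_natCard (⟨t, h1⟩ : centralizer ({t} : Set Y))
    rw [Subgroup.orderOf_mk, ht] at h2
    exact h2
  have : Fact (Nat.Prime 2) := ⟨Nat.prime_two⟩
  have : Fact r.Prime := ⟨hr⟩
  have h2 : 2 ∣ Nat.card Y := by rw [← ht]; exact orderOf_dvd_natCard t
  have hf : (Nat.card Y).factorization 2 = 1 :=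
    factorization_of Nat.prime_two Nat.card_pos.ne' (by rw [pow_one]; exact h2) (by norm_num; exact h4)
  let T : Sylow 2 Y := Sylow.ofCard (zpowers t) (by rw [Nat.card_zpowers, ht, hf, pow_one])
  have hcT : Nat.card T = 2 := by
    change Nat.card (zpowers t) = 2
    rw [Nat.card_zpowers, ht]
  have hcyc : IsCyclic T := by
    change IsCyclic (zpowers t)
    infer_instance
  have hmin : (Nat.card Y).minFac = 2 := (Nat.minFac_eq_two_iff _).2 h2
  have hcomp := IsCyclic.isComplement' (P := T) hmin hcyc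
  set K := (MonoidHom.transferSylow T (hcyc.normalizer_le_centralizer hmin)).ker with hK
  have hKn : K.Normal := by rw [hK]; infer_instance
  have hKi : K.index = 2 := by
    have := hcomp.symm.index_eq_card
    rw [this]; exact hcT
  have hKc : Nat.card K * 2 = Nat.card Y := by rw [← hKi]; exact K.card_mul_index
  have hKodd : ¬ 2 ∣ Nat.card K := by
    intro h
    apply h4
    rw [← hKc]
    obtain ⟨c, hc⟩ := h
    exact ⟨c, by rw [hc]; ring⟩
  have hrK : r ∣ Nat.card K := by
    rw [← hKc] at hr1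
    rcases hr.dvd_mul.1 hr1 with h | h
    · exact h
    · exact absurd ((Nat.prime_dvd_prime_iff_eq hr Nat.prime_two).1 h) hr2'
  obtain ⟨P⟩ : Nonempty (Sylow r K) := inferInstance
  have hfr := Sylow.normalizer_sup_eq_top P
  set Q : Subgroup Y := (P : Subgroup K).map K.subtype with hQ
  set N := normalizer (Q : Set Y) with hN
  have hNe : 2 ∣ Nat.card N := by
    by_contra hodd
    have hNK : N ≤ K := by
      intro x hx
      have hxo : ¬ 2 ∣ orderOf x := by
        intro h
        apply hodd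
        have := orderOf_dvd_natCard (⟨x, hx⟩ : N)
        rw [Subgroup.orderOf_mk] at this
        exact h.trans this
      have hx2 : x ^ 2 ∈ K := by
        have := K.pow_index_mem x
        rw [hKi] at this
        exact this
      obtain ⟨m, hm⟩ : Odd (orderOf x) := by
        rw [← Nat.not_even_iff_odd, even_iff_two_dvd]; exact hxo
      have hx3 : x = (x ^ 2) ^ (m + 1) := by
        rw [← pow_mul, show 2 * (m + 1) = (2 * m + 1) + 1 by ring, pow_succ, ← hm, pow_orderOf_eq_one, one_mul]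
      rw [hx3]
      exact pow_mem hx2 _
    have h5 : K = ⊤ := by
      rw [← hfr]
      exact (sup_eq_right.2 hNK).symm
    rw [h5, index_top] at hKi
    omega
  obtain ⟨s, hs⟩ := exists_prime_orderOf_dvd_card' 2 hNe
  obtain ⟨s, hsN⟩ := s
  rw [Subgroup.orderOf_mk] at hs
  obtain ⟨g, hg⟩ := conj_two h4 hs ht
  have hQp : IsPGroup r Q := P.2.map _
  have hQc : r ∣ Nat.card Q := by
    have h6 : Nat.card Q = Nat.card P :=
      Nat.card_congr ((P : Subgroup K).equivMapOfInjective K.subtype K.subtype_injective).symm.toEquiv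
    rw [h6]
    have := P.pow_dvd_card_of_pow_dvd_card (n := 1) (by rw [pow_one]; exact hrK)
    rw [pow_one] at this
    exact this
  let φ : Q →* Q := (Q.normalizerMonoidHom ⟨s, hsN⟩ : MulAut Q).toMonoidHom
  have hφ : ∀ x : Q, (φ x : Y) = s * x * s⁻¹ := fun x => rfl
  have hss : s * s = 1 := by rw [← pow_two, ← hs]; exact pow_orderOf_eq_one s
  have hsi : s⁻¹ = s := inv_eq_of_mul_eq_one_left hss
  have hfpf : MonoidHom.FixedPointFree φ := by
    intro x hx
    by_contra hx1
    have h7 : s * (x : Y) * s⁻¹ = x := by rw [← hφ, hx]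
    have h8 : g * (x : Y) * g⁻¹ ∈ centralizer ({t} : Set Y) := by
      rw [mem_centralizer_singleton_iff, ← hg]
      have h9 : s * (x : Y) = x * s := by rw [mul_inv_eq_iff_eq_mul] at h7; exact h7
      calc g * (x : Y) * g⁻¹ * (g * s * g⁻¹) = g * (x * s) * g⁻¹ := by group
        _ = g * (s * x) * g⁻¹ := by rw [h9]
        _ = g * s * g⁻¹ * (g * x * g⁻¹) := by group
    apply hr2
    have h10 := orderOf_dvd_natCard (⟨_, h8⟩ : centralizer ({t} : Set Y))
    rw [Subgroup.orderOf_mk, orderOf_conj] at h10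
    refine dvd_trans ?_ h10
    obtain ⟨k, hk⟩ := IsPGroup.iff_orderOf.1 hQp x
    rw [Subgroup.orderOf_coe, hk]
    rcases k with _ | k
    · rw [pow_zero, orderOf_eq_one_iff] at hk; exact absurd hk hx1
    · rw [pow_succ]; exact dvd_mul_left _ _
  have hinv : Function.Involutive φ := by
    intro x
    apply Subtype.ext
    rw [hφ, hφ]
    calc s * (s * (x : Y) * s⁻¹) * s⁻¹ = (s * s) * x * (s * s)⁻¹ := by group
      _ = x := by rw [hss]; group
  have hI := hfpf.coe_eq_inv_of_involutive hinv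
  obtain ⟨z, hz⟩ := exists_prime_orderOf_dvd_card' r hQc
  refine ⟨g * (z : Y) * g⁻¹, ?_, ?_⟩
  · rw [orderOf_conj, Subgroup.orderOf_coe, hz]
  · have h11 : s * (z : Y) * s⁻¹ = (z : Y)⁻¹ := by
      rw [← hφ, hI]; rfl
    rw [← hg]
    calc g * s * g⁻¹ * (g * (z : Y) * g⁻¹) * (g * s * g⁻¹)⁻¹ = g * (s * z * s⁻¹) * g⁻¹ := by group
      _ = g * (z : Y)⁻¹ * g⁻¹ := by rw [h11]
      _ = (g * (z : Y) * g⁻¹)⁻¹ := by group

/-- the N/C numerology for a subgroup of prime order `p` with `p` exactly dividing the group order -/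
theorem nc {p : ℕ} (hp : p.Prime) (h : ¬ p ^ 2 ∣ Nat.card Y) {a : Y} (ha : orderOf a = p) :
    ∃ n f : ℕ, Nat.card Y = n * (f * Nat.card (centralizer ({a} : Set Y))) ∧ n % p = 1 ∧
      f * Nat.card (centralizer ({a} : Set Y)) = Nat.card (normalizer ((zpowers a : Subgroup Y) : Set Y)) ∧
      f ∣ p - 1 ∧
      (∀ (x : Y) (q : ℕ), q.Prime → x ^ q = 1 → x * a * x⁻¹ ∈ zpowers a → x * a ≠ a * x → q ∣ f) := by
  classical
  have : Fact p.Prime := ⟨hp⟩
  have hf : (Nat.card Y).factorization p = 1 :=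
    factorization_of hp Nat.card_pos.ne' (by rw [pow_one, ← ha]; exact orderOf_dvd_natCard a) h
  let A : Sylow p Y := Sylow.ofCard (zpowers a) (by rw [Nat.card_zpowers, ha, hf, pow_one])
  set N := normalizer ((zpowers a : Subgroup Y) : Set Y) with hN
  have hn1 := card_sylow_modEq_one p Y
  have hn2 : Nat.card (Sylow p Y) = N.index := A.card_eq_index_normalizer
  let χ : N →* MulAut (zpowers a) := (zpowers a).normalizerMonoidHom
  have hk1 : χ.ker = (centralizer ((zpowers a : Subgroup Y) : Set Y)).subgroupOf N := normalizerMonoidHom_ker _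
  have hcz : centralizer ((zpowers a : Subgroup Y) : Set Y) = centralizer ({a} : Set Y) := by
    rw [zpowers_eq_closure, centralizer_closure]
  have hle : centralizer ({a} : Set Y) ≤ N := by
    intro x hx
    rw [mem_centralizer_singleton_iff] at hx
    apply mem_normalizer_zpowers
    rw [hx, mul_inv_cancel_right]
    exact mem_zpowers a
  have hk2 : Nat.card χ.ker = Nat.card (centralizer ({a} : Set Y)) := by
    rw [hk1, hcz]
    exact Nat.card_congr (subgroupOfEquivOfLe hle).toEquiv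
  have hk3 : Nat.card χ.range * Nat.card (centralizer ({a} : Set Y)) = Nat.card N := by
    rw [← hk2, ← index_ker]
    exact χ.ker.index_mul_card
  refine ⟨N.index, Nat.card χ.range, ?_, ?_, hk3, ?_, ?_⟩
  · rw [hk3]; exact (N.index_mul_card).symm
  · rw [← hn2]
    have := hn1
    rw [Nat.ModEq, Nat.mod_eq_of_lt hp.one_lt] at this
    exact this
  · have h1 := Subgroup.card_subgroup_dvd_card χ.range
    rw [IsCyclic.card_mulAut, Nat.card_zpowers, ha, Nat.totient_prime hp] at h1
    exact h1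
  · intro x q hq hx hxa hne
    have hqf : Fact q.Prime := ⟨hq⟩
    have hxN : x ∈ N := mem_normalizer_zpowers hxa
    have h1 : (χ ⟨x, hxN⟩) ^ q = 1 := by
      rw [← map_pow]
      have : (⟨x, hxN⟩ : N) ^ q = 1 := Subtype.ext hx
      rw [this, map_one]
    have h2 : χ ⟨x, hxN⟩ ≠ 1 := by
      intro h3
      have h4 : (⟨x, hxN⟩ : N) ∈ χ.ker := h3
      rw [hk1, hcz, mem_subgroupOf, mem_centralizer_singleton_iff] at h4
      exact hne h4
    have h3 : orderOf (χ ⟨x, hxN⟩) = q := orderOf_eq_prime h1 h2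
    have h4 := orderOf_dvd_natCard (⟨χ ⟨x, hxN⟩, ⟨_, rfl⟩⟩ : χ.range)
    rw [← Subgroup.orderOf_coe] at h4
    change orderOf (χ ⟨x, hxN⟩) ∣ _ at h4
    rw [h3] at h4
    exact h4

/-- if the Sylow 2-subgroups are abelian then `X` and `C_X(t)` have the same 2-part -/
theorem two_part (hab : ∀ T : Subgroup Y, IsPGroup 2 T → ∀ x ∈ T, ∀ y ∈ T, x * y = y * x) {t : Y}
    (ht : orderOf t = 2) (X : Subgroup Y) (htX : t ∈ X) {k : ℕ} (h : 2 ^ k ∣ Nat.card X) :
    2 ^ k ∣ Nat.card (X ⊓ centralizer ({t} : Set Y) : Subgroup Y) := by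
  have : Fact (Nat.Prime 2) := ⟨Nat.prime_two⟩
  have h1 : IsPGroup 2 (zpowers (⟨t, htX⟩ : X)) := IsPGroup.of_card (n := 1) (by
    rw [Nat.card_zpowers, Subgroup.orderOf_mk, ht, pow_one])
  obtain ⟨T, hT⟩ := h1.exists_le_sylow
  have h2 := T.pow_dvd_card_of_pow_dvd_card h
  have h3 : IsPGroup 2 ((T : Subgroup X).map X.subtype) := T.2.map _
  have h4 : (T : Subgroup X).map X.subtype ≤ X ⊓ centralizer ({t} : Set Y) := by
    rintro _ ⟨x, hx, rfl⟩
    refine ⟨x.2, ?_⟩
    change (x : Y) ∈ centralizer ({t} : Set Y)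
    rw [mem_centralizer_singleton_iff]
    exact hab _ h3 _ ⟨x, hx, rfl⟩ _ ⟨⟨t, htX⟩, hT (mem_zpowers _), rfl⟩
  have h5 := Subgroup.card_dvd_of_le h4
  have h6 : Nat.card ((T : Subgroup X).map X.subtype) = Nat.card T :=
    Nat.card_congr ((T : Subgroup X).equivMapOfInjective X.subtype X.subtype_injective).symm.toEquiv
  rw [h6] at h5
  exact h2.trans h5

end
end H58.J1
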