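import Cfsg.Agent.Lib.H94.J1Loc2
import Cfsg.Agent.Lib.H58.J1C

/-! Uniqueness of `J₁`: the normalizer of a Sylow 2-subgroup. -/

set_option autoImplicit false
set_option linter.unusedSectionVars false
open Subgroup Cfsg H94.J1 Equiv

namespace H58.J1

set_option maxRecDepth 100000

/-- letters of the model -/
def w0 : MP := (1, ⟨c[1,3]*c[2,4], by rw [Equiv.Perm.mem_alternatingGroup]; decide +kernel⟩)
def v1 : MP := (1, ⟨c[0,1]*c[2,3], by rw [Equiv.Perm.mem_alternatingGroup]; decide +kernel⟩)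
def v2 : MP := u0 * v1 * u0⁻¹
def v3 : MP := v1 * v2
def c0 : MP := u0⁻¹ * w0 * u0 * w0 * u0
def uu : MP := c0 * v1 * c0⁻¹

/-- the twist by `(0 1)` -/
def tw : MP ≃* MP := MulEquiv.prodCongr (MulEquiv.refl _) (MulAut.conjNormal (H := alternatingGroup (Fin 5)) (swap 0 1))

theorem tw_u0 : tw u0 = u0⁻¹ := by decide +kernel
theorem tw_v1 : tw v1 = v1 := by decide +kernel
theorem tw_z0 : tw z0 = z0 := by decide +kernel
theorem tw_u0' : tw.symm u0 = u0⁻¹ := by
  rw [MulEquiv.symm_apply_eq, map_inv, tw_u0, inv_inv]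
theorem tw_v1' : tw.symm v1 = v1 := by rw [MulEquiv.symm_apply_eq, tw_v1]

theorem u0_order : orderOf u0 = 3 := orderOf_eq_prime (by decide +kernel) (by decide +kernel)
theorem v1_sq : v1 * v1 = 1 := by decide +kernel
theorem v2_sq : v2 * v2 = 1 := by decide +kernel
theorem v12 : v1 * v2 = v2 * v1 := by decide +kernel
theorem v1_ne_v2 : v1 ≠ v2 := by decide +kernel
theorem u0v2 : u0 * v2 * u0⁻¹ = v3 := by decide +kernel
theorem v1_mem : v1 ∈ HE := by rw [mem_HE]; decide +kernel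
theorem z0_mem : z0 ∈ HE := by rw [mem_HE]; decide +kernel
theorem HE_comm : ∀ a : MP, (a.2.1 4 = 4 ∧ a * a = 1) → ∀ b : MP, (b.2.1 4 = 4 ∧ b * b = 1) → a * b = b * a := by
  decide +kernel
theorem HE_norm : ∀ q : MP, (∀ a : MP, (a.2.1 4 = 4 ∧ a * a = 1) →
    ((q * a * q⁻¹).2.1 4 = 4 ∧ (q * a * q⁻¹) * (q * a * q⁻¹) = 1)) ↔ q.2.1 4 = 4 := by decide +kernel
theorem HE_card8 : (Finset.univ.filter fun q : MP => q.2.1 4 = 4 ∧ q * q = 1).card = 8 := by decide +kernel
theorem HA_card24 : (Finset.univ.filter fun q : MP => q.2.1 4 = 4).card = 24 := by decide +kernel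

section
variable {G : Type*} [Group G] [Finite G] {t : G} {e : centralizer ({t} : Set G) ≃* MP}

theorem mem_norm {H : Subgroup G} {x : G} (h : ∀ y ∈ H, x * y * x⁻¹ ∈ H) : x ∈ normalizer (H : Set G) := by
  rw [mem_normalizer_iff]
  intro y
  refine ⟨h y, fun hy => ?_⟩
  let f : H → H := fun y => ⟨x * y * x⁻¹, h y y.2⟩
  have hf : Function.Injective f := by
    intro a b hab
    have h1 : x * (a : G) * x⁻¹ = x * b * x⁻¹ := congrArg Subtype.val hab
    exact Subtype.ext (mul_left_cancel (mul_right_cancel h1))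
  obtain ⟨z, hz⟩ := (Finite.injective_iff_surjective.1 hf) ⟨_, hy⟩
  have h2 : x * (z : G) * x⁻¹ = x * y * x⁻¹ := congrArg Subtype.val hz
  have h3 : (z : G) = y := mul_left_cancel (mul_right_cancel h2)
  rw [← h3]; exact z.2

/-- the Sylow 2-subgroup -/
def EE (e : centralizer ({t} : Set G) ≃* MP) : Subgroup G := HE.map (emb e)

theorem mem_EE {x : G} : x ∈ EE e ↔ ∃ q : MP, (q.2.1 4 = 4 ∧ q * q = 1) ∧ emb e q = x := Iff.rfl

theorem card_EE : Nat.card (EE e) = 8 := by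
  have h1 : Nat.card (EE e) = Nat.card HE :=
    Nat.card_congr (HE.equivMapOfInjective (emb e) (emb_inj e)).symm.toEquiv
  have h2 : Nat.card HE = Nat.card {q : MP // q.2.1 4 = 4 ∧ q * q = 1} := rfl
  rw [h1, h2, Nat.card_eq_fintype_card, Fintype.card_subtype, HE_card8]

theorem EE_comm {x y : G} (hx : x ∈ EE e) (hy : y ∈ EE e) : x * y = y * x := by
  obtain ⟨a, ha, rfl⟩ := mem_EE.1 hx
  obtain ⟨b, hb, rfl⟩ := mem_EE.1 hy
  rw [← map_mul, ← map_mul, HE_comm a ha b hb]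

theorem EE_sq {x : G} (hx : x ∈ EE e) : x * x = 1 := by
  obtain ⟨a, ha, rfl⟩ := mem_EE.1 hx
  rw [← map_mul, ha.2, map_one]

theorem t_mem_EE (L : Loc t e) : t ∈ EE e := by
  exact ⟨z0, z0_mem, emb_z0 e L.ht⟩

theorem EE_sylow (hG : Nat.card G = 175560) : ∃ S : Sylow 2 G, (S : Subgroup G) = EE e := by
  refine ⟨Sylow.ofCard (EE e) ?_, rfl⟩
  rw [card_EE, hG, factorization_of (k := 3) Nat.prime_two (by norm_num) (by norm_num) (by norm_num)]
  norm_num

/-- 2-subgroups are abelian -/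
theorem ab2 (e : centralizer ({t} : Set G) ≃* MP) (hG : Nat.card G = 175560) :
    ∀ T : Subgroup G, IsPGroup 2 T → ∀ x ∈ T, ∀ y ∈ T, x * y = y * x := by
  have : Fact (Nat.Prime 2) := ⟨Nat.prime_two⟩
  obtain ⟨S, hS⟩ := EE_sylow (e := e) hG
  intro T hT x hx y hy
  obtain ⟨Q, hQ⟩ := hT.exists_le_sylow
  obtain ⟨g, hg⟩ := MulAction.exists_smul_eq G S Q
  have h1 : (Q : Subgroup G) = (EE e).map (MulAut.conj g).toMonoidHom := by
    rw [← hg, ← hS]; rfl
  have h2 : ∀ z ∈ T, ∃ z' ∈ EE e, g * z' * g⁻¹ = z := by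
    intro z hz
    have := hQ hz
    rw [h1] at this
    exact this
  obtain ⟨x', hx', rfl⟩ := h2 x hx
  obtain ⟨y', hy', rfl⟩ := h2 y hy
  have h3 := EE_comm hx' hy'
  calc g * x' * g⁻¹ * (g * y' * g⁻¹) = g * (x' * y') * g⁻¹ := by group
    _ = g * (y' * x') * g⁻¹ := by rw [h3]
    _ = _ := by group

theorem fuse (L : Loc t e) (hG : Nat.card G = 175560) {x : G} (hx : x ∈ EE e) (hx1 : x ≠ 1) :
    ∃ n ∈ normalizer ((EE e : Subgroup G) : Set G), n * t * n⁻¹ = x := by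
  have : Fact (Nat.Prime 2) := ⟨Nat.prime_two⟩
  obtain ⟨S, hS⟩ := EE_sylow (e := e) hG
  have hcm : IsMulCommutative S := by
    refine ⟨⟨fun a b => Subtype.ext ?_⟩⟩
    have ha : (a : G) ∈ EE e := by rw [← hS]; exact a.2
    have hb : (b : G) ∈ EE e := by rw [← hS]; exact b.2
    exact EE_comm ha hb
  have ho : orderOf x = 2 := sq_one_iff.1 ⟨EE_sq hx, hx1⟩
  obtain ⟨g, hg⟩ := isConj_iff.1 (L.conj x ho)
  have htS : t ∈ S := by
    change t ∈ (S : Subgroup G)
    rw [hS]; exact t_mem_EE L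
  have hxS : g⁻¹⁻¹ * t * g⁻¹ ∈ S := by
    rw [inv_inv, hg]
    change x ∈ (S : Subgroup G)
    rw [hS]; exact hx
  obtain ⟨n, hn, hn2⟩ := Sylow.conj_eq_normalizer_conj_of_mem S t g⁻¹ htS hxS
  have hn' : n ∈ normalizer ((EE e : Subgroup G) : Set G) := by rw [← hS]; exact hn
  refine ⟨n⁻¹, inv_mem hn', ?_⟩
  rw [inv_inv, ← hn2, inv_inv, hg]

theorem card_N (L : Loc t e) (hG : Nat.card G = 175560) :
    Nat.card (normalizer ((EE e : Subgroup G) : Set G)) = 168 := by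
  classical
  set N := normalizer ((EE e : Subgroup G) : Set G) with hN
  have hEN : EE e ≤ N := le_normalizer
  have htN : t ∈ N := hEN (t_mem_EE L)
  have h1 := H18.CharInd.card_isConj_mul_card_centralizer (⟨t, htN⟩ : N)
  have h2 : Nat.card {x : N // IsConj (⟨t, htN⟩ : N) x} = 7 := by
    have h3 : Nat.card {x : N // IsConj (⟨t, htN⟩ : N) x} = Nat.card {q : MP // (q.2.1 4 = 4 ∧ q * q = 1) ∧ q ≠ 1} := by
      symm
      refine Nat.card_congr (Equiv.ofBijective (fun q => ⟨⟨emb e q.1, hEN ⟨q.1, q.2.1, rfl⟩⟩, ?_⟩) ⟨?_, ?_⟩)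
      · have h4 : emb e q.1 ≠ 1 := fun h => q.2.2 (emb_inj e (by rw [h, map_one]))
        obtain ⟨n, hn, hn2⟩ := fuse L hG (x := emb e q.1) ⟨q.1, q.2.1, rfl⟩ h4
        exact isConj_iff.2 ⟨⟨n, hn⟩, Subtype.ext hn2⟩
      · intro a b hab
        exact Subtype.ext (emb_inj e (congrArg (fun x : {x : N // IsConj (⟨t, htN⟩ : N) x} => (x.1 : G)) hab))
      · rintro ⟨⟨x, hx⟩, hc⟩
        obtain ⟨⟨n, hn⟩, hn2⟩ := isConj_iff.1 hc
        have h5 : n * t * n⁻¹ = x := congrArg Subtype.val hn2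
        have h6 : x ∈ EE e := by
          rw [← h5]
          exact ((mem_normalizer_iff.1 hn) t).1 (t_mem_EE L)
        obtain ⟨q, hq, rfl⟩ := mem_EE.1 h6
        refine ⟨⟨q, hq, ?_⟩, rfl⟩
        rintro rfl
        rw [map_one] at h5
        have : t = 1 := by
          have h7 := congrArg (fun y => n⁻¹ * y * n) h5
          simpa [mul_assoc] using h7
        have h8 := L.ht
        rw [this, orderOf_one] at h8
        omega
    rw [h3, Nat.card_eq_fintype_card, Fintype.card_subtype, HE_card]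
  have h3 : Nat.card (centralizer ({(⟨t, htN⟩ : N)} : Set N)) = 24 := by
    have h4 : Nat.card (centralizer ({(⟨t, htN⟩ : N)} : Set N)) = Nat.card {q : MP // q.2.1 4 = 4} := by
      symm
      refine Nat.card_congr (Equiv.ofBijective (fun q => ⟨⟨emb e q.1, ?_⟩, ?_⟩) ⟨?_, ?_⟩)
      · apply mem_norm
        rintro _ ⟨a, ha, rfl⟩
        refine ⟨q.1 * a * q.1⁻¹, (HE_norm q.1).2 q.2 a ha, ?_⟩
        rw [map_mul, map_mul, map_inv]
      · rw [mem_centralizer_singleton_iff]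
        exact Subtype.ext (emb_mem e q.1)
      · intro a b hab
        exact Subtype.ext (emb_inj e (congrArg (fun x : centralizer ({(⟨t, htN⟩ : N)} : Set N) => (x.1 : G)) hab))
      · rintro ⟨⟨x, hx⟩, hc⟩
        rw [mem_centralizer_singleton_iff] at hc
        obtain ⟨q, rfl⟩ := exists_emb e (congrArg Subtype.val hc)
        refine ⟨⟨q, ?_⟩, rfl⟩
        rw [← HE_norm]
        intro a ha
        have h5 := ((mem_normalizer_iff.1 hx) (emb e a)).1 ⟨a, ha, rfl⟩
        rw [← map_inv, ← map_mul, ← map_mul] at h5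
        obtain ⟨b, hb, hb2⟩ := mem_EE.1 h5
        have := emb_inj e hb2
        rw [← this]; exact hb
    rw [h4, Nat.card_eq_fintype_card, Fintype.card_subtype, HA_card24]
  rw [h2, h3] at h1
  omega

end
end H58.J1
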