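import Cfsg.Agent.Lib.H58.J1D

/-! Uniqueness of `J₁`: the element of order 7 acting on a Sylow 2-subgroup. -/

set_option autoImplicit false
set_option linter.unusedSectionVars false
open Subgroup Cfsg H94.J1 Equiv

namespace H58.J1

set_option maxRecDepth 100000

theorem no7 : ∀ q : MP, q ^ 7 = 1 → q = 1 := by decide +kernel
theorem z0_ne_v1 : z0 ≠ v1 := by decide +kernel

variable {G : Type*} [Group G] [Finite G] {t : G} {e : centralizer ({t} : Set G) ≃* MP}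

/-- the configuration -/
structure Setup (t : G) (e : centralizer ({t} : Set G) ≃* MP) (ρ : G) : Prop where
  L : Loc t e
  hG : Nat.card G = 175560
  r7 : orderOf ρ = 7
  r1 : ρ * t * ρ⁻¹ = emb e v1
  r2 : emb e u0 * ρ * (emb e u0)⁻¹ = ρ ^ 2

theorem arith168 (n m : ℕ) (h : n * m = 168) (hn : n % 7 = 1) : 3 ∣ m := by
  have h1 : n ∣ 168 := ⟨m, h.symm⟩
  have h2 : n ≤ 168 := Nat.le_of_dvd (by norm_num) h1
  interval_cases n <;> omega

theorem exists_rho0 (L : Loc t e) (hG : Nat.card G = 175560) :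
    ∃ ρ : G, orderOf ρ = 7 ∧ ρ ∈ normalizer ((EE e : Subgroup G) : Set G) ∧
      emb e u0 * ρ * (emb e u0)⁻¹ ∈ zpowers ρ := by
  have hp7 : Fact (Nat.Prime 7) := ⟨by norm_num⟩
  have hp3 : Fact (Nat.Prime 3) := ⟨by norm_num⟩
  have hcN := card_N L hG
  set N := normalizer ((EE e : Subgroup G) : Set G) with hN
  obtain ⟨z, hz⟩ := exists_prime_orderOf_dvd_card' 7 (G := N) (by rw [hcN]; norm_num)
  obtain ⟨n, f, h1, h2, h3, -, -⟩ := nc (Y := N) (p := 7) (by norm_num) (by rw [hcN]; norm_num) hz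
  rw [h3, hcN] at h1
  have h4 := arith168 _ _ h1.symm h2
  obtain ⟨x, hx⟩ := exists_prime_orderOf_dvd_card' 3 h4
  obtain ⟨x, hxN⟩ := x
  rw [Subgroup.orderOf_mk] at hx
  have hδN : emb e u0 ∈ N := by
    rw [hN]
    apply mem_norm
    rintro _ ⟨a, ha, rfl⟩
    refine ⟨u0 * a * u0⁻¹, (HE_norm u0).2 (by decide +kernel) a ha, ?_⟩
    rw [map_mul, map_mul, map_inv]
  have hδo : orderOf (⟨emb e u0, hδN⟩ : N) = 3 := by
    rw [Subgroup.orderOf_mk, orderOf_injective _ (emb_inj e), u0_order]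
  obtain ⟨g, hg⟩ := conj_prime (Y := N) (p := 3) (by norm_num) (by rw [hcN]; norm_num) hx hδo
  refine ⟨((g * z * g⁻¹ : N) : G), ?_, (g * z * g⁻¹).2, ?_⟩
  · rw [Subgroup.orderOf_coe, orderOf_conj, hz]
  · have h5 : g * x * g⁻¹ ∈ normalizer ((zpowers (g * z * g⁻¹) : Subgroup N) : Set N) := by
      apply mem_normalizer_zpowers
      have h6 := conj_mem_of_normalizer hxN
      obtain ⟨k, hk⟩ := mem_zpowers_iff.1 h6
      refine mem_zpowers_iff.2 ⟨k, ?_⟩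
      rw [conj_zpow, hk]
      group
    have h6 : (⟨emb e u0, hδN⟩ : N) ∈ normalizer ((zpowers (g * z * g⁻¹) : Subgroup N) : Set N) := by
      have h7 : (⟨emb e u0, hδN⟩ : N) ∈ zpowers (g * x * g⁻¹) := by rw [hg]; exact mem_zpowers _
      exact (zpowers_le.2 h5) h7
    have h7 := conj_mem_of_normalizer h6
    obtain ⟨k, hk⟩ := mem_zpowers_iff.1 h7
    refine mem_zpowers_iff.2 ⟨k, ?_⟩
    exact congrArg Subtype.val hk

theorem exists_setup (L : Loc t e) (hG : Nat.card G = 175560) :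
    ∃ (e' : centralizer ({t} : Set G) ≃* MP) (ρ : G), Setup t e' ρ := by
  classical
  obtain ⟨r, hr, hrN, hδ⟩ := exists_rho0 L hG
  set δ := emb e u0 with hδd
  have hr7 : r ^ 7 = 1 := by rw [← hr]; exact pow_orderOf_eq_one r
  -- the action on the involutions
  let f : Fin 7 → {x : EE e // (x : G) ≠ 1} := fun i =>
    ⟨⟨r ^ (i : ℕ) * t * (r ^ (i : ℕ))⁻¹, ((mem_normalizer_iff.1 (pow_mem hrN _)) t).1 (t_mem_EE L)⟩, by
      intro h
      change r ^ (i : ℕ) * t * (r ^ (i : ℕ))⁻¹ = 1 at h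
      have : t = 1 := by
        have h7 := congrArg (fun y => (r ^ (i : ℕ))⁻¹ * y * r ^ (i : ℕ)) h
        simpa [mul_assoc] using h7
      have h8 := L.ht
      rw [this, orderOf_one] at h8
      omega⟩
  have key : ∀ i j : ℕ, i < j → j < 7 → r ^ i * t * (r ^ i)⁻¹ = r ^ j * t * (r ^ j)⁻¹ → False := by
    intro i j hij hj h
    obtain ⟨d, rfl⟩ := Nat.exists_eq_add_of_lt hij
    have h1 : r ^ (d + 1) * t = t * r ^ (d + 1) := by
      have h2 : r ^ (i + d + 1) = r ^ i * r ^ (d + 1) := by rw [← pow_add]; rfl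
      rw [h2] at h
      have h3 : r ^ i * t * (r ^ i)⁻¹ = r ^ i * (r ^ (d + 1) * t * (r ^ (d + 1))⁻¹) * (r ^ i)⁻¹ := by
        rw [h]; group
      have h4 := mul_left_cancel (mul_right_cancel h3)
      rw [eq_mul_inv_iff_mul_eq] at h4
      exact h4.symm
    obtain ⟨q, hq⟩ := exists_emb e h1
    have h5 : q = 1 := by
      apply no7
      apply emb_inj e
      rw [map_pow, hq, map_one, ← pow_mul, mul_comm, pow_mul, hr7, one_pow]
    rw [h5, map_one] at hq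
    have h6 := orderOf_dvd_of_pow_eq_one hq.symm
    rw [hr] at h6
    have := Nat.le_of_dvd (by omega) h6
    omega
  have hf : Function.Injective f := by
    intro i j hij
    have h1 : r ^ (i : ℕ) * t * (r ^ (i : ℕ))⁻¹ = r ^ (j : ℕ) * t * (r ^ (j : ℕ))⁻¹ :=
      congrArg (fun x : {x : EE e // (x : G) ≠ 1} => (x.1 : G)) hij
    apply Fin.ext
    rcases lt_trichotomy (i : ℕ) (j : ℕ) with h | h | h
    · exact (key _ _ h j.2 h1).elim
    · exact h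
    · exact (key _ _ h i.2 h1.symm).elim
  have hcard : Nat.card {x : EE e // (x : G) ≠ 1} = 7 := by
    have h3 : Nat.card {x : EE e // (x : G) ≠ 1} = Nat.card {q : MP // (q.2.1 4 = 4 ∧ q * q = 1) ∧ q ≠ 1} := by
      symm
      refine Nat.card_congr (Equiv.ofBijective (fun q => ⟨⟨emb e q.1, ⟨q.1, q.2.1, rfl⟩⟩, ?_⟩) ⟨?_, ?_⟩)
      · exact fun h => q.2.2 (emb_inj e (by rw [map_one]; exact h))
      · intro a b hab
        exact Subtype.ext (emb_inj e (congrArg (fun x : {x : EE e // (x : G) ≠ 1} => (x.1 : G)) hab))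
      · rintro ⟨⟨x, hx⟩, hc⟩
        obtain ⟨q, hq, rfl⟩ := mem_EE.1 hx
        refine ⟨⟨q, hq, ?_⟩, rfl⟩
        rintro rfl
        exact hc (map_one _)
    rw [h3, Nat.card_eq_fintype_card, Fintype.card_subtype, HE_card]
  have hfs := (hf.bijective_of_nat_card_le (by rw [hcard, Nat.card_eq_fintype_card, Fintype.card_fin])).2
  have hv1 : emb e v1 ≠ 1 := fun h => absurd (emb_inj e (by rw [h, map_one])) (by decide +kernel : v1 ≠ 1)
  obtain ⟨i, hi⟩ := hfs ⟨⟨emb e v1, ⟨v1, v1_mem, rfl⟩⟩, hv1⟩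
  have hi' : r ^ (i : ℕ) * t * (r ^ (i : ℕ))⁻¹ = emb e v1 :=
    congrArg (fun x : {x : EE e // (x : G) ≠ 1} => (x.1 : G)) hi
  set ρ := r ^ (i : ℕ) with hρ
  have hz := emb_z0 e L.ht
  have hi0 : (i : ℕ) ≠ 0 := by
    intro h
    rw [hρ, h, pow_zero, one_mul, inv_one, mul_one] at hi'
    exact z0_ne_v1 (emb_inj e (hz.trans hi'))
  have hρ7 : orderOf ρ = 7 := by
    have : Fact (Nat.Prime 7) := ⟨by norm_num⟩
    apply orderOf_eq_prime
    · rw [hρ, ← pow_mul, mul_comm, pow_mul, hr7, one_pow]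
    · intro h
      have h6 := orderOf_dvd_of_pow_eq_one h
      rw [hr] at h6
      have := Nat.le_of_dvd (by omega) h6
      omega
  have hzz : zpowers ρ = zpowers r := by
    apply Subgroup.eq_of_le_of_card_ge
    · rw [zpowers_le, hρ]; exact pow_mem (mem_zpowers r) _
    · rw [Nat.card_zpowers, Nat.card_zpowers, hr, hρ7]
  have hδρ : δ * ρ * δ⁻¹ ∈ zpowers ρ := by
    rw [hzz, hρ, ← conj_pow]
    exact pow_mem hδ _
  obtain ⟨k, hk, hk2⟩ := exists_pow_lt hρ7 (by norm_num) hδρ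
  have hδt : δ * t = t * δ := emb_mem e u0
  have hδ3 : δ * δ * δ = 1 := by
    have : δ ^ 3 = 1 := by rw [hδd, ← map_pow, u0_pow, map_one]
    rw [← this, pow_succ, pow_two]
  have hA : ∀ m : ℕ, δ * ρ ^ m * δ⁻¹ = ρ ^ (k * m) := by
    intro m
    rw [← conj_pow, ← hk2, ← pow_mul]
  have hk3 : ρ ^ (k * k * k) = ρ := by
    have h1 : δ * (δ * (δ * ρ ^ 1 * δ⁻¹) * δ⁻¹) * δ⁻¹ = ρ ^ (k * (k * (k * 1))) := by rw [hA, hA, hA]
    have h2 : δ * (δ * (δ * ρ ^ 1 * δ⁻¹) * δ⁻¹) * δ⁻¹ = (δ * δ * δ) * ρ * (δ * δ * δ)⁻¹ := by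
      rw [pow_one]; group
    rw [hδ3] at h2
    rw [show k * k * k = k * (k * (k * 1)) by ring, ← h1, h2]
    group
  have hk4 : k * k * k % 7 = 1 := by
    have : ρ ^ (k * k * k) = ρ ^ 1 := by rw [hk3, pow_one]
    rw [pow_inj_mod, hρ7] at this
    exact this
  have hv2 : ρ ^ k * t * (ρ ^ k)⁻¹ = emb e v2 := by
    rw [hk2]
    calc δ * ρ * δ⁻¹ * t * (δ * ρ * δ⁻¹)⁻¹ = δ * ρ * δ⁻¹ * (t * δ) * ρ⁻¹ * δ⁻¹ := by group
      _ = δ * (ρ * t * ρ⁻¹) * δ⁻¹ := by rw [← hδt]; group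
      _ = emb e v2 := by rw [hi', v2, map_mul, map_mul, map_inv]
  have hk5 : k = 2 ∨ k = 4 := by
    have h1 : k ≠ 1 := by
      rintro rfl
      rw [pow_one, hi'] at hv2
      exact v1_ne_v2 (emb_inj e hv2)
    interval_cases k <;> omega
  rcases hk5 with rfl | rfl
  · exact ⟨e, ρ, L, hG, hρ7, hi', hk2.symm⟩
  · refine ⟨e.trans tw, ρ, ⟨L.ht, L.conj⟩, hG, hρ7, ?_, ?_⟩
    · rw [hi']
      change _ = emb e (tw.symm v1)
      rw [tw_v1']
    · have h1 : emb (e.trans tw) u0 = δ⁻¹ := by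
        change emb e (tw.symm u0) = _
        rw [tw_u0', map_inv]
      rw [h1, inv_inv]
      have h2 : δ * ρ ^ 2 * δ⁻¹ = ρ := by
        rw [← conj_pow, ← hk2, ← pow_mul]
        have : ρ ^ (4 * 2) = ρ ^ 7 * ρ := by rw [← pow_succ]
        rw [this, ← hρ7, pow_orderOf_eq_one, one_mul]
      rw [← h2]
      have : ρ ^ 2 = δ⁻¹ * (δ * ρ ^ 2 * δ⁻¹) * δ := by group
      rw [h2] at this
      rw [h2]
      exact this.symm

namespace Setup
variable {ρ : G} (S : Setup t e ρ)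
include S

theorem r3 : ρ * emb e v1 * ρ⁻¹ = emb e v2 := by
  have hδt : emb e u0 * t = t * emb e u0 := emb_mem e u0
  calc ρ * emb e v1 * ρ⁻¹ = ρ ^ 2 * t * (ρ ^ 2)⁻¹ := by rw [← S.r1, pow_two]; group
    _ = (emb e u0 * ρ * (emb e u0)⁻¹) * t * (emb e u0 * ρ * (emb e u0)⁻¹)⁻¹ := by rw [S.r2]
    _ = emb e u0 * ρ * (emb e u0)⁻¹ * (t * emb e u0) * ρ⁻¹ * (emb e u0)⁻¹ := by group
    _ = emb e u0 * (ρ * t * ρ⁻¹) * (emb e u0)⁻¹ := by rw [← hδt]; group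
    _ = emb e v2 := by rw [S.r1, v2, map_mul, map_mul, map_inv]

theorem r4 : ρ * emb e v2 * ρ⁻¹ = t * emb e v1 := by
  have hδt : emb e u0 * t = t * emb e u0 := emb_mem e u0
  have h1 : ρ ^ 2 * t * (ρ ^ 2)⁻¹ = emb e v2 := by
    rw [← S.r3, ← S.r1, pow_two]; group
  have h2 : emb e u0 * emb e v2 * (emb e u0)⁻¹ = emb e v1 * emb e v2 := by
    rw [← map_mul, ← map_inv, ← map_mul, u0v2, v3, map_mul]
  have h3 : ρ ^ 2 * emb e v2 * (ρ ^ 2)⁻¹ = emb e v1 * emb e v2 := by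
    calc ρ ^ 2 * emb e v2 * (ρ ^ 2)⁻¹ = ρ ^ 2 * (ρ ^ 2 * t * (ρ ^ 2)⁻¹) * (ρ ^ 2)⁻¹ := by rw [h1]
      _ = (emb e u0 * ρ * (emb e u0)⁻¹) * (emb e u0 * ρ * (emb e u0)⁻¹) * t *
          ((emb e u0 * ρ * (emb e u0)⁻¹) * (emb e u0 * ρ * (emb e u0)⁻¹))⁻¹ := by rw [S.r2]; group
      _ = emb e u0 * ρ ^ 2 * (emb e u0)⁻¹ * (t * emb e u0) * (ρ ^ 2)⁻¹ * (emb e u0)⁻¹ := by
        rw [pow_two]; group
      _ = emb e u0 * (ρ ^ 2 * t * (ρ ^ 2)⁻¹) * (emb e u0)⁻¹ := by rw [← hδt]; group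
      _ = emb e v1 * emb e v2 := by rw [h1, h2]
  calc ρ * emb e v2 * ρ⁻¹ = ρ⁻¹ * (ρ ^ 2 * emb e v2 * (ρ ^ 2)⁻¹) * ρ := by group
    _ = ρ⁻¹ * (emb e v1 * emb e v2) * ρ := by rw [h3]
    _ = ρ⁻¹ * ((ρ * t * ρ⁻¹) * (ρ * emb e v1 * ρ⁻¹)) * ρ := by rw [S.r1, S.r3]
    _ = t * emb e v1 := by group

end Setup
end H58.J1
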