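import Cfsg.Agent.Lib.H58.J1E

/-! Uniqueness of `J₁`: numerology. -/

set_option autoImplicit false
set_option linter.unusedSectionVars false
open Subgroup Cfsg H94.J1 Equiv

namespace H58.J1

set_option maxRecDepth 100000

theorem v0_order : orderOf v0 = 5 := by
  have : Fact (Nat.Prime 5) := ⟨by norm_num⟩
  exact orderOf_eq_prime v0_pow v0_ne1
theorem v0_norm : (Finset.univ.filter fun q : MP => ∃ k : Fin 5, v0 ^ (k : ℕ) = q * v0 * q⁻¹).card = 20 := by
  decide +kernel
theorem s1_sq : s1 * s1 = 1 := by decide +kernel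
theorem s1_ne : s1 * v0 ≠ v0 * s1 := by decide +kernel
theorem s0_ne : s0 * u0 ≠ u0 * s0 := by decide +kernel
theorem uu_inv : uu * u0 * uu⁻¹ = u0⁻¹ := by decide +kernel
theorem uu_sq : uu * uu = 1 := by decide +kernel
theorem cent_u0 : ∀ q : MP, q * u0 = u0 * q → ∃ i : Fin 3, ∃ j : Fin 2, u0 ^ (i : ℕ) * z0 ^ (j : ℕ) = q := by
  decide +kernel

section gen
variable {G : Type*} [Group G] [Finite G]

theorem card_cent_sub {t : G} (X : Subgroup G) (h : t ∈ X) :
    Nat.card (centralizer ({(⟨t, h⟩ : X)} : Set X)) = Nat.card (X ⊓ centralizer ({t} : Set G) : Subgroup G) := by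
  refine Nat.card_congr ⟨fun x => ⟨x.1.1, x.1.2, ?_⟩, fun x => ⟨⟨x.1, x.2.1⟩, ?_⟩, fun x => rfl, fun x => rfl⟩
  · have h1 := mem_centralizer_singleton_iff.1 x.2
    exact mem_centralizer_singleton_iff.2 (congrArg Subtype.val h1)
  · have h1 := mem_centralizer_singleton_iff.1 x.2.2
    exact mem_centralizer_singleton_iff.2 (Subtype.ext h1)

theorem commute_of_zpowers {x a b : G} (h : zpowers a = zpowers b) (hx : x * a = a * x) : x * b = b * x := by
  have hb : b ∈ zpowers a := by rw [h]; exact mem_zpowers b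
  obtain ⟨k, rfl⟩ := mem_zpowers_iff.1 hb
  exact (show Commute x a from hx).zpow_right k

theorem conj_comm (g : G) {x y : G} (h : x * y = y * x) : g * x * g⁻¹ * (g * y * g⁻¹) = g * y * g⁻¹ * (g * x * g⁻¹) := by
  calc g * x * g⁻¹ * (g * y * g⁻¹) = g * (x * y) * g⁻¹ := by group
    _ = g * (y * x) * g⁻¹ := by rw [h]
    _ = _ := by group

theorem dvd_cent {x y : G} (h : x * y = y * x) : orderOf x ∣ Nat.card (centralizer ({y} : Set G)) := by
  have h1 : x ∈ centralizer ({y} : Set G) := mem_centralizer_singleton_iff.2 h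
  have h2 := orderOf_dvd_natCard (⟨x, h1⟩ : centralizer ({y} : Set G))
  rw [Subgroup.orderOf_mk] at h2
  exact h2

theorem card_dvd_of_mem {X : Subgroup G} {x : G} (h : x ∈ X) : orderOf x ∣ Nat.card X := by
  have h2 := orderOf_dvd_natCard (⟨x, h⟩ : X)
  rw [Subgroup.orderOf_mk] at h2
  exact h2

theorem exists_cent {p : ℕ} (hp : p.Prime) {y : G} (h : p ∣ Nat.card (centralizer ({y} : Set G))) :
    ∃ x : G, orderOf x = p ∧ x * y = y * x := by
  have : Fact p.Prime := ⟨hp⟩
  obtain ⟨x, hx⟩ := exists_prime_orderOf_dvd_card' p h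
  exact ⟨x.1, by rw [Subgroup.orderOf_coe, hx], mem_centralizer_singleton_iff.1 x.2⟩

end gen

variable {G : Type*} [Group G] [Finite G] {t : G} {e : centralizer ({t} : Set G) ≃* MP}

theorem card_cent_inf (q : MP) : Nat.card (centralizer ({emb e q} : Set G) ⊓ centralizer ({t} : Set G) : Subgroup G) =
    (Finset.univ.filter fun r : MP => r * q = q * r).card := by
  classical
  have h1 : Nat.card (centralizer ({emb e q} : Set G) ⊓ centralizer ({t} : Set G) : Subgroup G) =
      Nat.card {g : G // g * emb e q = emb e q * g ∧ g * t = t * g} := by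
    refine Nat.card_congr (Equiv.subtypeEquivRight fun g => ?_)
    change g ∈ centralizer ({emb e q} : Set G) ∧ g ∈ centralizer ({t} : Set G) ↔ _
    rw [mem_centralizer_singleton_iff, mem_centralizer_singleton_iff]
  rw [h1, card_sub e (fun g => g * emb e q = emb e q * g ∧ g * t = t * g) (fun g hg => hg.2),
    Nat.card_eq_fintype_card, Fintype.card_subtype]
  congr 1
  ext r
  simp only [Finset.mem_filter, Finset.mem_univ, true_and]
  constructor
  · rintro ⟨h, -⟩
    rw [← map_mul, ← map_mul] at h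
    exact emb_inj e h
  · intro h
    exact ⟨by rw [← map_mul, h, map_mul], emb_mem e r⟩

theorem orderOf_emb (q : MP) : orderOf (emb e q) = orderOf q := orderOf_injective _ (emb_inj e) q

/-- no element of order 7 commutes with an involution -/
theorem no7' (L : Loc t e) {z : G} (hz : orderOf z = 7) : ¬ 2 ∣ Nat.card (centralizer ({z} : Set G)) := by
  intro h
  obtain ⟨s, hs, hsz⟩ := exists_cent Nat.prime_two h
  obtain ⟨g, hg⟩ := isConj_iff.1 (L.conj s hs)
  -- g t g⁻¹ = s
  have h1 : (g⁻¹ * z * g) * t = t * (g⁻¹ * z * g) := by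
    rw [← hg] at hsz
    calc (g⁻¹ * z * g) * t = g⁻¹ * (z * (g * t * g⁻¹)) * g := by group
      _ = g⁻¹ * ((g * t * g⁻¹) * z) * g := by rw [hsz]
      _ = _ := by group
  obtain ⟨q, hq⟩ := exists_emb e h1
  have h2 : orderOf (g⁻¹ * z * g) = 7 := by
    have := orderOf_conj g⁻¹ z
    rw [inv_inv] at this
    rw [this, hz]
  have h3 : q = 1 := by
    apply no7
    apply emb_inj e
    rw [map_pow, hq, map_one, ← h2]
    exact pow_orderOf_eq_one _
  rw [h3, map_one] at hq
  rw [← hq, orderOf_one] at h2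
  omega

namespace Setup
variable {ρ : G} (S : Setup t e ρ)
include S

theorem t4 : t ∈ centralizer ({emb e v0} : Set G) := mem_centralizer_singleton_iff.2 (emb_mem e v0).symm

theorem not9 {p : ℕ} (hp : p = 3 ∨ p = 5 ∨ p = 7) : ¬ p ^ 2 ∣ Nat.card G := by
  rw [S.hG]
  rcases hp with rfl | rfl | rfl <;> norm_num

theorem Y4 : ¬ 4 ∣ Nat.card (centralizer ({emb e v0} : Set G)) := by
  intro h
  have h1 := two_part (ab2 e S.hG) S.L.ht (centralizer ({emb e v0} : Set G)) S.t4 (k := 2) (by norm_num; exact h)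
  rw [card_cent_inf, comm_v0] at h1
  omega

theorem tX : t ∈ centralizer ({emb e u0} : Set G) := mem_centralizer_singleton_iff.2 (emb_mem e u0).symm

theorem X4 : ¬ 4 ∣ Nat.card (centralizer ({emb e u0} : Set G)) := by
  intro h
  have h1 := two_part (ab2 e S.hG) S.L.ht (centralizer ({emb e u0} : Set G)) S.tX (k := 2) (by norm_num; exact h)
  rw [card_cent_inf, comm_u0] at h1
  omega

theorem Y2 : 2 ∣ Nat.card (centralizer ({emb e v0} : Set G)) := by
  have := card_dvd_of_mem S.t4
  rw [S.L.ht] at this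
  exact this

theorem Y5 : 5 ∣ Nat.card (centralizer ({emb e v0} : Set G)) := by
  have := dvd_cent (x := emb e v0) (y := emb e v0) rfl
  rw [orderOf_emb, v0_order] at this
  exact this

/-- the order of the centralizer of an element of order 5 -/
theorem Ycard : ∃ n : ℕ, Nat.card G = n * (2 * Nat.card (centralizer ({emb e v0} : Set G))) ∧ n % 5 = 1 := by
  classical
  have ho : orderOf (emb e v0) = 5 := by rw [orderOf_emb, v0_order]
  obtain ⟨n, f, h1, h2, h3, h4, h5⟩ := nc (p := 5) (by norm_num) (S.not9 (by norm_num)) ho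
  have hf2 : 2 ∣ f := by
    refine h5 (emb e s1) 2 Nat.prime_two ?_ ?_ ?_
    · rw [pow_two, ← map_mul, s1_sq, map_one]
    · rw [← map_inv, ← map_mul, ← map_mul, s1_inv, map_inv]
      exact inv_mem (mem_zpowers _)
    · rw [← map_mul, ← map_mul]
      exact fun h => s1_ne (emb_inj e h)
  have hf4 : f ≠ 4 := by
    rintro rfl
    have h6 : 2 ^ 3 ∣ Nat.card (normalizer ((zpowers (emb e v0) : Subgroup G) : Set G)) := by
      rw [← h3]
      obtain ⟨c, hc⟩ := S.Y2
      exact ⟨c, by rw [hc]; ring⟩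
    have htN : t ∈ normalizer ((zpowers (emb e v0) : Subgroup G) : Set G) := by
      apply mem_normalizer_zpowers
      rw [← emb_mem e v0, mul_inv_cancel_right]
      exact mem_zpowers _
    have h7 := two_part (ab2 e S.hG) S.L.ht _ htN h6
    have h8 : Nat.card (normalizer ((zpowers (emb e v0) : Subgroup G) : Set G) ⊓ centralizer ({t} : Set G) : Subgroup G) =
        20 := by
      have h9 : Nat.card (normalizer ((zpowers (emb e v0) : Subgroup G) : Set G) ⊓ centralizer ({t} : Set G) : Subgroup G) =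
          Nat.card {g : G // g ∈ normalizer ((zpowers (emb e v0) : Subgroup G) : Set G) ∧ g * t = t * g} := by
        refine Nat.card_congr (Equiv.subtypeEquivRight fun g => ?_)
        change g ∈ normalizer ((zpowers (emb e v0) : Subgroup G) : Set G) ∧ g ∈ centralizer ({t} : Set G) ↔ _
        rw [mem_centralizer_singleton_iff]
      rw [h9, card_sub e (fun g => g ∈ normalizer ((zpowers (emb e v0) : Subgroup G) : Set G) ∧ g * t = t * g)
        (fun g hg => hg.2), Nat.card_eq_fintype_card, Fintype.card_subtype, ← v0_norm]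
      congr 1
      ext r
      simp only [Finset.mem_filter, Finset.mem_univ, true_and]
      constructor
      · rintro ⟨h, -⟩
        obtain ⟨k, hk, hk2⟩ := exists_pow_lt ho (by norm_num) (conj_mem_of_normalizer h)
        refine ⟨⟨k, hk⟩, ?_⟩
        apply emb_inj e
        rw [map_pow, map_mul, map_mul, map_inv]
        exact hk2
      · rintro ⟨k, hk⟩
        refine ⟨?_, emb_mem e r⟩
        apply mem_normalizer_zpowers
        rw [← map_inv, ← map_mul, ← map_mul, ← hk, map_pow]
        exact pow_mem (mem_zpowers _) _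
    rw [h8] at h7
    omega
  have hf : f = 2 := by
    have h6 : f ≤ 4 := Nat.le_of_dvd (by norm_num) h4
    interval_cases f <;> omega
  subst hf
  exact ⟨n, h1, h2⟩

theorem arith836 : ∀ n < 837, n ∣ 836 → n % 7 = 1 → 2 ∣ 836 / n := by decide +kernel

/-- `7` does not divide the order of the centralizer of an element of order 5 -/
theorem Y7 : ¬ 7 ∣ Nat.card (centralizer ({emb e v0} : Set G)) := by
  intro h7
  set Y := centralizer ({emb e v0} : Set G) with hY
  have hct : ¬ 7 ∣ Nat.card (centralizer ({(⟨t, S.t4⟩ : Y)} : Set Y)) := by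
    rw [card_cent_sub Y S.t4, hY, card_cent_inf, comm_v0]
    norm_num
  obtain ⟨z, hz, hzt⟩ := exists_inv (Y := Y) (t := ⟨t, S.t4⟩) (by rw [Subgroup.orderOf_mk]; exact S.L.ht) S.Y4
    (r := 7) (by norm_num) h7 hct
  have hz' : orderOf (z : G) = 7 := by rw [Subgroup.orderOf_coe, hz]
  have hzt' : t * (z : G) * t⁻¹ = (z : G)⁻¹ := congrArg Subtype.val hzt
  have hzy : (z : G) * emb e v0 = emb e v0 * z := mem_centralizer_singleton_iff.1 z.2
  obtain ⟨g, hg⟩ := conj_prime (p := 7) (by norm_num) (S.not9 (by norm_num)) S.r7 hz'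
  obtain ⟨n, f, h1, h2, h3, h4, h5⟩ := nc (p := 7) (by norm_num) (S.not9 (by norm_num)) hz'
  have hf2 : 2 ∣ f := by
    refine h5 t 2 Nat.prime_two ?_ ?_ ?_
    · rw [← S.L.ht]; exact pow_orderOf_eq_one t
    · rw [hzt']; exact inv_mem (mem_zpowers _)
    · intro h
      have h6 := hzt'
      rw [h, mul_inv_cancel_right] at h6
      have h8 : (z : G) ^ 2 = 1 := by
        rw [pow_two]
        nth_rewrite 1 [h6]
        exact inv_mul_cancel _
      have := orderOf_dvd_of_pow_eq_one h8
      rw [hz'] at this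
      omega
  have hf3 : 3 ∣ f := by
    have hρN : emb e u0 ∈ normalizer ((zpowers ρ : Subgroup G) : Set G) := by
      apply mem_normalizer_zpowers
      rw [S.r2]; exact pow_mem (mem_zpowers _) _
    refine h5 (g * emb e u0 * g⁻¹) 3 Nat.prime_three ?_ ?_ ?_
    · rw [conj_pow, ← map_pow, u0_pow, map_one]; group
    · apply conj_mem_of_normalizer
      rw [← hg]
      apply mem_normalizer_zpowers
      refine mem_zpowers_iff.2 ⟨2, ?_⟩
      calc (g * ρ * g⁻¹) ^ (2 : ℤ) = g * ρ ^ 2 * g⁻¹ := by rw [zpow_ofNat, conj_pow]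
        _ = g * (emb e u0 * ρ * (emb e u0)⁻¹) * g⁻¹ := by rw [S.r2]
        _ = _ := by group
    · intro h
      have h6 := commute_of_zpowers hg.symm h
      have h8 : emb e u0 * ρ = ρ * emb e u0 := by
        have h9 := congrArg (fun y => g⁻¹ * y * g) h6
        simpa [mul_assoc] using h9
      have h9 := S.r2
      rw [h8, mul_inv_cancel_right] at h9
      have h10 : ρ = 1 := by
        rw [pow_two] at h9
        exact left_eq_mul.1 h9
      have h11 := S.r7
      rw [h10, orderOf_one] at h11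
      omega
  have hf : f = 6 := by
    have h6 : f ≤ 6 := Nat.le_of_dvd (by norm_num) h4
    have h8 : f ≠ 0 := by
      rintro rfl
      norm_num at h4
    interval_cases f <;> omega
  subst hf
  have c7 : 7 ∣ Nat.card (centralizer ({(z : G)} : Set G)) := by
    have := dvd_cent (x := (z : G)) (y := (z : G)) rfl
    rw [hz'] at this; exact this
  have c5 : 5 ∣ Nat.card (centralizer ({(z : G)} : Set G)) := by
    have := dvd_cent hzy.symm
    rw [orderOf_emb, v0_order] at this; exact this
  have c2 := no7' S.L hz'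
  obtain ⟨c, hc⟩ := (Nat.Coprime.mul_dvd_of_dvd_of_dvd (by norm_num) c5 c7)
  rw [S.hG, hc] at h1
  have h6 : n * c = 836 := by
    have : 210 * (n * c) = 210 * 836 := by
      rw [show 210 * 836 = 175560 by norm_num, h1]; ring
    exact Nat.eq_of_mul_eq_mul_left (by norm_num) this
  have h8 : n ∣ 836 := ⟨c, h6.symm⟩
  have h9 := S.arith836 n (Nat.lt_succ_of_le (Nat.le_of_dvd (by norm_num) h8)) h8 h2
  have h10 : 836 / n = c := by
    rw [← h6]
    exact Nat.mul_div_cancel_left c (Nat.pos_of_ne_zero (by rintro rfl; omega))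
  rw [h10] at h9
  apply c2
  rw [hc]
  exact h9.mul_left _

theorem arith209 : ∀ l < 210, l ∣ 209 → (8778 / l) % 5 ≠ 1 := by decide +kernel

theorem Y3 : 3 ∣ Nat.card (centralizer ({emb e v0} : Set G)) := by
  obtain ⟨n, h1, h2⟩ := S.Ycard
  obtain ⟨l, hl⟩ := Nat.Coprime.mul_dvd_of_dvd_of_dvd (by norm_num) S.Y2 S.Y5
  have h4 := S.Y4
  have h7 := S.Y7
  rw [hl] at h4 h7 ⊢
  rw [S.hG, hl] at h1
  by_contra h3
  have h6 : n * l = 8778 := by
    have : 20 * (n * l) = 20 * 8778 := by
      rw [show 20 * 8778 = 175560 by norm_num, h1]; ring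
    exact Nat.eq_of_mul_eq_mul_left (by norm_num) this
  have h8 : l ∣ 209 := by
    have c2 : Nat.Coprime l 2 := by
      rw [Nat.coprime_comm, Nat.prime_two.coprime_iff_not_dvd]
      rintro ⟨m, rfl⟩
      exact h4 ⟨5 * m, by ring⟩
    have c3 : Nat.Coprime l 3 := by
      rw [Nat.coprime_comm, Nat.prime_three.coprime_iff_not_dvd]
      exact fun h => h3 (h.mul_left _)
    have c7 : Nat.Coprime l 7 := by
      rw [Nat.coprime_comm, (by norm_num : Nat.Prime 7).coprime_iff_not_dvd]
      exact fun h => h7 (h.mul_left _)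
    have c42 : Nat.Coprime l 42 := by
      have := (c2.mul_right c3).mul_right c7
      exact this
    exact c42.dvd_of_dvd_mul_left (n := 209) ⟨n, by rw [mul_comm l n, h6]⟩
  have h9 := S.arith209 l (Nat.lt_succ_of_le (Nat.le_of_dvd (by norm_num) h8)) h8
  apply h9
  rw [← h6, Nat.mul_div_cancel n (Nat.pos_of_ne_zero (by rintro rfl; omega))]
  exact h2

theorem X5 : 5 ∣ Nat.card (centralizer ({emb e u0} : Set G)) := by
  obtain ⟨d, hd, hdy⟩ := exists_cent Nat.prime_three S.Y3
  have ho : orderOf (emb e u0) = 3 := by rw [orderOf_emb, u0_order]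
  obtain ⟨g, hg⟩ := conj_prime (p := 3) (by norm_num) (S.not9 (by norm_num)) hd ho
  have h1 := conj_comm g hdy.symm
  have h2 := commute_of_zpowers hg h1
  have h3 := dvd_cent h2
  rw [orderOf_conj, orderOf_emb, v0_order] at h3
  exact h3

end Setup
end H58.J1
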