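import Cfsg.Agent.Lib.H58.J1F

/-! Uniqueness of `J₁`: the element of order 5 in the centralizer of an element of order 3, generation. -/

set_option autoImplicit false
set_option linter.unusedSectionVars false
open Subgroup Cfsg H94.J1 Equiv

namespace H58.J1

set_option maxRecDepth 100000

variable {G : Type*} [Group G] [Finite G] {t : G} {e : centralizer ({t} : Set G) ≃* MP}

theorem arith8360 : ∀ l < 210, l ∣ 209 → (8360 / l) % 7 ≠ 1 ∧ ((4180 / l) % 7 = 1 → l = 1) := by decide +kernel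
theorem arithG1 : ∀ i < 210, i ∣ 209 → (40 * i) % 7 ≠ 1 ∧ ((20 * i) % 7 = 1 → i = 209) := by decide +kernel

namespace Setup
variable {ρ : G} (S : Setup t e ρ)
include S

theorem uniq {y y' : G} (hy : orderOf y = 5) (hy' : orderOf y' = 5) (hyX : y * emb e u0 = emb e u0 * y)
    (hyX' : y' * emb e u0 = emb e u0 * y') (hyt : t * y * t⁻¹ = y⁻¹) (hyt' : t * y' * t⁻¹ = y'⁻¹) :
    y' ∈ zpowers y := by
  set X := centralizer ({emb e u0} : Set G) with hX
  have hyX1 : y ∈ X := mem_centralizer_singleton_iff.2 hyX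
  have hyX1' : y' ∈ X := mem_centralizer_singleton_iff.2 hyX'
  have h25 : ¬ 5 ^ 2 ∣ Nat.card X := by
    intro h
    exact S.not9 (p := 5) (by norm_num) (h.trans (Subgroup.card_subgroup_dvd_card X))
  obtain ⟨x, hx⟩ := conj_prime (Y := X) (p := 5) (by norm_num) h25 (a := ⟨y, hyX1⟩) (b := ⟨y', hyX1'⟩)
    (by rw [Subgroup.orderOf_mk, hy]) (by rw [Subgroup.orderOf_mk, hy'])
  let tt : X := ⟨t, S.tX⟩
  have htt : orderOf tt = 2 := by rw [Subgroup.orderOf_mk]; exact S.L.ht
  set N := normalizer ((zpowers (⟨y, hyX1⟩ : X) : Subgroup X) : Set X) with hN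
  have htN : tt ∈ N := by
    apply mem_normalizer_zpowers
    refine mem_zpowers_iff.2 ⟨-1, ?_⟩
    rw [zpow_neg_one]
    exact Subtype.ext hyt.symm
  have htN2 : x⁻¹ * tt * x ∈ N := by
    apply mem_normalizer_zpowers
    have h1 : tt ∈ normalizer ((zpowers (⟨y', hyX1'⟩ : X) : Subgroup X) : Set X) := by
      apply mem_normalizer_zpowers
      refine mem_zpowers_iff.2 ⟨-1, ?_⟩
      rw [zpow_neg_one]
      exact Subtype.ext hyt'.symm
    rw [← hx] at h1
    obtain ⟨k, hk⟩ := mem_zpowers_iff.1 (conj_mem_of_normalizer h1)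
    refine mem_zpowers_iff.2 ⟨k, ?_⟩
    have h2 : (⟨y, hyX1⟩ : X) ^ k = x⁻¹ * (x * (⟨y, hyX1⟩ : X) * x⁻¹) ^ k * x := by
      rw [conj_zpow]; group
    rw [h2, hk]
    group
  have hN4 : ¬ 4 ∣ Nat.card N := fun h => S.X4 (h.trans (Subgroup.card_subgroup_dvd_card N))
  obtain ⟨⟨m, hm⟩, hm2⟩ := conj_two (Y := N) hN4 (a := ⟨tt, htN⟩) (b := ⟨x⁻¹ * tt * x, htN2⟩)
    (by rw [Subgroup.orderOf_mk, htt]) (by
      rw [Subgroup.orderOf_mk]
      have := orderOf_conj x⁻¹ tt
      rw [inv_inv] at this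
      rw [this, htt])
  have hm3 : m * tt * m⁻¹ = x⁻¹ * tt * x := congrArg Subtype.val hm2
  have hc1 : (x * m) * tt = tt * (x * m) := by
    have : x * (m * tt * m⁻¹) * x⁻¹ = tt := by rw [hm3]; group
    calc (x * m) * tt = x * (m * tt * m⁻¹) * x⁻¹ * (x * m) := by group
      _ = tt * (x * m) := by rw [this]
  -- x * m normalizes ⟨y⟩
  obtain ⟨q, hq⟩ := exists_emb e (g := ((x * m : X) : G)) (congrArg Subtype.val hc1)
  have hq2 : q * u0 = u0 * q := by
    apply emb_inj e
    rw [map_mul, map_mul, hq]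
    exact mem_centralizer_singleton_iff.1 (x * m).2
  obtain ⟨i, j, hij⟩ := cent_u0 q hq2
  have hxm : x * m ∈ N := by
    have h5 : (emb e u0) ∈ X := mem_centralizer_singleton_iff.2 rfl
    have h6 : x * m = (⟨emb e u0, h5⟩ : X) ^ (i : ℕ) * tt ^ (j : ℕ) := by
      apply Subtype.ext
      rw [← hq, ← hij, map_mul, map_pow, map_pow, emb_z0 e S.L.ht]
      rfl
    rw [h6]
    refine mul_mem (pow_mem ?_ _) (pow_mem htN _)
    apply mem_normalizer_zpowers
    have h7 : (⟨emb e u0, h5⟩ : X) * ⟨y, hyX1⟩ = ⟨y, hyX1⟩ * ⟨emb e u0, h5⟩ := Subtype.ext hyX.symm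
    rw [h7, mul_inv_cancel_right]
    exact mem_zpowers _
  have hxN : x ∈ N := by
    have : x = (x * m) * m⁻¹ := by group
    rw [this]
    exact mul_mem hxm (inv_mem hm)
  have h8 := conj_mem_of_normalizer hxN
  have h9 : (⟨y', hyX1'⟩ : X) ∈ zpowers (⟨y, hyX1⟩ : X) := by
    have : (⟨y', hyX1'⟩ : X) ∈ zpowers (x * ⟨y, hyX1⟩ * x⁻¹) := by rw [hx]; exact mem_zpowers _
    exact (zpowers_le.2 h8) this
  obtain ⟨k, hk⟩ := mem_zpowers_iff.1 h9
  exact mem_zpowers_iff.2 ⟨k, congrArg Subtype.val hk⟩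

theorem exists_y : ∃ y : G, orderOf y = 5 ∧ y * emb e u0 = emb e u0 * y ∧ t * y * t⁻¹ = y⁻¹ ∧
    (emb e uu * y = y * emb e uu ∨ (emb e uu * t) * y = y * (emb e uu * t)) := by
  set X := centralizer ({emb e u0} : Set G) with hX
  have hct : ¬ 5 ∣ Nat.card (centralizer ({(⟨t, S.tX⟩ : X)} : Set X)) := by
    rw [card_cent_sub X S.tX, hX, card_cent_inf, comm_u0]
    norm_num
  obtain ⟨⟨y, hyX⟩, hy, hyt⟩ := exists_inv (Y := X) (t := ⟨t, S.tX⟩) (by rw [Subgroup.orderOf_mk]; exact S.L.ht)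
    S.X4 (r := 5) (by norm_num) S.X5 hct
  rw [Subgroup.orderOf_mk] at hy
  have hyt' : t * y * t⁻¹ = y⁻¹ := congrArg Subtype.val hyt
  have hyX' : y * emb e u0 = emb e u0 * y := mem_centralizer_singleton_iff.1 hyX
  have hu2 : emb e uu * emb e uu = 1 := by rw [← map_mul, uu_sq, map_one]
  have hui : (emb e uu)⁻¹ = emb e uu := inv_eq_of_mul_eq_one_left hu2
  have hut := emb_mem e uu
  have hud : emb e uu * emb e u0 * (emb e uu)⁻¹ = (emb e u0)⁻¹ := by
    rw [← map_inv, ← map_mul, ← map_mul, uu_inv, map_inv]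
  have h1 : emb e uu * y * (emb e uu)⁻¹ ∈ zpowers y := by
    apply S.uniq hy (by rw [orderOf_conj, hy]) hyX' ?_ hyt' ?_
    · have h2 := conj_comm (emb e uu) hyX'
      rw [hud] at h2
      have h3 : Commute (emb e uu * y * (emb e uu)⁻¹) (emb e u0)⁻¹ := h2
      have h4 := h3.inv_right
      rw [inv_inv] at h4
      exact h4
    · calc t * (emb e uu * y * (emb e uu)⁻¹) * t⁻¹ = (t * emb e uu) * y * (t * emb e uu)⁻¹ := by group
        _ = (emb e uu * t) * y * (emb e uu * t)⁻¹ := by rw [hut]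
        _ = emb e uu * (t * y * t⁻¹) * (emb e uu)⁻¹ := by group
        _ = (emb e uu * y * (emb e uu)⁻¹)⁻¹ := by rw [hyt']; group
  obtain ⟨k, hk, hk2⟩ := exists_pow_lt hy (by norm_num) h1
  have hk3 : y ^ (k * k) = y := by
    rw [pow_mul, hk2, conj_pow, hk2, hui]
    calc emb e uu * (emb e uu * y * emb e uu) * emb e uu = (emb e uu * emb e uu) * y * (emb e uu * emb e uu) := by
          group
      _ = y := by rw [hu2]; group
  have hk4 : k * k % 5 = 1 := by
    have : y ^ (k * k) = y ^ 1 := by rw [hk3, pow_one]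
    rw [pow_inj_mod, hy] at this
    exact this
  refine ⟨y, hy, hyX', hyt', ?_⟩
  have hk5 : k = 1 ∨ k = 4 := by interval_cases k <;> omega
  rcases hk5 with rfl | rfl
  · left
    rw [pow_one] at hk2
    exact (mul_inv_eq_iff_eq_mul.1 hk2.symm)
  · right
    have h4 : y ^ 4 = y⁻¹ := by
      rw [eq_inv_iff_mul_eq_one, ← pow_succ, show 4 + 1 = orderOf y from hy.symm]
      exact pow_orderOf_eq_one y
    rw [h4] at hk2
    have h5 : (emb e uu * t) * y * (emb e uu * t)⁻¹ = y := by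
      calc (emb e uu * t) * y * (emb e uu * t)⁻¹ = emb e uu * (t * y * t⁻¹) * (emb e uu)⁻¹ := by group
        _ = (emb e uu * y * (emb e uu)⁻¹)⁻¹ := by rw [hyt']; group
        _ = y := by rw [← hk2, inv_inv]
    exact mul_inv_eq_iff_eq_mul.1 h5

theorem card_cent_rho : Nat.card (centralizer ({ρ} : Set G)) = 7 := by
  obtain ⟨n, f, h1, h2, h3, h4, h5⟩ := nc (p := 7) (by norm_num) (S.not9 (by norm_num)) S.r7
  have hf3 : 3 ∣ f := by
    refine h5 (emb e u0) 3 Nat.prime_three ?_ ?_ ?_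
    · rw [← map_pow, u0_pow, map_one]
    · rw [S.r2]; exact pow_mem (mem_zpowers _) _
    · intro h8
      have h9 := S.r2
      rw [h8, mul_inv_cancel_right] at h9
      have h10 : ρ = 1 := by
        rw [pow_two] at h9
        exact left_eq_mul.1 h9
      have h11 := S.r7
      rw [h10, orderOf_one] at h11
      omega
  have c7 : 7 ∣ Nat.card (centralizer ({ρ} : Set G)) := by
    have := dvd_cent (x := ρ) (y := ρ) rfl
    rw [S.r7] at this; exact this
  have c2 := no7' S.L S.r7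
  have c5 : ¬ 5 ∣ Nat.card (centralizer ({ρ} : Set G)) := by
    intro h
    obtain ⟨y, hy, hyr⟩ := exists_cent (by norm_num : Nat.Prime 5) h
    have ho : orderOf (emb e v0) = 5 := by rw [orderOf_emb, v0_order]
    obtain ⟨g, hg⟩ := conj_prime (p := 5) (by norm_num) (S.not9 (by norm_num)) hy ho
    have h1 := conj_comm g hyr.symm
    have h2 := commute_of_zpowers hg h1
    have h3 := dvd_cent h2
    rw [orderOf_conj, S.r7] at h3
    exact S.Y7 h3
  obtain ⟨c, hc⟩ := c7
  rw [S.hG, hc] at h1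
  rw [hc] at c2 c5
  have hc2 : Nat.Coprime c 2 := by
    rw [Nat.coprime_comm, Nat.prime_two.coprime_iff_not_dvd]
    exact fun h => c2 (h.mul_left _)
  have hc5 : Nat.Coprime c 5 := by
    rw [Nat.coprime_comm, (by norm_num : Nat.Prime 5).coprime_iff_not_dvd]
    exact fun h => c5 (h.mul_left _)
  have hc40 : Nat.Coprime c 40 := (((hc2.mul_right hc2).mul_right hc2).mul_right hc5)
  have hf : f = 3 ∨ f = 6 := by
    have h6 : f ≤ 6 := Nat.le_of_dvd (by norm_num) h4
    have h8 : f ≠ 0 := by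
      rintro rfl
      norm_num at h4
    interval_cases f <;> omega
  have hc0 : 0 < c := Nat.pos_of_ne_zero (by rintro rfl; omega)
  rcases hf with rfl | rfl
  · exfalso
    have h6 : n * c = 8360 := by
      have : 21 * (n * c) = 21 * 8360 := by
        rw [show 21 * 8360 = 175560 by norm_num, h1]; ring
      exact Nat.eq_of_mul_eq_mul_left (by norm_num) this
    have h8 : c ∣ 209 := hc40.dvd_of_dvd_mul_left (n := 209) ⟨n, by rw [mul_comm c n, h6]⟩
    have h9 := (arith8360 c (Nat.lt_succ_of_le (Nat.le_of_dvd (by norm_num) h8)) h8).1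
    apply h9
    rw [← h6, Nat.mul_div_cancel n hc0]
    exact h2
  · have h6 : n * c = 4180 := by
      have : 42 * (n * c) = 42 * 4180 := by
        rw [show 42 * 4180 = 175560 by norm_num, h1]; ring
      exact Nat.eq_of_mul_eq_mul_left (by norm_num) this
    have h8 : c ∣ 209 := by
      refine hc40.dvd_of_dvd_mul_left (n := 209) ⟨2 * n, ?_⟩
      rw [show 40 * 209 = 2 * 4180 by norm_num, ← h6]; ring
    have h9 := (arith8360 c (Nat.lt_succ_of_le (Nat.le_of_dvd (by norm_num) h8)) h8).2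
    have h10 : c = 1 := by
      apply h9
      rw [← h6, Nat.mul_div_cancel n hc0]
      exact h2
    rw [hc, h10]

theorem gen (G1 : Subgroup G) (hC : centralizer ({t} : Set G) ≤ G1) (hρ : ρ ∈ G1) : G1 = ⊤ := by
  have h120 : 120 ∣ Nat.card G1 := by
    rw [← card_cent e]; exact Subgroup.card_dvd_of_le hC
  have h7 : 7 ∣ Nat.card G1 := by
    rw [← S.r7]; exact card_dvd_of_mem hρ
  have hδ : emb e u0 ∈ G1 := hC (mem_centralizer_singleton_iff.2 (emb_mem e u0))
  have h49 : ¬ 7 ^ 2 ∣ Nat.card G1 := fun h => S.not9 (p := 7) (by norm_num) (h.trans (Subgroup.card_subgroup_dvd_card G1))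
  have hr7 : orderOf (⟨ρ, hρ⟩ : G1) = 7 := by rw [Subgroup.orderOf_mk]; exact S.r7
  obtain ⟨n, f, h1, h2, h3, h4, h5⟩ := nc (Y := G1) (p := 7) (by norm_num) h49 hr7
  have hf3 : 3 ∣ f := by
    refine h5 ⟨emb e u0, hδ⟩ 3 Nat.prime_three ?_ ?_ ?_
    · apply Subtype.ext
      change (emb e u0) ^ 3 = 1
      rw [← map_pow, u0_pow, map_one]
    · refine mem_zpowers_iff.2 ⟨2, ?_⟩
      apply Subtype.ext
      change ρ ^ (2 : ℤ) = emb e u0 * ρ * (emb e u0)⁻¹
      rw [S.r2, zpow_ofNat]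
    · intro h8
      have h8' : emb e u0 * ρ = ρ * emb e u0 := congrArg Subtype.val h8
      have h9 := S.r2
      rw [h8', mul_inv_cancel_right] at h9
      have h10 : ρ = 1 := by
        rw [pow_two] at h9
        exact left_eq_mul.1 h9
      have h11 := S.r7
      rw [h10, orderOf_one] at h11
      omega
  have hf : f = 3 ∨ f = 6 := by
    have h6 : f ≤ 6 := Nat.le_of_dvd (by norm_num) h4
    have h8 : f ≠ 0 := by
      rintro rfl
      norm_num at h4
    interval_cases f <;> omega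
  have hc : Nat.card (centralizer ({(⟨ρ, hρ⟩ : G1)} : Set G1)) = 7 := by
    rw [card_cent_sub G1 hρ]
    apply Nat.dvd_antisymm
    · rw [← S.card_cent_rho]
      exact Subgroup.card_dvd_of_le inf_le_right
    · rw [← S.r7]
      exact card_dvd_of_mem ⟨hρ, mem_centralizer_singleton_iff.2 rfl⟩
  rw [hc] at h1
  obtain ⟨i, hi⟩ := Nat.Coprime.mul_dvd_of_dvd_of_dvd (by norm_num) h120 h7
  have hi209 : i ∣ 209 := by
    have := Subgroup.card_subgroup_dvd_card G1
    rw [hi, S.hG, show 175560 = 120 * 7 * 209 by norm_num] at this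
    exact Nat.dvd_of_mul_dvd_mul_left (by norm_num) this
  have hi2 := arithG1 i (Nat.lt_succ_of_le (Nat.le_of_dvd (by norm_num) hi209)) hi209
  have hi3 : i = 209 := by
    rw [hi] at h1
    rcases hf with rfl | rfl
    · exfalso
      apply hi2.1
      have : n = 40 * i := by omega
      rw [← this]; exact h2
    · apply hi2.2
      have : n = 20 * i := by omega
      rw [← this]; exact h2
  apply Subgroup.eq_top_of_card_eq
  rw [hi, hi3, S.hG]

end Setup
end H58.J1
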