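import Cfsg.Agent.Lib.H58.J1G
import Cfsg.Agent.Lib.H58.J1A0
import Cfsg.Agent.Lib.H58.J1A1
import Cfsg.Agent.Lib.H58.J1B0
import Cfsg.Agent.Lib.H58.J1B1
import Cfsg.Agent.Lib.H58.J1K

/-! Uniqueness of `J₁`: the presentation. -/

set_option autoImplicit false
set_option linter.unusedSectionVars false
set_option linter.unusedVariables false
set_option linter.unusedSimpArgs false
open Subgroup Cfsg H94.J1 Equiv

namespace H58.J1

set_option maxRecDepth 100000

/-- the letters -/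
def lt {G : Type*} [Group G] (w d t v r : G) : ℕ → G
  | 0 => w
  | 1 => d
  | 2 => d⁻¹
  | 3 => t
  | 4 => v
  | 5 => r
  | 6 => r⁻¹
  | _ => 1

def baseM : List (List ℕ) := [[0,0], [1,1,1], [3,3], [4,4], [4,0,2,0,1,0], [0,1,0,1,0,1,0,1,0,1], [3,0,3,0],
  [3,1,3,2], [3,4,3,4], [1,4,1,4,1,4]]
def baseR : List (List ℕ) := [[5,5,5,5,5,5,5], [1,5,2,6,6], [5,3,6,4], [5,4,6,1,4,2], [5,1,4,2,6,3,4], [1,2], [5,6]]
def rA0 : List ℕ := [1,2,0,1,0,1,5,0,1,6,2,0,2,0,1,2,2,0,1,0,1,5,2,0,6,2,0,2,0,1]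
def rA1 : List ℕ := [1,2,0,1,0,1,5,1,0,2,0,6,2,0,2,0,1,2,2,0,1,0,1,5,0,1,0,2,6,2,0,2,0,1]
def rB0 : List ℕ := [1,2,0,1,0,1,5,5,5,1,0,6,6,6,2,0,2,0,1,2,2,0,1,0,1,5,5,5,0,2,6,6,6,2,0,2,0,1]
def rB1 : List ℕ := [1,2,0,1,0,1,5,5,5,0,1,0,1,0,6,6,6,2,0,2,0,1,2,2,0,1,0,1,5,5,5,0,2,0,2,0,6,6,6,2,0,2,0,1]

theorem bA0 : J1A0.base = baseM ++ baseR ++ [rA0] := rfl
theorem bA1 : J1A1.base = baseM ++ baseR ++ [rA1] := rfl
theorem bB0 : J1B0.base = baseM ++ baseR ++ [rB0] := rfl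
theorem bB1 : J1B1.base = baseM ++ baseR ++ [rB1] := rfl

theorem baseM_ok : ∀ r ∈ baseM, (r.map (lt w0 u0 z0 v1 1)).prod = 1 := by decide +kernel
theorem baseM_lt : ∀ r ∈ baseM, ∀ g ∈ r, g < 5 := by decide +kernel
theorem HE_gen : ∀ q : MP, (q.2.1 4 = 4 ∧ q * q = 1) → ∃ a b c : Fin 2, z0 ^ (a : ℕ) * v1 ^ (b : ℕ) * v2 ^ (c : ℕ) = q := by
  decide +kernel
theorem v1_eq : v1 = w0 * u0⁻¹ * w0 * u0 * w0 := by decide +kernel
theorem wu_ord : (w0 * u0) ^ 5 = 1 := by decide +kernel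
theorem wu_ne : w0 * u0 ≠ 1 := by decide +kernel
theorem w0_sq : w0 * w0 = 1 := by decide +kernel
set_option synthInstance.maxHeartbeats 1000000 in
set_option synthInstance.maxSize 100000 in
theorem facA : ∀ q : MP, q ^ 5 = 1 → q ≠ 1 → (z0 * v2) * q * (z0 * v2)⁻¹ = q⁻¹ →
    ∃ j : Fin 5, q ^ (j : ℕ) = w0 * u0 ∨ q ^ (j : ℕ) = u0 * w0 * u0⁻¹ * w0 := by decide +kernel
set_option synthInstance.maxHeartbeats 1000000 in
set_option synthInstance.maxSize 100000 in
theorem facB : ∀ q : MP, q ^ 5 = 1 → q ≠ 1 → v3 * q * v3⁻¹ = q⁻¹ →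
    ∃ j : Fin 5, q ^ (j : ℕ) = u0 * w0 ∨ q ^ (j : ℕ) = w0 * u0 * w0 * u0 * w0 := by decide +kernel

theorem gen_MP : closure ({w0, u0, z0} : Set MP) = ⊤ := by
  set K := closure ({w0, u0, z0} : Set MP) with hK
  have hw : w0 ∈ K := subset_closure (by simp)
  have hu : u0 ∈ K := subset_closure (by simp)
  have hz : z0 ∈ K := subset_closure (by simp)
  have hv1 : v1 ∈ K := by
    rw [v1_eq]
    exact mul_mem (mul_mem (mul_mem (mul_mem hw (inv_mem hu)) hw) hu) hw
  have hv2 : v2 ∈ K := mul_mem (mul_mem hu hv1) (inv_mem hu)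
  have hHE : HE ≤ K := by
    intro q hq
    obtain ⟨a, b, c, rfl⟩ := HE_gen q hq
    exact mul_mem (mul_mem (pow_mem hz _) (pow_mem hv1 _)) (pow_mem hv2 _)
  have h8 : 8 ∣ Nat.card K := by
    have h1 : Nat.card HE = 8 := by
      have h2 : Nat.card HE = Nat.card {q : MP // q.2.1 4 = 4 ∧ q * q = 1} := rfl
      rw [h2, Nat.card_eq_fintype_card, Fintype.card_subtype, HE_card8]
    rw [← h1]; exact Subgroup.card_dvd_of_le hHE
  have h3 : 3 ∣ Nat.card K := by
    rw [← u0_order]; exact card_dvd_of_mem hu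
  have h5 : 5 ∣ Nat.card K := by
    have : Fact (Nat.Prime 5) := ⟨by norm_num⟩
    have h1 : orderOf (w0 * u0) = 5 := orderOf_eq_prime wu_ord wu_ne
    have h2 := card_dvd_of_mem (mul_mem hw hu)
    rw [h1] at h2
    exact h2
  have h15 := Nat.Coprime.mul_dvd_of_dvd_of_dvd (by norm_num) h3 h5
  have h120 := Nat.Coprime.mul_dvd_of_dvd_of_dvd (by norm_num) h8 h15
  apply Subgroup.eq_top_of_le_card
  rw [Nat.card_eq_fintype_card (α := MP), card_MP]
  exact Nat.le_of_dvd Nat.card_pos h120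

section
variable {G : Type*} [Group G] [Finite G] {t : G} {e : centralizer ({t} : Set G) ≃* MP} {ρ : G}

/-- the letters in `G` -/
def el (e : centralizer ({t} : Set G) ≃* MP) (ρ : G) : ℕ → G := lt (emb e w0) (emb e u0) t (emb e v1) ρ

namespace Setup
variable (S : Setup t e ρ)
include S

theorem z_eq : emb e z0 = t := emb_z0 e S.L.ht

theorem el_emb {g : ℕ} (hg : g < 5) : el e ρ g = emb e (lt w0 u0 z0 v1 1 g) := by
  interval_cases g
  · rfl
  · rfl
  · exact (map_inv _ _).symm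
  · exact S.z_eq.symm
  · rfl

theorem tt : t * t = 1 := (sq_one_iff.2 S.L.ht).1
theorem vv : emb e v1 * emb e v1 = 1 := by rw [← map_mul, v1_sq, map_one]
theorem v2v2 : emb e v2 * emb e v2 = 1 := by rw [← map_mul, v2_sq, map_one]
theorem vt : emb e v1 * t = t * emb e v1 := emb_mem e v1

theorem base_ok : ∀ r ∈ baseM ++ baseR, (r.map (el e ρ)).prod = 1 := by
  intro r hr
  rw [List.mem_append] at hr
  rcases hr with hr | hr
  · have h1 : r.map (el e ρ) = (r.map (lt w0 u0 z0 v1 1)).map (emb e) := by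
      rw [List.map_map]
      exact List.map_congr_left fun g hg => S.el_emb (baseM_lt r hr g hg)
    rw [h1, ← map_list_prod, baseM_ok r hr, map_one]
  · have hr7 : ρ ^ 7 = 1 := by rw [← S.r7]; exact pow_orderOf_eq_one ρ
    have e1 := S.r1
    have e2 := S.r2
    have e3 := S.r3
    have e4 := S.r4
    simp only [baseR, List.mem_cons, List.not_mem_nil, or_false] at hr
    rcases hr with rfl | rfl | rfl | rfl | rfl | rfl | rfl
    · simp only [List.map_cons, List.map_nil, List.prod_cons, List.prod_nil, el, lt]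
      refine Eq.trans ?_ hr7
      simp only [pow_succ, pow_zero, one_mul, mul_assoc, mul_one]
    · simp only [List.map_cons, List.map_nil, List.prod_cons, List.prod_nil, el, lt, mul_one]
      calc emb e u0 * (ρ * ((emb e u0)⁻¹ * (ρ⁻¹ * ρ⁻¹))) = (emb e u0 * ρ * (emb e u0)⁻¹) * (ρ ^ 2)⁻¹ := by
            rw [pow_two]; group
        _ = 1 := by rw [e2, mul_inv_cancel]
    · simp only [List.map_cons, List.map_nil, List.prod_cons, List.prod_nil, el, lt, mul_one]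
      calc ρ * (t * (ρ⁻¹ * emb e v1)) = (ρ * t * ρ⁻¹) * emb e v1 := by group
        _ = 1 := by rw [e1, S.vv]
    · simp only [List.map_cons, List.map_nil, List.prod_cons, List.prod_nil, el, lt, mul_one]
      have h2 : emb e v2 = emb e u0 * emb e v1 * (emb e u0)⁻¹ := by rw [v2, map_mul, map_mul, map_inv]
      calc ρ * (emb e v1 * (ρ⁻¹ * (emb e u0 * (emb e v1 * (emb e u0)⁻¹)))) =
            (ρ * emb e v1 * ρ⁻¹) * (emb e u0 * emb e v1 * (emb e u0)⁻¹) := by group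
        _ = 1 := by rw [e3, ← h2, S.v2v2]
    · simp only [List.map_cons, List.map_nil, List.prod_cons, List.prod_nil, el, lt, mul_one]
      have h2 : emb e v2 = emb e u0 * emb e v1 * (emb e u0)⁻¹ := by rw [v2, map_mul, map_mul, map_inv]
      calc ρ * (emb e u0 * (emb e v1 * ((emb e u0)⁻¹ * (ρ⁻¹ * (t * emb e v1))))) =
            (ρ * (emb e u0 * emb e v1 * (emb e u0)⁻¹) * ρ⁻¹) * (t * emb e v1) := by group
        _ = t * (emb e v1 * t) * emb e v1 := by rw [← h2, e4]; group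
        _ = (t * t) * (emb e v1 * emb e v1) := by rw [S.vt]; group
        _ = 1 := by rw [S.tt, S.vv, one_mul]
    · simp only [List.map_cons, List.map_nil, List.prod_cons, List.prod_nil, el, lt, mul_one, mul_inv_cancel]
    · simp only [List.map_cons, List.map_nil, List.prod_cons, List.prod_nil, el, lt, mul_one, mul_inv_cancel]

theorem el_inv : ∀ g, el e ρ (J1A1.io g) = (el e ρ g)⁻¹ := by
  intro g
  have hw : (emb e w0)⁻¹ = emb e w0 := inv_eq_of_mul_eq_one_left (by rw [← map_mul, w0_sq, map_one])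
  have ht : t⁻¹ = t := inv_eq_of_mul_eq_one_left S.tt
  have hv : (emb e v1)⁻¹ = emb e v1 := inv_eq_of_mul_eq_one_left S.vv
  match g with
  | 0 => exact hw.symm
  | 1 => rfl
  | 2 => exact (inv_inv _).symm
  | 3 => exact ht.symm
  | 4 => exact hv.symm
  | 5 => rfl
  | 6 => exact (inv_inv _).symm
  | (n + 7) => exact inv_one.symm

theorem el_gen : closure {x | ∃ g < 7, x = el e ρ g} = ⊤ := by
  set K := closure {x | ∃ g < 7, x = el e ρ g} with hK
  have hm : ∀ g < 7, el e ρ g ∈ K := fun g hg => subset_closure ⟨g, hg, rfl⟩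
  apply S.gen
  · intro x hx
    obtain ⟨q, rfl⟩ := exists_emb e (mem_centralizer_singleton_iff.1 hx)
    have h1 : (⊤ : Subgroup MP) ≤ K.comap (emb e) := by
      rw [← gen_MP, closure_le]
      rintro q (rfl | rfl | rfl)
      · exact hm 0 (by norm_num)
      · exact hm 1 (by norm_num)
      · change emb e z0 ∈ K
        rw [S.z_eq]
        exact hm 3 (by norm_num)
    exact h1 (mem_top q)
  · exact hm 5 (by norm_num)

theorem el_sub (hw : List (List ℕ)) (h : hw = [[0],[1],[3]]) : ∀ w ∈ hw, H34.TC.wp (el e ρ) w ∈ centralizer ({t} : Set G) := by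
  intro w hw'
  rw [h] at hw'
  simp only [List.mem_cons, List.not_mem_nil, or_false] at hw'
  rcases hw' with rfl | rfl | rfl
  · change 1 * el e ρ 0 ∈ _
    rw [one_mul]
    exact mem_centralizer_singleton_iff.2 (emb_mem e w0)
  · change 1 * el e ρ 1 ∈ _
    rw [one_mul]
    exact mem_centralizer_singleton_iff.2 (emb_mem e u0)
  · change 1 * el e ρ 3 ∈ _
    rw [one_mul]
    exact mem_centralizer_singleton_iff.2 rfl

theorem index_ne : ¬ (centralizer ({t} : Set G)).index ≤ 1 := by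
  intro h
  have h1 := (centralizer ({t} : Set G)).card_mul_index
  rw [card_cent e, S.hG] at h1
  omega

theorem no_rel {b : List (List ℕ)} {r : List ℕ} {hw : List (List ℕ)} {io : ℕ → ℕ} (hb : b = baseM ++ baseR ++ [r])
    (hh : hw = [[0],[1],[3]]) (hio : io = J1A1.io)
    (up : ∀ (ℓ : ℕ → G) (hι : ∀ g, ℓ (io g) = (ℓ g)⁻¹) (hbase : ∀ r ∈ b, (r.map ℓ).prod = 1)
      (hgen : Subgroup.closure {x | ∃ g < 7, x = ℓ g} = ⊤) (H : Subgroup G) (hsub : ∀ w ∈ hw, H34.TC.wp ℓ w ∈ H),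
      H.FiniteIndex ∧ H.index ≤ 1) : (r.map (el e ρ)).prod ≠ 1 := by
  intro hr
  subst hio
  refine S.index_ne (up (el e ρ) S.el_inv ?_ S.el_gen _ (S.el_sub hw hh)).2
  intro s hs
  rw [hb, List.mem_append] at hs
  rcases hs with hs | hs
  · exact S.base_ok s hs
  · rw [List.mem_singleton] at hs
    rw [hs]; exact hr

theorem rel_of {y g : G} {j : ℕ} {y0 q : MP} (hy : y * emb e u0 = emb e u0 * y) (hq : emb e q = g⁻¹ * y * g)
    (hj : q ^ j = y0) : emb e u0 * (g * emb e y0 * g⁻¹) * (emb e u0)⁻¹ * (g * emb e y0 * g⁻¹)⁻¹ = 1 := by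
  have h1 : g * emb e y0 * g⁻¹ = y ^ j := by
    rw [← hj, map_pow, hq, ← conj_pow]
    congr 1
    group
  rw [h1]
  have h2 : Commute (y ^ j) (emb e u0) := (show Commute y (emb e u0) from hy).pow_left j
  rw [← h2.eq]
  group

theorem relA1 : (rA1.map (el e ρ)).prod = 1 := by
  obtain ⟨y, hy5, hyd, hyt, hc⟩ := S.exists_y
  have hw : (emb e w0)⁻¹ = emb e w0 := inv_eq_of_mul_eq_one_left (by rw [← map_mul, w0_sq, map_one])
  have hti : t⁻¹ = t := inv_eq_of_mul_eq_one_left S.tt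
  have hct : emb e c0 * t = t * emb e c0 := emb_mem e c0
  have hq1 : ∀ {q : MP} {g : G}, emb e q = g⁻¹ * y * g → q ^ 5 = 1 ∧ q ≠ 1 := by
    intro q g hq
    have h1 : orderOf (emb e q) = 5 := by
      have := orderOf_conj g⁻¹ y
      rw [inv_inv] at this
      rw [hq, this, hy5]
    rw [orderOf_emb] at h1
    have h2 := pow_orderOf_eq_one q
    rw [h1] at h2
    refine ⟨h2, ?_⟩
    rintro rfl
    rw [orderOf_one] at h1
    omega
  rcases hc with hc | hc
  · -- case A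
    set g := emb e c0 * ρ with hg
    have h1 : g * t * g⁻¹ = emb e uu := by
      rw [uu, map_mul, map_mul, map_inv, ← S.r1, hg]; group
    have h2 : (g⁻¹ * y * g) * t = t * (g⁻¹ * y * g) := by
      calc (g⁻¹ * y * g) * t = g⁻¹ * (y * (g * t * g⁻¹)) * g := by group
        _ = g⁻¹ * (emb e uu * y) * g := by rw [h1, hc]
        _ = g⁻¹ * ((g * t * g⁻¹) * y) * g := by rw [h1]
        _ = _ := by group
    obtain ⟨q, hq⟩ := exists_emb e h2
    obtain ⟨hq5, hqn⟩ := hq1 hq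
    have h3 : g⁻¹ * t * g = emb e (z0 * v2) := by
      have h4 : ρ * emb e (z0 * v2) * ρ⁻¹ = t := by
        rw [map_mul, S.z_eq]
        calc ρ * (t * emb e v2) * ρ⁻¹ = (ρ * t * ρ⁻¹) * (ρ * emb e v2 * ρ⁻¹) := by group
          _ = (emb e v1 * t) * emb e v1 := by rw [S.r1, S.r4]; group
          _ = t * (emb e v1 * emb e v1) := by rw [S.vt]; group
          _ = t := by rw [S.vv, mul_one]
      calc g⁻¹ * t * g = ρ⁻¹ * ((emb e c0)⁻¹ * (t * emb e c0)) * ρ := by rw [hg]; group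
        _ = ρ⁻¹ * t * ρ := by rw [← hct]; group
        _ = ρ⁻¹ * (ρ * emb e (z0 * v2) * ρ⁻¹) * ρ := by rw [h4]
        _ = _ := by group
    have h5 : (z0 * v2) * q * (z0 * v2)⁻¹ = q⁻¹ := by
      apply emb_inj e
      rw [map_mul, map_mul _ (z0 * v2) q, map_inv, map_inv, ← h3, hq]
      calc g⁻¹ * t * g * (g⁻¹ * y * g) * (g⁻¹ * t * g)⁻¹ = g⁻¹ * (t * y * t⁻¹) * g := by group
        _ = (g⁻¹ * y * g)⁻¹ := by rw [hyt]; group
    obtain ⟨j, hj | hj⟩ := facA q hq5 hqn h5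
    · exfalso
      refine S.no_rel bA0 rfl rfl J1A0.upper ?_
      have h6 := S.rel_of hyd hq hj
      rw [hg] at h6
      simp only [c0, map_mul, map_inv, mul_inv_rev, inv_inv, hw, mul_assoc] at h6
      simp only [rA0, List.map_cons, List.map_nil, List.prod_cons, List.prod_nil, el, lt, mul_one]
      exact h6
    · have h6 := S.rel_of hyd hq hj
      rw [hg] at h6
      simp only [c0, map_mul, map_inv, mul_inv_rev, inv_inv, hw, mul_assoc] at h6
      simp only [rA1, List.map_cons, List.map_nil, List.prod_cons, List.prod_nil, el, lt, mul_one]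
      exact h6
  · -- case B
    exfalso
    set g := emb e c0 * (ρ * ρ * ρ) with hg
    have h0 : (ρ * ρ * ρ) * t * (ρ * ρ * ρ)⁻¹ = t * emb e v1 := by
      calc (ρ * ρ * ρ) * t * (ρ * ρ * ρ)⁻¹ = ρ * (ρ * (ρ * t * ρ⁻¹) * ρ⁻¹) * ρ⁻¹ := by group
        _ = t * emb e v1 := by rw [S.r1, S.r3, S.r4]
    have h1 : g * t * g⁻¹ = emb e uu * t := by
      calc g * t * g⁻¹ = emb e c0 * ((ρ * ρ * ρ) * t * (ρ * ρ * ρ)⁻¹) * (emb e c0)⁻¹ := by rw [hg]; group
        _ = (emb e c0 * emb e v1 * (emb e c0)⁻¹) * (emb e c0 * t * (emb e c0)⁻¹) := by rw [h0, ← S.vt]; group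
        _ = emb e uu * t := by rw [hct, uu, map_mul, map_mul, map_inv]; group
    have h2 : (g⁻¹ * y * g) * t = t * (g⁻¹ * y * g) := by
      calc (g⁻¹ * y * g) * t = g⁻¹ * (y * (g * t * g⁻¹)) * g := by group
        _ = g⁻¹ * ((emb e uu * t) * y) * g := by rw [h1, hc]
        _ = g⁻¹ * ((g * t * g⁻¹) * y) * g := by rw [h1]
        _ = _ := by group
    obtain ⟨q, hq⟩ := exists_emb e h2
    obtain ⟨hq5, hqn⟩ := hq1 hq
    have h3 : g⁻¹ * t * g = emb e v3 := by
      have k1 : ρ * emb e v3 * ρ⁻¹ = emb e v2 * (t * emb e v1) := by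
        rw [v3, map_mul]
        calc ρ * (emb e v1 * emb e v2) * ρ⁻¹ = (ρ * emb e v1 * ρ⁻¹) * (ρ * emb e v2 * ρ⁻¹) := by group
          _ = _ := by rw [S.r4, S.r3]
      have k2 : ρ * (emb e v2 * (t * emb e v1)) * ρ⁻¹ = t * emb e v2 := by
        calc ρ * (emb e v2 * (t * emb e v1)) * ρ⁻¹ = (ρ * emb e v2 * ρ⁻¹) * ((ρ * t * ρ⁻¹) * (ρ * emb e v1 * ρ⁻¹)) := by
              group
          _ = t * (emb e v1 * emb e v1) * emb e v2 := by rw [S.r4, S.r1, S.r3]; group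
          _ = t * emb e v2 := by rw [S.vv, mul_one]
      have k3 : ρ * (t * emb e v2) * ρ⁻¹ = t := by
        calc ρ * (t * emb e v2) * ρ⁻¹ = (ρ * t * ρ⁻¹) * (ρ * emb e v2 * ρ⁻¹) := by group
          _ = (emb e v1 * t) * emb e v1 := by rw [S.r1, S.r4]; group
          _ = t * (emb e v1 * emb e v1) := by rw [S.vt]; group
          _ = t := by rw [S.vv, mul_one]
      have h4 : (ρ * ρ * ρ) * emb e v3 * (ρ * ρ * ρ)⁻¹ = t := by
        calc (ρ * ρ * ρ) * emb e v3 * (ρ * ρ * ρ)⁻¹ = ρ * (ρ * (ρ * emb e v3 * ρ⁻¹) * ρ⁻¹) * ρ⁻¹ := by group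
          _ = t := by rw [k1, k2, k3]
      calc g⁻¹ * t * g = (ρ * ρ * ρ)⁻¹ * ((emb e c0)⁻¹ * (t * emb e c0)) * (ρ * ρ * ρ) := by rw [hg]; group
        _ = (ρ * ρ * ρ)⁻¹ * t * (ρ * ρ * ρ) := by rw [← hct]; group
        _ = (ρ * ρ * ρ)⁻¹ * ((ρ * ρ * ρ) * emb e v3 * (ρ * ρ * ρ)⁻¹) * (ρ * ρ * ρ) := by rw [h4]
        _ = _ := by group
    have h5 : v3 * q * v3⁻¹ = q⁻¹ := by
      apply emb_inj e
      rw [map_mul, map_mul, map_inv, map_inv, ← h3, hq]
      calc g⁻¹ * t * g * (g⁻¹ * y * g) * (g⁻¹ * t * g)⁻¹ = g⁻¹ * (t * y * t⁻¹) * g := by group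
        _ = (g⁻¹ * y * g)⁻¹ := by rw [hyt]; group
    obtain ⟨j, hj | hj⟩ := facB q hq5 hqn h5
    · refine S.no_rel bB0 rfl rfl J1B0.upper ?_
      have h6 := S.rel_of hyd hq hj
      rw [hg] at h6
      simp only [c0, map_mul, map_inv, mul_inv_rev, inv_inv, hw, mul_assoc] at h6
      simp only [rB0, List.map_cons, List.map_nil, List.prod_cons, List.prod_nil, el, lt, mul_one]
      exact h6
    · refine S.no_rel bB1 rfl rfl J1B1.upper ?_
      have h6 := S.rel_of hyd hq hj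
      rw [hg] at h6
      simp only [c0, map_mul, map_inv, mul_inv_rev, inv_inv, hw, mul_assoc] at h6
      simp only [rB1, List.map_cons, List.map_nil, List.prod_cons, List.prod_nil, el, lt, mul_one]
      exact h6

end Setup

end
end H58.J1
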