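import Cfsg.Agent.Lib.H58.J1H
import Cfsg.Agent.Lib.H94.J1Main

/-! Uniqueness of `J₁`: the isomorphism with a presented group. -/

set_option autoImplicit false
set_option linter.unusedSectionVars false
set_option linter.unusedVariables false
open Subgroup Cfsg H94.J1 Equiv

namespace H58.J1

set_option maxRecDepth 100000

/-- the relators -/
def rels : Set (FreeGroup ℕ) :=
  {x | (∃ r ∈ J1A1.base, x = (r.map FreeGroup.of).prod) ∨ ∃ n : ℕ, 7 ≤ n ∧ x = FreeGroup.of n}

/-- the presented group -/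
abbrev PG := PresentedGroup rels

/-- its letters -/
def lP : ℕ → PG := fun n => PresentedGroup.of n

theorem lP_base : ∀ r ∈ J1A1.base, (r.map lP).prod = 1 := by
  intro r hr
  have h1 : (r.map lP).prod = PresentedGroup.mk rels ((r.map FreeGroup.of).prod) := by
    rw [map_list_prod, List.map_map]
    rfl
  rw [h1]
  apply PresentedGroup.one_of_mem
  exact Or.inl ⟨r, hr, rfl⟩

theorem lP_big {n : ℕ} (hn : 7 ≤ n) : lP n = 1 := PresentedGroup.one_of_mem (Or.inr ⟨n, hn, rfl⟩)

theorem lP_inv : ∀ g, lP (J1A1.io g) = (lP g)⁻¹ := by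
  intro g
  have b1 := lP_base [0,0] (by decide +kernel)
  have b2 := lP_base [3,3] (by decide +kernel)
  have b3 := lP_base [4,4] (by decide +kernel)
  have b4 := lP_base [1,2] (by decide +kernel)
  have b5 := lP_base [5,6] (by decide +kernel)
  simp only [List.map_cons, List.map_nil, List.prod_cons, List.prod_nil, mul_one] at b1 b2 b3 b4 b5
  match g with
  | 0 => exact eq_inv_of_mul_eq_one_left b1
  | 1 => exact eq_inv_of_mul_eq_one_right b4
  | 2 => exact eq_inv_of_mul_eq_one_left b4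
  | 3 => exact eq_inv_of_mul_eq_one_left b2
  | 4 => exact eq_inv_of_mul_eq_one_left b3
  | 5 => exact eq_inv_of_mul_eq_one_right b5
  | 6 => exact eq_inv_of_mul_eq_one_left b5
  | (n + 7) =>
    change lP (n + 7) = _
    rw [lP_big (by omega), inv_one]

theorem lP_gen : closure {x | ∃ g < 7, x = lP g} = ⊤ := by
  rw [eq_top_iff, ← PresentedGroup.closure_range_of rels, closure_le]
  rintro _ ⟨n, rfl⟩
  by_cases hn : n < 7
  · exact subset_closure ⟨n, hn, rfl⟩
  · change lP n ∈ _
    rw [lP_big (by omega)]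
    exact one_mem _

/-- the subgroup `2 × A₅` -/
def HP : Subgroup PG := closure {lP 0, lP 1, lP 3}

theorem HP0 : lP 0 ∈ HP := subset_closure (by simp)
theorem HP1 : lP 1 ∈ HP := subset_closure (by simp)
theorem HP3 : lP 3 ∈ HP := subset_closure (by simp)

theorem HP_index : HP.FiniteIndex ∧ HP.index ≤ 1463 := by
  refine J1A1.upper lP lP_inv lP_base lP_gen HP ?_
  intro w hw
  have hw' : w ∈ [[0],[1],[3]] := hw
  simp only [List.mem_cons, List.not_mem_nil, or_false] at hw'
  rcases hw' with rfl | rfl | rfl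
  · change 1 * lP 0 ∈ _
    rw [one_mul]; exact HP0
  · change 1 * lP 1 ∈ _
    rw [one_mul]; exact HP1
  · change 1 * lP 3 ∈ _
    rw [one_mul]; exact HP3

/-- letters in the subgroup -/
def lK : ℕ → HP
  | 0 => ⟨lP 0, HP0⟩
  | 1 => ⟨lP 1, HP1⟩
  | 2 => ⟨lP 2, by rw [show lP 2 = (lP 1)⁻¹ from lP_inv 1]; exact inv_mem HP1⟩
  | 3 => ⟨lP 3, HP3⟩
  | _ => 1

theorem lK_coe {g : ℕ} (hg : g < 4) : (lK g : PG) = lP g := by
  interval_cases g <;> rfl

theorem lK_inv : ∀ g, lK (J1K.io g) = (lK g)⁻¹ := by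
  intro g
  match g with
  | 0 => exact Subtype.ext (lP_inv 0)
  | 1 => exact Subtype.ext (lP_inv 1)
  | 2 => exact Subtype.ext (lP_inv 2)
  | 3 => exact Subtype.ext (lP_inv 3)
  | (n + 4) => exact inv_one.symm

theorem K_lt : ∀ r ∈ J1K.base, ∀ g ∈ r, g < 4 := by decide +kernel
theorem K_sub : ∀ r ∈ J1K.base, r ∈ J1A1.base := by decide +kernel

theorem lK_base : ∀ r ∈ J1K.base, (r.map lK).prod = 1 := by
  intro r hr
  apply Subtype.ext
  have h1 : (((r.map lK).prod : HP) : PG) = ((r.map lK).map (fun x : HP => (x : PG))).prod :=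
    map_list_prod HP.subtype _
  rw [h1, List.map_map]
  have h2 : r.map ((fun x : HP => (x : PG)) ∘ lK) = r.map lP :=
    List.map_congr_left fun g hg => lK_coe (K_lt r hr g hg)
  rw [h2, lP_base r (K_sub r hr)]
  rfl

theorem lK_gen : closure {x | ∃ g < 4, x = lK g} = ⊤ := by
  rw [eq_top_iff]
  rintro ⟨x, hx⟩ -
  unfold HP at hx
  have key : ∀ y ∈ closure ({lP 0, lP 1, lP 3} : Set PG), ∃ z ∈ closure {x | ∃ g < 4, x = lK g}, (z : PG) = y := by
    intro y hy
    induction hy using closure_induction with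
    | mem y hy =>
      rcases hy with rfl | rfl | rfl
      · exact ⟨lK 0, subset_closure ⟨0, by norm_num, rfl⟩, rfl⟩
      · exact ⟨lK 1, subset_closure ⟨1, by norm_num, rfl⟩, rfl⟩
      · exact ⟨lK 3, subset_closure ⟨3, by norm_num, rfl⟩, rfl⟩
    | one => exact ⟨1, one_mem _, rfl⟩
    | mul a b _ _ ha hb =>
      obtain ⟨a', ha', rfl⟩ := ha
      obtain ⟨b', hb', rfl⟩ := hb
      exact ⟨a' * b', mul_mem ha' hb', rfl⟩
    | inv a _ ha =>
      obtain ⟨a', ha', rfl⟩ := ha
      exact ⟨a'⁻¹, inv_mem ha', rfl⟩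
  obtain ⟨z, hz, hz2⟩ := key x hx
  have : (⟨x, hx⟩ : HP) = z := Subtype.ext hz2.symm
  rw [this]; exact hz

theorem HP_card : Finite HP ∧ Nat.card HP ≤ 120 := by
  obtain ⟨h1, h2⟩ := J1K.upper lK lK_inv lK_base lK_gen ⊥ (by
    intro w hw
    have : w ∈ ([] : List (List ℕ)) := hw
    simp at this)
  rw [index_bot] at h2
  refine ⟨?_, h2⟩
  have h3 := h1.index_ne_zero
  rw [index_bot] at h3
  exact Nat.finite_of_card_ne_zero h3

theorem PG_card : Finite PG ∧ Nat.card PG ≤ 175560 := by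
  obtain ⟨h1, h2⟩ := HP_index
  obtain ⟨h3, h4⟩ := HP_card
  have h5 : HP.index ≠ 0 := h1.index_ne_zero
  have h6 : Nat.card HP * HP.index = Nat.card PG := HP.card_mul_index
  have h7 : Nat.card PG ≠ 0 := by
    rw [← h6]
    exact Nat.mul_ne_zero Nat.card_pos.ne' h5
  refine ⟨Nat.finite_of_card_ne_zero h7, ?_⟩
  rw [← h6]
  calc Nat.card HP * HP.index ≤ 120 * 1463 := Nat.mul_le_mul h4 h2
    _ = 175560 := by norm_num

theorem Setup.iso {G : Type*} [Group G] [Finite G] {t : G} {e : centralizer ({t} : Set G) ≃* MP} {ρ : G}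
    (S : Setup t e ρ) : Nonempty (PG ≃* G) := by
  have hr : ∀ x ∈ rels, FreeGroup.lift (el e ρ) x = 1 := by
    rintro x (⟨r, hr, rfl⟩ | ⟨n, hn, rfl⟩)
    · rw [map_list_prod, List.map_map]
      have h1 : (r.map (⇑(FreeGroup.lift (el e ρ)) ∘ FreeGroup.of)) = r.map (el e ρ) :=
        List.map_congr_left fun g _ => by simp
      rw [h1]
      rw [bA1, List.mem_append] at hr
      rcases hr with hr | hr
      · exact S.base_ok r hr
      · rw [List.mem_singleton] at hr
        rw [hr]; exact S.relA1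
    · rw [FreeGroup.lift_apply_of]
      obtain ⟨m, rfl⟩ := Nat.exists_eq_add_of_le' hn
      rfl
  let f : PG →* G := PresentedGroup.toGroup hr
  have hf : ∀ n, f (lP n) = el e ρ n := fun n => PresentedGroup.toGroup.of hr
  have hsurj : Function.Surjective f := by
    rw [← MonoidHom.range_eq_top, eq_top_iff, ← S.el_gen, closure_le]
    rintro _ ⟨g, hg, rfl⟩
    exact ⟨lP g, hf g⟩
  obtain ⟨h1, h2⟩ := PG_card
  have hb : Function.Bijective f := by
    apply hsurj.bijective_of_nat_card_le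
    rw [S.hG]; exact h2
  exact ⟨MulEquiv.ofBijective f hb⟩

/-- a simple group with a 2-central involution with centralizer `2 × A₅` is isomorphic to the presented group -/
theorem main {G : Type*} [Group G] [Finite G] [IsSimpleGroup G] (t : G) (ht : IsTwoCentralInvolution t)
    (e : centralizer ({t} : Set G) ≃* Multiplicative (ZMod 2) × alternatingGroup (Fin 5)) : Nonempty (PG ≃* G) := by
  obtain ⟨ho, P, htP, hP⟩ := ht
  let _ := Fintype.ofFinite (IrrCharacter G)
  have L : Loc t e := loc e ho P htP hP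
  obtain ⟨e', ρ, S⟩ := exists_setup L (order_eq L)
  exact S.iso

end H58.J1
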