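import Cfsg.Agent.Lib.H58.J1I
import Cfsg.Agent.S0457
import Cfsg.Agent.S2131
import Cfsg.Prelude.Def_Spor_J1

/-! Uniqueness of `J₁`: identification with the matrix group. -/

set_option autoImplicit false
open Subgroup Cfsg

namespace H58.J1

theorem two_central_of_odd {G : Type*} [Group G] [Finite G] {t : G} (ht : orderOf t = 2)
    (hodd : ¬ 2 ∣ (centralizer ({t} : Set G)).index) : IsTwoCentralInvolution t := by
  have : Fact (Nat.Prime 2) := ⟨Nat.prime_two⟩
  set C := centralizer ({t} : Set G) with hC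
  have htC : t ∈ C := mem_centralizer_singleton_iff.2 rfl
  have h1 : IsPGroup 2 (zpowers (⟨t, htC⟩ : C)) := IsPGroup.of_card (n := 1) (by
    rw [Nat.card_zpowers, Subgroup.orderOf_mk, ht, pow_one])
  obtain ⟨Q, hQ⟩ := h1.exists_le_sylow
  have h2 : IsPGroup 2 ((Q : Subgroup C).map C.subtype) := Q.2.map _
  have h3 : ¬ 2 ∣ ((Q : Subgroup C).map C.subtype).index := by
    rw [Subgroup.index_map_subtype]
    intro h
    rcases Nat.prime_two.dvd_mul.1 h with h | h
    · exact Q.not_dvd_index h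
    · exact hodd h
  refine ⟨ht, h2.toSylow h3, ⟨⟨t, htC⟩, hQ (mem_zpowers _), rfl⟩, ?_⟩
  rintro _ ⟨x, -, rfl⟩
  exact mem_centralizer_singleton_iff.1 x.2

theorem isJ1_J1 : IsJ1 Spor.J1 := by
  obtain ⟨x, y, hx, hy, h⟩ := Cfsg.Agent.S0457.result
  have h1 : x = Spor.jankoX := Units.ext hx
  have h2 : y = Spor.jankoY := Units.ext hy
  rw [h1, h2] at h
  exact h

theorem J1_iso : Nonempty (PG ≃* Spor.J1) := by
  obtain ⟨t, ht, ⟨e⟩⟩ := Cfsg.Agent.S2131.result
  obtain ⟨hs, hc⟩ := isJ1_J1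
  have hfin : Finite Spor.J1 := Nat.finite_of_card_ne_zero (by rw [hc]; norm_num)
  apply main t (two_central_of_odd ht ?_) e
  intro h
  have h1 := (centralizer ({t} : Set Spor.J1)).card_mul_index
  rw [H94.J1.card_cent e, hc] at h1
  omega

theorem main' {G : Type*} [Group G] [Finite G] [IsSimpleGroup G] (t : G) (ht : IsTwoCentralInvolution t)
    (e : centralizer ({t} : Set G) ≃* Multiplicative (ZMod 2) × alternatingGroup (Fin 5)) : Spor.IsoJ1 G := by
  obtain ⟨f⟩ := main t ht e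
  obtain ⟨g⟩ := J1_iso
  exact ⟨f.symm.trans g⟩

end H58.J1
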