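import Mathlib
import Cfsg.Agent.Lib.H58.J2H

/-! Groups of Hall-Janko type: the action of `ρ` on `C_G(⟨z, e0⟩)` (helper58). -/

set_option autoImplicit false
set_option linter.style.haveILetI false
set_option maxRecDepth 100000
set_option linter.unusedSectionVars false

namespace H58.J2H

open H58.J2A H58.J2Alt Subgroup

def THn : ℕ := 0xfffffffffffffffffffffffffffffffffffffffffffffffffffffffffffffffffffffffffffffffffffffffffffffffffffffffffffffffffffffffffffffffffffffffffffffffffffffffffffffffffffffffffffffffffffffffffffffffffffffffffffffffffffffffffffffffffffffffffffffffffffffffffffffffffffffffffffffffffffffffffffffffffffffffffffffffffffffffffffffffffffffffffffffffffffffffffffffffffffffffffffffffffffffffffffffffffffffffffffffffffffffffffffffffffffffffffffffffffffffffffffffffffffffffffffffffffffffffffffffffffffffffffffffffffffffffffffffffffffffffffffffffffffffffffffffffffffffffffffffffffffffffffffffffffffffffffffffffffffffffffffffffffffffffffffffffffffffffffffff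ffffffffffffffffffffffffffffffffffffffffffffffffffffffffffffffffffffffffffffffffffffffffffffffffffffffffffffffffffffffffffffffffffffffffffffffffffffffffffffffffffffffffffffffffffffffffffffffffffffffffffffffffffffffffffffffffffffffffffffffffffffffffffffffffffffffffffffffffffffffffffffffffffffffffffffffffffffffffffffffffffffffffffffffffffffffffffffffffffffffffffffffffffffffffffffffffffffffffffffffffffffffffffffffffffffffffffffffffffffffffffffffffffffffffffffffffffffffffffffffffffffffffffffffffffffffffffffffffffffffffffffffffffffffffffffffffffffffffffffffffffffffffffffffffffffffffffffffffffffffffffffffffffffffffffffffffffffffffffffffffffffffffffffffffffffffffffffffffffffffffffffffffffffffffffffffffffffffffffffffffffffffffffffffffffffffffffffffffffffffffffffffffffffffffffffffffffffffffffffffffffffffffffffffffffffffffffffffffffffffffffffffffffffffffffffffffffffffffffffffffffffffffffffffffffffffffffffffffffffffffffffffffffffffffffffffffffffffffffffffffffffffffffffffffff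ffffffffffffffffffffffffffffffffffffffffffffffffffffffffffffffffffffffffffffffffffffffffffffffffffffffffffffffffffffffffffffffffffffffffffffffffffffffffffffffffffffffffffffffffffffffffffffffffffffffffffffffffffffffffffffffffffffffffffffffffffffffffffffffffffffffffffffffffffffffffffffffffffffffffffffffffffffffffffffffffffffffffffffffffffffffffffffffffffffffffffffffffffffffffffffffffffffffffffffffffffffffffffffffffffffffffffffffffffffffffffffffffffffffffffffffffffffffffffffffffffffffffffffffffffffffffffffffffffffffffffffffffffffffffffffffffffffffffffffffffffffffffffffffffffffffffffffffffffffffffffffffffffffffffffffffffffffffffffffffffffffffffffffffffffffffffffffffffffffffffffffffffffffffffffffffffffffffffffffffffffffffffffffffffffffffffffffffffffffffffffffffffffffffffffffffffffffffffffffffffffffffffffffffffffffffffffffffffffffffffffffffffffffffffffffffffffffffffffffffffffffffffffffffffffffffffffffffffffffffffffffffffffffffffffffffffffffffffffffffffffffffffffffffffff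ffffffffffffffffffffffffffffffffffffffffffffffffffffffffffffffffffffffffffffffffffffffffffffffffffffffffffffffffffffffffffffffffffffffffffffffffffffffffffffffffffffffffffffffffffffffffffffffffffffffffffffffffffffffffffffffffffffffffffffffffffffffffffffffffffffffffffffffffffffffffffffffffffffffffffffffffffffffffffffffffffffffffffffffffffffffffffffffffffffffffffffffffffffffffffffffffffffffffffffffffffffffffffffffffffffffffffffffffffffffffffffffffffffffffffffffffffffffffffffffffffffffffffffffffffffffffffffffffffffffffffffffffffffffffffffffffffffffffffffffffffffffffffffffffffffffffffffffffffffffffffffffffffffffffffffffffffffffffffffffffffffffffffffffffffffffffffffffffffffffffffffffffffffffffffffffffffffffffffffffffffffffffffffffffffffffffffffffffffffffffffffffffffffffffffffffffffffffffffffffffffffffffffffffffffffffffffffffffffffffffffffffffffffffffffffffffffffffffffffffffffffffffffffffffffffffffffffffffffffffffffffffffffffffffffffffffffffffffffffffffffffffffffffffffff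ffffffffffffffffffffffffffffffffffffffffffffffffffffffffffffffffffffffffffffffffffffffffffffffffffffffffffffffffffffffffffffffffffffffffffffffffffffffffffffffffffffffffffffffffffffffffffffffffffffffffffffffffffffffffffffffffffffffffffffffffffffffffffffffffffffffffffffffffffffffffffffffffffffffffffffffffffffffffffffffffffffffffffffffffffffffffffffffffffffffffffffffffffffffffffffffffffffffffffffffffffffffffffffffffffffffffffffffffffffffffffffffffffffffffffffffffffffffffffffffffffffffffffffffffffffffffffffffffffffffffffffffffffffffffffffffffffffffffffffffffffffffffffffffffffffffffffffffffffffffffffffffffffffffffffffffffffffffffffffffffffffffffffffffffffc3307721a473fffff03402fffffffffffcb8161fffffc33876218477fffff03602bffffffffffcb8960fffffc530b719a373fffff0740afffffffffffca8141fffffc538b6198377fffff0760abffffffffffca8940fffffc430971da3f3fffff0b412fffffffffffc98121fffffc438961d83f7fffff0b612bffffffffffc98920fffffc030172da5f3fffff0f41afffffffffffc88101fffffc038162d85f7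fffff0f61abffffffffffc88900fffffc2305725a4f3fffff13422fffffffffffc780e1fffffc238562584f7fffff13622bffffffffffc788e0fffffc1303729a573fffff1742afffffffffffc680c1fffffc13836298577fffff1762abffffffffffc688c0fffffca315705a0f3fffff1b432fffffffffffc580a1fffffca39560580f7fffff1b632bffffffffffc588a0fffffc9313709a173fffff1f43afffffffffffc48081fffffc93936098177fffff1f63abffffffffffc48880fffffcb317701a073fffff23442fffffffffffc38061fffffcb3976018077fffff23642bffffffffffc38860fffffc730f711a273fffff2744afffffffffffc28041fffffc738f6118277fffff2764abffffffffffc28840fffffc630d715a2f3fffff2b452fffffffffffc18021fffffc638d61582f7fffff2b652bffffffffffc18820fffffc831170da1f3fffff2f45afffffffffffc08001fffffc839160d81f7fffff2f65abffffffffffc08800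
def DLn : ℕ := 0x22e0280e01620e0300d0060f8458b316a0f41acbb80b0fa39c7b16b0ec428b8911156074360ca02e418bb17a0d41ec06967036570368f706e398630072f63706b0270cc2ec8d1611984046d14c10e31c4b03624c2984d8771545688582c07a5c0a58dd2204dc5b88a196130ae85d0ac5587582a1785445889c0624c44b8d710c0989b0b611619c5d14a2360f0169602b63348012714e2686d85c29a134231461f60e856141142230109210ae55c7505a0564b05e95027a2c02589d0604c0950fc1a21447884728e3e82503b2782b4a012d14016c468202404e8760c10823849590c1fa3402811d1e05f048871276470768c00804347016c102184be8900e0044b68800c000408000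
def PGn : ℕ := 0x9c524e45c7a8e71922dc4b846fedf9bea7c6f6de5bc3778ec9d238b6c6d6da9b4b648c8d89b045e4bad71ada5a6b2d622bb566ac9562a2534a5149a8b4f69e93125b4a694925a434788ed19a2c4348490620b40880d011fb3f47ccf59ea3c878ced9d43a6730e59ca386708de1b43586acd51a3338668c998c316628c117a2e85ccb616b2d458cb115b2a6548a614b2864f09d9342664c89592a2484708a11322442c821021f63d0798f21d83ac750e31b63686a0d219832c618bc1762e8598ac1562a85189c1362684988b1142104107c0f61cc3606b0d418c2e05b0b414c2584a08810c2103c0760d0198320560a8120230440700d8140260480600b0140240200300400400000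
def G1n : ℕ := 0x16d10018000810
def G2n : ℕ := 0x6710018008801
def t11 (T i : ℕ) : ℕ := Nat.mod (Nat.shiftRight T (Nat.mul 11 i)) 2048
/-- the automorphism of `D = C_C(e0)` -/
def th (d : ℕ) : ℕ := t11 THn d
def dl (i : ℕ) : ℕ := t11 DLn i
def inD (d : ℕ) : Bool := Nat.beq (wm d 1) (wm 1 d)

theorem dl_check : allN (fun i => Bool.or (Nat.beq i 0) (Bool.and (Nat.blt (t11 PGn i / 8) i) (Bool.and (Nat.blt (t11 PGn i % 8) 5)
    (Bool.and (Nat.beq (dl i) (wm (t11 G1n (t11 PGn i % 8)) (dl (t11 PGn i / 8))))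
      (Nat.beq (th (dl i)) (wm (t11 G2n (t11 PGn i % 8)) (th (dl (t11 PGn i / 8))))))))) 192 = true := by decide +kernel

theorem dl_lt : allN (fun i => Bool.and (Nat.blt (dl i) 1920) (Nat.blt (th (dl i)) 1920)) 192 = true := by decide +kernel
theorem dl_complete : allN (fun d => Bool.or (Bool.not (inD d)) (Bool.not (allN (fun i => Bool.not (Nat.beq (dl i) d)) 192))) 1920 = true := by
  decide +kernel
theorem dl_inD : allN (fun i => inD (dl i)) 192 = true := by decide +kernel

theorem wk_mul {m n : ℕ} (hm : m < 1920) (hn : n < 1920) : wk (wm m n) = wk m * wk n := by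
  apply W.ext'
  rw [mul_v]
  have e1 : (wk m).v = m := Nat.mod_eq_of_lt hm
  have e2 : (wk n).v = n := Nat.mod_eq_of_lt hn
  rw [e1, e2]
  exact Nat.mod_eq_of_lt (wm_lt hm hn)

theorem wkv {m : ℕ} (hm : m < 1920) : (wk m).v = m := Nat.mod_eq_of_lt hm

theorem wk_inj {m n : ℕ} (hm : m < 1920) (hn : n < 1920) (h : wk m = wk n) : m = n := by
  have := congrArg W.v h
  rwa [wkv hm, wkv hn] at this

theorem wk_inv {m : ℕ} (hm : m < 1920) : (wk m)⁻¹ = wk (wi m) := by
  apply W.ext'
  rw [inv_v, wkv hm]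
  exact (Nat.mod_eq_of_lt (wi_lt hm)).symm

variable {G : Type*} [Group G] {ι : W →* G} {z ρ : G}

/-- `ρ` acts by `θ` -/
structure R1 (ι : W →* G) (ρ : G) : Prop where
  c3 : ρ * ρ * ρ = 1
  g0 : ρ * ι (wk 16) = ι (wk 1) * ρ
  g1 : ρ * ι (wk 1) = ι (wk 17) * ρ
  g2 : ρ * ι (wk 96) = ι (wk 96) * ρ
  g3 : ρ * ι (wk 128) = ι (wk 128) * ρ
  g4 : ρ * ι (wk 365) = ι (wk 103) * ρ

theorem R1.gen (h : R1 ι ρ) : ∀ j < 5, ρ * ι (wk (t11 G1n j)) = ι (wk (t11 G2n j)) * ρ := by
  intro j hj
  interval_cases j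
  · exact h.g0
  · exact h.g1
  · exact h.g2
  · exact h.g3
  · exact h.g4

theorem g_lt : ∀ j < 5, t11 G1n j < 1920 ∧ t11 G2n j < 1920 := by
  intro j hj
  interval_cases j <;> decide +kernel

theorem R1.dl (h : R1 ι ρ) : ∀ i < 192, ρ * ι (wk (dl i)) = ι (wk (th (dl i))) * ρ := by
  intro i
  induction i using Nat.strong_induction_on with
  | _ i ih =>
    intro hi
    have h0 := allN_iff.1 dl_check i hi
    simp only [Bool.or_eq_true, Bool.and_eq_true, Nat.beq_eq, Nat.blt_eq] at h0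
    rcases h0 with h0 | ⟨h1, h2, h3, h4⟩
    · rw [h0]
      have e1 : wk (H58.J2H.dl 0) = 1 := by decide +kernel
      have e2 : wk (th (H58.J2H.dl 0)) = 1 := by decide +kernel
      rw [e1, e2, map_one]; simp
    · have h5 := ih _ h1 (by omega)
      have h6 := h.gen _ h2
      have h7 := allN_iff.1 dl_lt (t11 PGn i / 8) (by omega)
      rw [Bool.and_eq_true, Nat.blt_eq, Nat.blt_eq] at h7
      rw [h4, h3, wk_mul (g_lt _ h2).1 h7.1, wk_mul (g_lt _ h2).2 h7.2, map_mul, map_mul, ← mul_assoc, h6, mul_assoc, h5, mul_assoc]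

theorem R1.th (h : R1 ι ρ) {d : ℕ} (hd : d < 1920) (hD : inD d = true) : ρ * ι (wk d) = ι (wk (th d)) * ρ := by
  have h0 := allN_iff.1 dl_complete d hd
  rw [hD, Bool.not_true, Bool.false_or, Bool.not_eq_true'] at h0
  have h1 : ∃ i < 192, H58.J2H.dl i = d := by
    by_contra hcon
    push Not at hcon
    rw [allN_iff.2 (fun i hi => by rw [Bool.not_eq_true', ← Bool.not_eq_true, Nat.beq_eq]; exact hcon i hi)] at h0
    exact absurd h0 (by decide)
  obtain ⟨i, hi, rfl⟩ := h1
  exact h.dl i hi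

/-- conjugation in codes -/
def cw (r x : ℕ) : ℕ := wm (wm r x) (wi r)

theorem cw_lt {r x : ℕ} (hr : r < 1920) (hx : x < 1920) : cw r x < 1920 := wm_lt (wm_lt hr hx) (wi_lt hr)

theorem wk_cw {r x : ℕ} (hr : r < 1920) (hx : x < 1920) : wk (cw r x) = wk r * wk x * (wk r)⁻¹ := by
  rw [cw, wk_mul (wm_lt hr hx) (wi_lt hr), wk_mul hr hx, wk_inv hr]

theorem th_lt0 : allN (fun d => Bool.or (Bool.not (inD d)) (Bool.and (Nat.blt (th d) 1920) (Bool.and (inD (th d))
    (Bool.and (Nat.beq (th (th (th d))) d) (inD (th (th d))))))) 1920 = true := by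
  decide +kernel

theorem th_lt {d : ℕ} (hd : d < 1920) (hD : inD d = true) : H58.J2H.th d < 1920 ∧ inD (H58.J2H.th d) = true ∧
    H58.J2H.th (H58.J2H.th (H58.J2H.th d)) = d ∧ inD (H58.J2H.th (H58.J2H.th d)) = true := by
  have h0 := allN_iff.1 th_lt0 d hd
  rw [hD] at h0
  simpa [Nat.blt_eq, Nat.beq_eq, Bool.and_eq_true] using h0

theorem zeta0 : allN (fun d => Bool.or (Bool.not (inD d)) (Bool.and (inD (cw 128 d)) (Bool.and (inD (cw 15 (th (cw 128 d))))
    (Nat.beq (cw 15 (th (cw 15 (th (cw 128 d))))) d)))) 1920 = true := by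
  decide +kernel

theorem R1.mul_conj (r x : W) : ι r * ι x = ι (r * x * r⁻¹) * ι r := by
  rw [← map_mul, ← map_mul]; congr 1; group

theorem zeta_comm (h : R1 ι ρ) {d : ℕ} (hd : d < 1920) (hD : inD d = true) :
    (ι (wk 15) * ρ * ι (wk 15) * ρ * ι (wk 128)) * ι (wk d) = ι (wk d) * (ι (wk 15) * ρ * ι (wk 15) * ρ * ι (wk 128)) := by
  have h0 := allN_iff.1 zeta0 d hd
  rw [hD] at h0
  simp only [Bool.not_true, Bool.false_or, Bool.and_eq_true, Nat.beq_eq] at h0
  obtain ⟨h1, h2, h3⟩ := h0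
  have l1 : cw 128 d < 1920 := cw_lt (by norm_num) hd
  have l2 := (th_lt l1 h1).1
  have l3 : cw 15 (H58.J2H.th (cw 128 d)) < 1920 := cw_lt (by norm_num) l2
  have l4 := (th_lt l3 h2).1
  have m : ∀ r x : ℕ, r < 1920 → x < 1920 → ι (wk r) * ι (wk x) = ι (wk (cw r x)) * ι (wk r) := by
    intro r x hr hx
    rw [wk_cw hr hx, R1.mul_conj]
  have s1 := m 128 d (by norm_num) hd
  have s2 := h.th l1 h1
  have s3 := m 15 (H58.J2H.th (cw 128 d)) (by norm_num) l2
  have s4 := h.th l3 h2
  have s5 := m 15 _ (by norm_num) l4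
  rw [h3] at s5
  rw [mul_assoc, s1]
  calc ι (wk 15) * ρ * ι (wk 15) * ρ * (ι (wk (cw 128 d)) * ι (wk 128))
      = ι (wk 15) * ρ * ι (wk 15) * (ρ * ι (wk (cw 128 d))) * ι (wk 128) := by simp only [mul_assoc]
    _ = ι (wk 15) * ρ * (ι (wk 15) * ι (wk (H58.J2H.th (cw 128 d)))) * ρ * ι (wk 128) := by rw [s2]; simp only [mul_assoc]
    _ = ι (wk 15) * (ρ * ι (wk (cw 15 (H58.J2H.th (cw 128 d))))) * ι (wk 15) * ρ * ι (wk 128) := by rw [s3]; simp only [mul_assoc]
    _ = (ι (wk 15) * ι (wk (H58.J2H.th (cw 15 (H58.J2H.th (cw 128 d)))))) * ρ * ι (wk 15) * ρ * ι (wk 128) := by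
      rw [s4]; simp only [mul_assoc]
    _ = _ := by rw [s5]; simp only [mul_assoc]

theorem ZD : ∀ x : W, x * wk 1 = wk 1 * x → x * wk 96 = wk 96 * x → x * wk 128 = wk 128 * x → x * wk 365 = wk 365 * x →
    x = 1 ∨ x = wk 16 ∨ x = wk 1 ∨ x = wk 17 := by decide +kernel

structure RR (ι : W →* G) (ρ : G) : Prop where
  r1 : R1 ι ρ
  r4 : ι (wk 15) * ρ * ι (wk 15) * ρ * ι (wk 128) = 1

theorem UAD : ∀ x : W, x * wk 1 = wk 1 * x → x * x = 1 → wk 96 * x = wk 16 * (x * wk 96) → wk 256 * x = wk 17 * (x * wk 256) →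
    x * (wk 128 * x * (wk 128)⁻¹) * (wk 128 * (wk 128 * x * (wk 128)⁻¹) * (wk 128)⁻¹) = 1 → x = wk 103 := by decide +kernel

theorem R1_of {ι : W →* G} {z ρ : G} (hinj : Function.Injective ι) (cz : ∀ g : G, g * z = z * g → ∃ w, ι w = g)
    (z16 : ι (wk 16) = z) (c3 : ρ * ρ * ρ = 1) (g0 : ρ * z = ι (wk 1) * ρ) (g1 : ρ * ι (wk 1) = z * ι (wk 1) * ρ)
    (g2 : ρ * ι (wk 96) = ι (wk 96) * ρ) (g3 : ρ * ι (wk 128) = ι (wk 128) * ρ) : R1 ι ρ := by
  have g0' : ρ * ι (wk 16) = ι (wk 1) * ρ := by rw [z16]; exact g0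
  have g1' : ρ * ι (wk 1) = ι (wk 17) * ρ := by
    have : wk 17 = wk 16 * wk 1 := by decide +kernel
    rw [this, map_mul, z16]; exact g1
  have g17 : ρ * ι (wk 17) = ι (wk 16) * ρ := by
    have e1 : wk 17 = wk 16 * wk 1 := by decide +kernel
    have e2 : wk 1 * wk 17 = wk 16 := by decide +kernel
    rw [← e2, map_mul ι (wk 1) (wk 17), mul_assoc, ← g1', ← mul_assoc, ← g0', mul_assoc, ← map_mul, ← e1]
  refine ⟨c3, g0', g1', g2, g3, ?_⟩
  -- the image of ua
  have hz : (ρ * ι (wk 365) * ρ⁻¹) * z = z * (ρ * ι (wk 365) * ρ⁻¹) := by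
    have e1 : ρ⁻¹ * ι (wk 16) = ι (wk 17) * ρ⁻¹ := by
      rw [inv_mul_eq_iff_eq_mul, ← mul_assoc, g17, mul_inv_cancel_right]
    have e2 : wk 365 * wk 17 = wk 17 * wk 365 := by decide +kernel
    rw [← z16]
    calc ρ * ι (wk 365) * ρ⁻¹ * ι (wk 16) = ρ * (ι (wk 365) * ι (wk 17)) * ρ⁻¹ := by
          rw [mul_assoc (ρ * ι (wk 365)), e1]; simp only [mul_assoc]
      _ = ρ * ι (wk 17) * ι (wk 365) * ρ⁻¹ := by rw [← map_mul, e2, map_mul]; simp only [mul_assoc]
      _ = _ := by rw [g17]; simp only [mul_assoc]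
  obtain ⟨x, hx⟩ := cz _ hz
  have hxρ : ρ * ι (wk 365) = ι x * ρ := by rw [hx]; group
  have cm : ∀ a b : W, ρ * ι a = ι b * ρ → ρ * ι (a * wk 365) = ι (b * x) * ρ := by
    intro a b hab
    rw [map_mul, ← mul_assoc, hab, mul_assoc, hxρ, map_mul]; simp only [mul_assoc]
  have cm2 : ∀ a b : W, ρ * ι a = ι b * ρ → ρ * ι (wk 365 * a) = ι (x * b) * ρ := by
    intro a b hab
    rw [map_mul, ← mul_assoc, hxρ, mul_assoc, hab, map_mul]; simp only [mul_assoc]
  have mm : ∀ a b c d : W, ρ * ι a = ι b * ρ → ρ * ι c = ι d * ρ → ρ * ι (a * c) = ι (b * d) * ρ := by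
    intro a b c d h1 h2
    rw [map_mul, ← mul_assoc, h1, mul_assoc, h2, map_mul]; simp only [mul_assoc]
  have mi : ∀ a b : W, ρ * ι a = ι b * ρ → ρ * ι a⁻¹ = ι b⁻¹ * ρ := by
    intro a b h1
    rw [map_inv, map_inv, eq_inv_mul_iff_mul_eq, ← mul_assoc, ← h1, mul_inv_cancel_right]
  have uq : ∀ a b c : W, ρ * ι a = ι b * ρ → ρ * ι a = ι c * ρ → b = c := by
    intro a b c h1 h2
    exact hinj (mul_right_cancel (h1.symm.trans h2))
  have hx' : x = wk 103 := by
    apply UAD
    · have h1 := mm _ _ _ _ hxρ g0'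
      have h2 := mm _ _ _ _ g0' hxρ
      have e : wk 16 * wk 365 = wk 365 * wk 16 := by decide +kernel
      rw [e] at h2
      exact uq _ _ _ h1 h2
    · have h1 := mm _ _ _ _ hxρ hxρ
      have e : wk 365 * wk 365 = 1 := by decide +kernel
      rw [e] at h1
      have h2 : ρ * ι 1 = ι 1 * ρ := by simp
      exact uq _ _ _ h1 h2
    · -- wk 96 * ua = wk 17 * (ua * wk 96)
      have e : wk 96 * wk 365 = wk 17 * (wk 365 * wk 96) := by decide +kernel
      have h1 := mm _ _ _ _ g2 hxρ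
      have h2 := mm _ _ _ _ g17 (mm _ _ _ _ hxρ g2)
      rw [← e] at h2
      exact uq _ _ _ h1 h2
    · have g256 : ρ * ι (wk 256) = ι (wk 256) * ρ := by
        have e1 : wk 256 = wk 128 * wk 96 * (wk 128)⁻¹ ∨ wk 256 = wk 128 * (wk 128 * wk 96 * (wk 128)⁻¹) * (wk 128)⁻¹ := by
          decide +kernel
        rcases e1 with e1 | e1
        · have := mm _ _ _ _ (mm _ _ _ _ g3 g2) (mi _ _ g3)
          rwa [← e1] at this
        · have := mm _ _ _ _ (mm _ _ _ _ g3 (mm _ _ _ _ (mm _ _ _ _ g3 g2) (mi _ _ g3))) (mi _ _ g3)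
          rwa [← e1] at this
      have e : wk 256 * wk 365 = wk 1 * (wk 365 * wk 256) := by decide +kernel
      have h1 := mm _ _ _ _ g256 hxρ
      have h2 := mm _ _ _ _ g1' (mm _ _ _ _ hxρ g256)
      rw [← e] at h2
      exact uq _ _ _ h1 h2
    · have e : wk 365 * (wk 128 * wk 365 * (wk 128)⁻¹) * (wk 128 * (wk 128 * wk 365 * (wk 128)⁻¹) * (wk 128)⁻¹) = 1 := by
        decide +kernel
      have a1 := mm _ _ _ _ (mm _ _ _ _ g3 hxρ) (mi _ _ g3)
      have a2 := mm _ _ _ _ (mm _ _ _ _ g3 a1) (mi _ _ g3)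
      have a3 := mm _ _ _ _ (mm _ _ _ _ hxρ a1) a2
      rw [e] at a3
      have h2 : ρ * ι 1 = ι 1 * ρ := by simp
      exact uq _ _ _ a3 h2
  rw [hxρ, hx']

theorem exists_RR [Finite G] (h : HJ ι z) : ∃ ρ : G, RR ι ρ := by
  obtain ⟨ρ, c3, g0, g1, g2, g3⟩ := exists_rho h
  have r1 : R1 ι ρ := R1_of h.inj h.cz h.z16 c3 g0 g1 g2 g3
  set ζ := ι (wk 15) * ρ * ι (wk 15) * ρ * ι (wk 128) with hζ
  have hcomm : ∀ d < 1920, inD d = true → ζ * ι (wk d) = ι (wk d) * ζ := fun d hd hD => zeta_comm r1 hd hD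
  have hz : ζ * z = z * ζ := by
    rw [← h.z16]; exact hcomm 16 (by norm_num) (by decide +kernel)
  obtain ⟨x, hx⟩ := h.cz _ hz
  have hcW : ∀ d < 1920, inD d = true → x * wk d = wk d * x := by
    intro d hd hD
    apply h.inj
    rw [map_mul, map_mul, hx]
    exact hcomm d hd hD
  have hx4 := ZD x (hcW 1 (by norm_num) (by decide +kernel)) (hcW 96 (by norm_num) (by decide +kernel))
    (hcW 128 (by norm_num) (by decide +kernel)) (hcW 365 (by norm_num) (by decide +kernel))
  -- `(e4 ρ)` commutes with its square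
  have hsq : ι (wk 15) * ρ * (ζ * ι (wk 128)⁻¹) = ζ * ι (wk 128)⁻¹ * (ι (wk 15) * ρ) := by
    rw [hζ, map_inv]; simp only [mul_assoc, mul_inv_cancel, mul_one]
  have gi : ρ * ι (wk 128)⁻¹ = ι (wk 128)⁻¹ * ρ := by
    rw [map_inv, eq_inv_mul_iff_mul_eq, ← mul_assoc, ← r1.g3, mul_inv_cancel_right]
  have key : ∀ y : W, ρ * ι x = ι y * ρ → wk 15 * y * (wk 128)⁻¹ = x * (wk 128)⁻¹ * wk 15 := by
    intro y hy
    apply h.inj
    rw [map_mul, map_mul, map_mul, map_mul]
    apply mul_right_cancel (b := ρ)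
    calc ι (wk 15) * ι y * ι (wk 128)⁻¹ * ρ = ι (wk 15) * (ι y * ρ) * ι (wk 128)⁻¹ := by
          rw [mul_assoc, ← gi]; simp only [mul_assoc]
      _ = ι (wk 15) * ρ * (ζ * ι (wk 128)⁻¹) := by rw [← hy, hx]; simp only [mul_assoc]
      _ = _ := by rw [hsq, hx]; simp only [mul_assoc]
  rcases hx4 with hx4 | hx4 | hx4 | hx4
  · refine ⟨ρ, r1, ?_⟩
    rw [← hζ, ← hx, hx4, map_one]
  · exfalso
    have := key (wk 1) (by rw [hx4]; exact r1.g0)
    rw [hx4] at this
    exact absurd this (by decide +kernel)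
  · -- replace ρ
    have hE : ι (wk 1) * ι (wk 1) = 1 := by
      have : wk 1 * wk 1 = 1 := by decide +kernel
      rw [← map_mul, this, map_one]
    have hE' : ∀ g : G, ι (wk 1) * (ι (wk 1) * g) = g := fun g => by rw [← mul_assoc, hE, one_mul]
    have hD : ∀ a b : ℕ, wk a * wk 1 = wk 1 * wk a → wk b * wk 1 = wk 1 * wk b → ρ * ι (wk a) = ι (wk b) * ρ →
        (ι (wk 1) * ρ * ι (wk 1)) * ι (wk a) = ι (wk b) * (ι (wk 1) * ρ * ι (wk 1)) := by
      intro a b ha hb hab
      calc (ι (wk 1) * ρ * ι (wk 1)) * ι (wk a) = ι (wk 1) * ρ * (ι (wk 1) * ι (wk a)) := by rw [mul_assoc]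
        _ = ι (wk 1) * (ρ * ι (wk a)) * ι (wk 1) := by rw [← map_mul, ← ha, map_mul]; simp only [mul_assoc]
        _ = ι (wk 1) * ι (wk b) * (ρ * ι (wk 1)) := by rw [hab]; simp only [mul_assoc]
        _ = _ := by rw [← map_mul, ← hb, map_mul]; simp only [mul_assoc]
    refine ⟨ι (wk 1) * ρ * ι (wk 1), ⟨?_, ?_, ?_, ?_, ?_, ?_⟩, ?_⟩
    · calc ι (wk 1) * ρ * ι (wk 1) * (ι (wk 1) * ρ * ι (wk 1)) * (ι (wk 1) * ρ * ι (wk 1))
          = ι (wk 1) * ρ * (ι (wk 1) * (ι (wk 1) * ρ)) * (ι (wk 1) * (ι (wk 1) * ρ)) * ι (wk 1) := by simp only [mul_assoc]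
        _ = 1 := by
          rw [hE', mul_assoc (ι (wk 1)), mul_assoc (ι (wk 1)), r1.c3, mul_one, hE]
    · exact hD _ _ (by decide +kernel) (by decide +kernel) r1.g0
    · exact hD _ _ (by decide +kernel) (by decide +kernel) r1.g1
    · exact hD _ _ (by decide +kernel) (by decide +kernel) r1.g2
    · exact hD _ _ (by decide +kernel) (by decide +kernel) r1.g3
    · exact hD _ _ (by decide +kernel) (by decide +kernel) r1.g4
    · have a1 : ι (wk 1) * ι (wk 15) * ι (wk 1) = ι (wk 16) * ι (wk 15) := by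
        rw [← map_mul, ← map_mul, ← map_mul]; congr 1
      have a2 : ι (wk 1) * ι (wk 128) = ι (wk 128) * ι (wk 1) := by
        rw [← map_mul, ← map_mul]; congr 1
      have hζ1 : ι (wk 15) * ρ * ι (wk 15) * ρ * ι (wk 128) = ι (wk 1) := by rw [← hζ, ← hx, hx4]
      calc ι (wk 15) * (ι (wk 1) * ρ * ι (wk 1)) * ι (wk 15) * (ι (wk 1) * ρ * ι (wk 1)) * ι (wk 128)
          = ι (wk 15) * ι (wk 1) * ρ * (ι (wk 1) * ι (wk 15) * ι (wk 1)) * ρ * (ι (wk 1) * ι (wk 128)) := by
            simp only [mul_assoc]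
        _ = ι (wk 15) * ι (wk 1) * (ρ * ι (wk 16)) * ι (wk 15) * ρ * (ι (wk 128) * ι (wk 1)) := by
            rw [a1, a2]; simp only [mul_assoc]
        _ = ι (wk 15) * (ι (wk 1) * (ι (wk 1) * (ρ * ι (wk 15) * ρ * (ι (wk 128) * ι (wk 1))))) := by
            rw [r1.g0]; simp only [mul_assoc]
        _ = ι (wk 15) * ρ * ι (wk 15) * ρ * ι (wk 128) * ι (wk 1) := by rw [hE']; simp only [mul_assoc]
        _ = 1 := by rw [hζ1, hE]
  · exfalso
    have := key (wk 16) (by
      rw [hx4]
      have e1 : wk 17 = wk 16 * wk 1 := by decide +kernel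
      have e2 : wk 1 * wk 17 = wk 16 := by decide +kernel
      rw [← e2, map_mul ι (wk 1) (wk 17), mul_assoc, ← r1.g1, ← mul_assoc, ← r1.g0, mul_assoc, ← map_mul, ← e1])
    rw [hx4] at this
    exact absurd this (by decide +kernel)

end H58.J2H
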