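import Mathlib
import Cfsg.Agent.Lib.H58.J2J

/-! Groups of Hall-Janko type: the points at distance at most two (helper58). -/

set_option autoImplicit false
set_option linter.style.haveILetI false
set_option maxRecDepth 100000
set_option linter.unusedSectionVars false

namespace H58.J2H

open H58.J2A H58.J2Alt Subgroup

def CWn : ℕ := 0x114138851862242382d02602c0c8471122642f82708a1ac1d85f1323343681901604c1686d19a30c4283b0d6114138851862242382d02602c0c8471122642f82708a1ac1d85f1323343681901604c1686d19a30c4283b0d6114138851862242382d02602c0c8471122642f82708a1ac1d85f1323343681901604c1686d19a30c4283b0d6064058cd0da2146184504e0ec358c310a11c4480b0320b40988908e17c4c86b07609c228990be1b46681305a064058cd0da2146184504e0ec358c310a11c4480b0320b40988908e17c4c86b07609c228990be1b46681305a064058cd0da2146184504e0ec358c310a11c4480b0320b40988908e17c4c86b07609c228990be1b46681305a2642f82708a02c0c847112334368190161ac1d85f13230c4283b0d604c1686d19a2242382d026114138851862642f82708a02c0c847112334368190161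ac1d85f13230c4283b0d604c1686d19a2242382d026114138851862642f82708a02c0c847112334368190161ac1d85f13230c4283b0d604c1686d19a2242382d026114138851861b46681305a09c228990be2146184504e064058cd0da11c4480b0320ec358c310a17c4c86b0760b40988908e1b46681305a09c228990be2146184504e064058cd0da11c4480b0320ec358c310a17c4c86b0760b40988908e1b46681305a09c228990be2146184504e064058cd0da11c4480b0320ec358c310a17c4c86b0760b40988908e0e40e92319206c1e85d12e0e40e92319206c1e85d12e0941892b21a0bc318831b60941892b21a0bc318831b60e40e92319206c1e85d12e0e40e92319206c1e85d12e0941892b21a0bc318831b60941892b21a0bc318831b60e40e92319206c1e85d12e0e40e92319206c1e85d12e0941892b21a0bc318831b60941892b21a0bc318831b60f40d8db1060c4128c92460f40d8db1060c4128c924618c178970ba0741c90d25618c178970ba0741c90d2560f40d8db1060c4128c92460f40d8db1060c4128c924618c178970ba0741c90d25618c178970ba0741c90d2560f40d8db1060c4128c92460f40d8db1060c4128c924618c178970ba0741c90d25618c178970ba0741c90d2561744b81b07a4ac868250621744b81b07a4ac8682506220c6d82f0c64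8c6483903a20c6d82f0c648c6483903a1744b81b07a4ac868250621744b81b07a4ac8682506220c6d82f0c648c6483903a20c6d82f0c648c6483903a1744b81b07a4ac868250621744b81b07a4ac8682506220c6d82f0c648c6483903a20c6d82f0c648c6483903a3249183104a25c2e86305e3249183104a25c2e86305e4349581d07236c4183d0364349581d07236c4183d0363249183104a25c2e86305e3249183104a25c2e86305e4349581d07236c4183d0364349581d07236c4183d0363249183104a25c2e86305e3249183104a25c2e86305e4349581d07236c4183d0364349581d07236c4183d03631c5380f0523046580702a3a45f88d0963a45f88d0963046580702a31c5380f052294818d10e2294818d10e231c5380f0523046580702a3a45f88d0963a45f88d0963046580702a31c5380f052294818d10e2294818d10e231c5380f0523046580702a3a45f88d0963a45f88d0963046580702a31c5380f052294818d10e2294818d10e2234258e917e344388a520601c0a8c119601c0a8c1196344388a5206234258e917e03c148c714e03c148c714e234258e917e344388a520601c0a8c119601c0a8c1196344388a5206234258e917e03c148c714e03c148c714e234258e917e344388a520601c0a8c119601c0a8c1196344388a5206234258e917e03c148c714e0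3c148c714e054038a718e0a4078cb1821c4688bf1d21c4688bf1d20a4078cb182054038a718e12c4690314a12c4690314a054038a718e0a4078cb1821c4688bf1d21c4688bf1d20a4078cb182054038a718e12c4690314a12c4690314a054038a718e0a4078cb1821c4688bf1d21c4688bf1d20a4078cb182054038a718e12c4690314a12c4690314a2fc748711a240c5284b11a32c6082901e32c6082901e40c5284b11a2fc748711a229c6381500e29c6381500e2fc748711a240c5284b11a32c6082901e32c6082901e40c5284b11a2fc748711a229c6381500e29c6381500e2fc748711a240c5284b11a32c6082901e32c6082901e40c5284b11a2fc748711a229c6381500e29c6381500e2042688109a3944e8a11c200c0680100a26c3089b0c216c3985b0e6284708e513a0040280301a37c438df10e2042688109a3944e8a11c200c0680100a26c3089b0c216c3985b0e6284708e513a0040280301a37c438df10e2042688109a3944e8a11c200c0680100a26c3089b0c216c3985b0e6284708e513a0040280301a37c438df10e014008050021844d8871be134408730b6384508e11420340180d00621c6f8611361cc2d84d1022747289d1ca014008050021844d8871be134408730b6384508e11420340180d00621c6f8611361cc2d84d1022747289d1ca014008050021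844d8871be134408730b6384508e11420340180d00621c6f8611361cc2d84d1022747289d1ca26c3089b0c200c0680100a284708e513a16c3985b0e637c438df10e0040280301a3944e8a11c22042688109a26c3089b0c200c0680100a284708e513a16c3985b0e637c438df10e0040280301a3944e8a11c22042688109a26c3089b0c200c0680100a284708e513a16c3985b0e637c438df10e0040280301a3944e8a11c22042688109a384508e1142134408730b621c6f8611360340180d0062747289d1ca1cc2d84d1021844d8871be01400805002384508e1142134408730b621c6f8611360340180d0062747289d1ca1cc2d84d1021844d8871be01400805002384508e1142134408730b621c6f8611360340180d0062747289d1ca1cc2d84d1021844d8871be0140080500212a23412024000000028010380702e83503a0341c03811a2540a014008010008050180301a85d01a0742404812a23412024000000028010380702e83503a0341c03811a2540a014008010008050180301a85d01a0742404812a23412024000000028010380702e83503a0341c03811a2540a014008010008050180301a85d01a0742404801a074240480180301a85d0000000280112a2341202403a0341c0380380702e8350080100080511a2540a01401a074240480180301a85d000000028011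2a2341202403a0341c0380380702e8350080100080511a2540a01401a074240480180301a85d0000000280112a2341202403a0341c0380380702e8350080100080511a2540a014002014020040480904a88d0901200681d0ba0d40e01c00a00400000028050468950700e00e80d06a1740600c002014020040480904a88d0901200681d0ba0d40e01c00a00400000028050468950700e00e80d06a1740600c002014020040480904a88d0901200681d0ba0d40e01c00a00400000028050468950700e00e80d06a1740600c06a1740600c0700e00e80d0480904a88d002014020040ba0d40e01c0901200681d0280504689500a0040000006a1740600c0700e00e80d0480904a88d002014020040ba0d40e01c0901200681d0280504689500a0040000006a1740600c0700e00e80d0480904a88d002014020040ba0d40e01c0901200681d0280504689500a00400000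

def rep3 (r : ℕ) : ℕ := t11 0x68047000 r

theorem rep3_0 : rep3 0 = 0 := by decide +kernel
theorem rep3_1 : rep3 1 = 142 := by decide +kernel
theorem rep3_2 : rep3 2 = 416 := by decide +kernel

theorem CW_check : allN (fun w => Bool.and (Nat.blt (t11 CWn w / 4) 192) (Bool.and (Nat.blt (t11 CWn w % 4) 3)
    (inH2 (wm (wi (wm (dl (t11 CWn w / 4)) (rep3 (t11 CWn w % 4)))) w)))) 1920 = true := by decide +kernel

variable {G : Type*} [Group G]

theorem orb_stab [Finite G] {K : Type*} [Group K] [Finite K] (f : K →* G) (x : G) :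
    (Set.range fun k => cg (f k) x).ncard * Nat.card {k : K // cg (f k) x = x} = Nat.card K := by
  letI : MulAction K G := MulAction.compHom G ((MulAut.conj (G := G)).comp f)
  have hs : ∀ (k : K) (y : G), k • y = cg (f k) y := fun k y => rfl
  have h1 := MulAction.index_stabilizer K (x := x)
  have h2 := Subgroup.index_mul_card (MulAction.stabilizer K x)
  rw [h1] at h2
  exact h2

variable {ι : W →* G} {z ρ : G}

def InS (ι : W →* G) (ρ : G) (x : G) : Prop :=
  (∃ w : W, w * w = 1 ∧ w ≠ 1 ∧ w.v < 32 ∧ x = ι w) ∨ ∃ w : W, x = cg (ι w) (A2 ι ρ)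

theorem Wconj : ∀ w : W, w.v < 32 → ∀ g : W, (g * w * g⁻¹).v < 32 := by
  intro w hw g
  obtain ⟨a, p, ha, hp, hg⟩ := exists_cd g.h
  have e0 : w.v = cd w.v 0 := by rw [cd_eq]; omega
  rw [mul_v, mul_v, inv_v, hg, e0, wm_cd ha hp hw (by norm_num), wi_cd ha hp, a_mul_one hp,
    wm_cd (q_lt ha (p_lt hp hw)) hp (p_lt (a_inv_lt hp) (q_inv_lt ha)) (a_inv_lt hp)]
  have e1 : am p (ai p) = 0 := by
    have h1 := a_inv_mul hp
    have h2 := a_assoc (a_inv_lt (a_inv_lt hp)) (a_inv_lt hp) hp
    rw [a_inv_mul (a_inv_lt hp), a_one_mul hp, h1, a_mul_one (a_inv_lt (a_inv_lt hp))] at h2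
    have h3 := a_inv_mul (a_inv_lt hp)
    rw [← h2] at h3
    exact h3
  rw [e1, cd_eq]
  have := q_lt (q_lt ha (p_lt hp hw)) (p_lt hp (p_lt (a_inv_lt hp) (q_inv_lt ha)))
  omega

theorem InS_io {x : G} (hx : InS ι ρ x) (g : W) : InS ι ρ (cg (ι g) x) := by
  rcases hx with ⟨w, h1, h2, h3, rfl⟩ | ⟨w, rfl⟩
  · left
    refine ⟨g * w * g⁻¹, ?_, ?_, Wconj w h3 g, cg_io g w⟩
    · have : g * w * g⁻¹ * (g * w * g⁻¹) = g * (w * w) * g⁻¹ := by group
      rw [this, h1]; simp
    · intro h4
      apply h2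
      have := congrArg (fun y => g⁻¹ * y * g) h4
      simpa [mul_assoc] using this
  · right
    exact ⟨g * w, by rw [map_mul, cg_mul]⟩

theorem InS_small {n : ℕ} (h1 : wk n * wk n = 1) (h2 : wk n ≠ 1) (h3 : (wk n).v < 32) : InS ι ρ (ι (wk n)) :=
  Or.inl ⟨wk n, h1, h2, h3, rfl⟩

theorem InS_rho (hr : RR ι ρ) (h3 : InS ι ρ (A3 ι ρ)) {x : G} (hx : InS ι ρ x) : InS ι ρ (cg ρ x) := by
  rcases hx with ⟨w, a1, a2, a3, rfl⟩ | ⟨w, rfl⟩
  · rcases Q10 w a1 a2 a3 with rfl | rfl | rfl | ⟨t, ht, rfl⟩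
    · rw [hr.r1.cgi (by norm_num) (by decide +kernel)]
      exact InS_small (by decide +kernel) (by decide +kernel) (by decide +kernel)
    · rw [hr.r1.cgi (by norm_num) (by decide +kernel)]
      exact InS_small (by decide +kernel) (by decide +kernel) (by decide +kernel)
    · rw [hr.r1.cgi (by norm_num) (by decide +kernel)]
      exact InS_small (by decide +kernel) (by decide +kernel) (by decide +kernel)
    · obtain ⟨b1, b2, b3, b4, b5, _⟩ := L8_check t ht
      right
      refine ⟨wk (th t.2.1), ?_⟩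
      rw [← b5, ← cg_ik b2 (by norm_num), hr.r1.cgD b2 b4]
      rfl
  · have h0 := allN_iff.1 CW_check w.v w.h
    simp only [Bool.and_eq_true, Nat.blt_eq] at h0
    obtain ⟨c1, c2, c3⟩ := h0
    have hd := allN_iff.1 dl_lt _ c1
    rw [Bool.and_eq_true, Nat.blt_eq, Nat.blt_eq] at hd
    have hD := allN_iff.1 dl_inD _ c1
    set d := dl (t11 CWn w.v / 4) with hdd
    have hrep : rep3 (t11 CWn w.v % 4) < 1920 := by
      interval_cases (t11 CWn w.v % 4) <;> decide +kernel
    have h5 := pt2_eq hr.r1 w.h (wm_lt hd.1 hrep) c3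
    rw [wk_v, ik_mul hd.1 hrep, cg_mul] at h5
    rw [h5, hr.r1.cgD hd.1 hD]
    apply InS_io
    interval_cases (t11 CWn w.v % 4)
    · rw [rep3_0]
      have : wk 0 = 1 := by decide +kernel
      rw [this, map_one, cg_one, hr.k2a]
      exact Or.inr ⟨_, rfl⟩
    · rw [rep3_1, hr.k2b]
      exact InS_small (by decide +kernel) (by decide +kernel) (by decide +kernel)
    · rw [rep3_2]
      exact h3

/-- the subgroup generated by the centralizer and `ρ` -/
def HH (ι : W →* G) (ρ : G) : Subgroup G := closure (Set.range ι ∪ {ρ})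

theorem HH_io (w : W) : ι w ∈ HH ι ρ := subset_closure (Or.inl ⟨w, rfl⟩)
theorem HH_rho : ρ ∈ HH ι ρ := subset_closure (Or.inr rfl)

theorem InS_HH (hr : RR ι ρ) (h3 : InS ι ρ (A3 ι ρ)) {g : G} (hg : g ∈ HH ι ρ) : ∀ x, InS ι ρ x ↔ InS ι ρ (cg g x) := by
  induction hg using closure_induction with
  | mem g hg =>
    intro x
    rcases hg with ⟨w, rfl⟩ | hg
    · constructor
      · intro h; exact InS_io h w
      · intro h
        have := InS_io h w⁻¹
        rwa [map_inv, cg_inv_cg] at this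
    · rw [Set.mem_singleton_iff.1 hg]
      constructor
      · intro h; exact InS_rho hr h3 h
      · intro h
        have := InS_rho hr h3 (InS_rho hr h3 h)
        rwa [hr.rho3] at this
  | one => intro x; rw [cg_one]
  | mul a b _ _ iha ihb => intro x; rw [cg_mul, ihb x, iha]
  | inv a _ iha => intro x; rw [iha (cg a⁻¹ x), cg_cg_inv]

theorem A2_A1 (h : HJ ι z) (hr : RR ι ρ) : ∃ g ∈ HH ι ρ, cg g z = A2 ι ρ := by
  refine ⟨ρ * ι (wk 416) * ρ, mul_mem (mul_mem HH_rho (HH_io _)) HH_rho, ?_⟩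
  have e0 : cg ρ z = ι (wk 1) := by
    have := hr.r1.cgi (d := 16) (by norm_num) (by decide +kernel)
    rw [h.z16] at this
    exact this
  have e1 : cg (ι (wk 416)) (ι (wk 1)) = ι (wk 2) := by
    rw [cg_ik (by norm_num) (by norm_num)]; congr 1
  rw [cg_mul, cg_mul, e0, e1]; rfl

theorem InS_orb (h : HJ ι z) (hr : RR ι ρ) {x : G} (hx : InS ι ρ x) : ∃ g ∈ HH ι ρ, cg g z = x := by
  rcases hx with ⟨w, a1, a2, a3, rfl⟩ | ⟨w, rfl⟩
  · by_cases hw : w = wk 16
    · exact ⟨1, one_mem _, by rw [cg_one, hw, h.z16]⟩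
    · obtain ⟨g, hg⟩ := W1 w a1 a2 a3 hw
      refine ⟨ι g * ρ, mul_mem (HH_io _) HH_rho, ?_⟩
      have e0 : cg ρ z = ι (wk 1) := by
        have := hr.r1.cgi (d := 16) (by norm_num) (by decide +kernel)
        rw [h.z16] at this
        exact this
      rw [cg_mul, e0, cg_io, hg]
  · obtain ⟨g, hg, hg2⟩ := A2_A1 h hr
    exact ⟨ι w * g, mul_mem (HH_io _) hg, by rw [cg_mul, hg2]⟩

theorem InS_z (h : HJ ι z) : InS ι ρ z := by
  rw [← h.z16]; exact InS_small (by decide +kernel) (by decide +kernel) (by decide +kernel)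

theorem A2_nz (h : HJ ι z) (hr : RR ι ρ) : A2 ι ρ * z ≠ z * A2 ι ρ := by
  intro hc
  have e2 : cg ρ (ι (wk 17)) = z := by
    have := hr.r1.cgi (d := 17) (by norm_num) (by decide +kernel)
    rw [← h.z16]; exact this
  rw [← e2] at hc
  have h1 : ι (wk 2) * ι (wk 17) = ι (wk 17) * ι (wk 2) := (cg_comm_iff (g := ρ)).2 hc
  rw [← map_mul, ← map_mul] at h1
  exact absurd (h.inj h1) (by decide +kernel)

theorem A2_e0 (h : HJ ι z) (hr : RR ι ρ) : A2 ι ρ * ι (wk 1) = ι (wk 1) * A2 ι ρ := by
  have e2 : cg ρ (ι (wk 16)) = ι (wk 1) := hr.r1.cgi (d := 16) (by norm_num) (by decide +kernel)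
  rw [← e2]
  apply (cg_comm_iff (g := ρ)).1
  rw [← map_mul, ← map_mul]; congr 1

theorem quad0 : ∀ t ∈ L8, (wk 1 * wk t.1) * (wk 1 * wk t.1) = wk 16 := by decide +kernel

theorem A2_A (h : HJ ι z) (hr : RR ι ρ) : IsConj z (A2 ι ρ) := by
  obtain ⟨g, _, hg⟩ := A2_A1 h hr
  exact isConj_iff.2 ⟨g, hg⟩

/-- no quadrangles -/
theorem stab2 [Finite G] (h : HJ ι z) (hr : RR ι ρ) {w : W} (hw : cg (ι w) (A2 ι ρ) = A2 ι ρ) : inH2 w.v = true := by
  have hz : z * A2 ι ρ ≠ A2 ι ρ * z := fun hh => A2_nz h hr hh.symm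
  have hye : IsConj z (cg (ι w) (ι (wk 1))) := A_cg h.e0A _
  have h1 : cg (ι w) (ι (wk 1)) * z = z * cg (ι w) (ι (wk 1)) := by rw [cg_io]; exact h.zc _
  have h2 : cg (ι w) (ι (wk 1)) * A2 ι ρ = A2 ι ρ * cg (ι w) (ι (wk 1)) := by
    have := (cg_comm_iff (g := ι w)).1 (A2_e0 h hr)
    rw [hw] at this
    exact this.symm
  have h3 : cg (ι w) (ι (wk 1)) = ι (wk 1) := by
    have hc1 := A2_e0 h hr
    rcases near0 h hye h1 with h4 | h4 | h4 | ⟨t, ht, h4⟩
    · exfalso
      rw [h4, h.z16] at h2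
      exact hz h2
    · exact h4
    · exfalso
      rw [h4] at h2
      apply hz
      have e : wk 16 = wk 17 * wk 1 := by decide +kernel
      rw [← h.z16, e, map_mul, mul_assoc, ← hc1, ← mul_assoc, h2, mul_assoc]
    · exfalso
      rw [h4] at h2
      apply hz
      rw [← h.z16, ← quad0 t ht]
      simp only [map_mul]
      have cm : ∀ a : G, ι (wk 1) * (A2 ι ρ * a) = A2 ι ρ * (ι (wk 1) * a) := fun a => by
        rw [← mul_assoc, ← hc1, mul_assoc]
      have cm2 : ∀ a : G, ι (wk t.1) * (A2 ι ρ * a) = A2 ι ρ * (ι (wk t.1) * a) := fun a => by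
        rw [← mul_assoc, h2, mul_assoc]
      simp only [mul_assoc]
      rw [h2, cm, cm2, cm]
  have hD : inD w.v = true := by
    rw [cg_io] at h3
    have h4 := h.inj h3
    rw [mul_inv_eq_iff_eq_mul] at h4
    unfold inD
    rw [Nat.beq_eq]
    have h5 := congrArg W.v h4
    rw [mul_v, mul_v, wkv (by norm_num)] at h5
    exact h5
  have hw' : cg (ι (wk w.v)) (A2 ι ρ) = A2 ι ρ := by rw [wk_v]; exact hw
  exact H2_of (h := hr.r1) h.inj w.h hD hw'

theorem card_stab2 [Finite G] (h : HJ ι z) (hr : RR ι ρ) : Nat.card {w : W // cg (ι w) (A2 ι ρ) = A2 ι ρ} = 24 := by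
  have h1 : ∀ w : W, cg (ι w) (A2 ι ρ) = A2 ι ρ ↔ inH2 w.v = true := by
    intro w
    constructor
    · exact stab2 h hr
    · intro hw
      have := hr.r1.H2a w.h hw
      rwa [wk_v] at this
  have h2 : Nat.card {w : W // cg (ι w) (A2 ι ρ) = A2 ι ρ} = Nat.card {w : W // inH2 w.v = true} :=
    Nat.card_congr (Equiv.subtypeEquivRight h1)
  rw [h2, Nat.card_eq_fintype_card, Fintype.card_subtype, ← cntW_eq]
  decide +kernel

theorem card_Azero [Finite G] (h : HJ ι z) : (Set.range fun g : G => cg g z).ncard = 315 := by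
  have h1 := orb_stab (MonoidHom.id G) z
  have h2 : Nat.card {k : G // cg ((MonoidHom.id G) k) z = z} = 1920 := by
    rw [← card_W]
    refine (Nat.card_congr (Equiv.ofBijective (fun w : W => (⟨ι w, cg_comm (h.zc w)⟩ : {k : G // cg ((MonoidHom.id G) k) z = z})) ?_)).symm
    constructor
    · intro a b hab
      exact h.inj (congrArg Subtype.val hab)
    · rintro ⟨g, hg⟩
      obtain ⟨w, hw⟩ := h.cz g (comm_of_cg hg)
      exact ⟨w, Subtype.ext hw⟩
  rw [h2, h.cardG] at h1
  simp only [MonoidHom.id_apply] at h1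
  omega

theorem card_S [Finite G] (h : HJ ι z) (hr : RR ι ρ) : {x : G | InS ι ρ x}.ncard = 91 := by
  have hu : {x : G | InS ι ρ x} = (ι '' {w : W | w * w = 1 ∧ w ≠ 1 ∧ w.v < 32}) ∪ Set.range fun w => cg (ι w) (A2 ι ρ) := by
    ext x
    constructor
    · rintro (⟨w, a1, a2, a3, rfl⟩ | ⟨w, rfl⟩)
      · left; exact ⟨w, ⟨a1, a2, a3⟩, rfl⟩
      · right; exact ⟨w, rfl⟩
    · rintro (⟨w, ⟨a1, a2, a3⟩, rfl⟩ | ⟨w, rfl⟩)
      · left; exact ⟨w, a1, a2, a3, rfl⟩
      · right; exact ⟨w, rfl⟩
  have hd : Disjoint (ι '' {w : W | w * w = 1 ∧ w ≠ 1 ∧ w.v < 32}) (Set.range fun w => cg (ι w) (A2 ι ρ)) := by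
    rw [Set.disjoint_left]
    rintro x ⟨w, _, rfl⟩ ⟨u, hu⟩
    apply A2_nz h hr
    have h1 : cg (ι u) (A2 ι ρ) * z = z * cg (ι u) (A2 ι ρ) := by
      change cg (ι u) (A2 ι ρ) = ι w at hu
      rw [hu, h.zc]
    have h2 : cg (ι u) z = z := cg_comm (h.zc u)
    rw [cg_comm_iff (g := ι u), h2]; exact h1
  rw [hu, Set.ncard_union_eq hd (Set.toFinite _) (Set.toFinite _), Set.ncard_image_of_injective _ h.inj]
  have c1 : {w : W | w * w = 1 ∧ w ≠ 1 ∧ w.v < 32}.ncard = 11 := by
    have : {w : W | w * w = 1 ∧ w ≠ 1 ∧ w.v < 32} = ((Finset.univ.filter fun w : W =>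
        (Bool.and (Bool.and (Nat.beq (wm w.v w.v) 0) (Bool.not (Nat.beq w.v 0))) (Nat.blt w.v 32)) = true : Finset W) : Set W) := by
      ext w
      simp only [Set.mem_setOf_eq, Finset.coe_filter, Finset.mem_univ, true_and, Bool.and_eq_true, Nat.beq_eq, Bool.not_eq_true',
        Nat.blt_eq, ← Bool.not_eq_true]
      constructor
      · rintro ⟨a, b, c⟩
        exact ⟨⟨congrArg W.v a, fun hh => b (W.ext' hh)⟩, c⟩
      · rintro ⟨⟨a, b⟩, c⟩
        exact ⟨W.ext' a, fun hh => b (congrArg W.v hh), c⟩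
    rw [this, Set.ncard_coe_finset, ← cntW_eq]
    decide +kernel
  have c2 : (Set.range fun w => cg (ι w) (A2 ι ρ)).ncard = 80 := by
    have := orb_stab ι (A2 ι ρ)
    rw [card_stab2 h hr, card_W] at this
    omega
  rw [c1, c2]

theorem A3_notS [Finite G] (h : HJ ι z) (hr : RR ι ρ) : ¬ InS ι ρ (A3 ι ρ) := by
  intro h3
  have h1 := orb_stab (HH ι ρ).subtype z
  have h2 : (Set.range fun k : HH ι ρ => cg ((HH ι ρ).subtype k) z) = {x : G | InS ι ρ x} := by
    ext x
    constructor
    · rintro ⟨⟨g, hg⟩, rfl⟩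
      exact (InS_HH hr h3 hg z).1 (InS_z h)
    · intro hx
      obtain ⟨g, hg, rfl⟩ := InS_orb h hr hx
      exact ⟨⟨g, hg⟩, rfl⟩
  rw [h2, card_S h hr] at h1
  have h4 : (91 : ℕ) ∣ 604800 := by
    rw [← h.cardG]
    exact (Dvd.intro _ h1).trans (Subgroup.card_subgroup_dvd_card _)
  omega

end H58.J2H
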