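import Mathlib
import Cfsg.Agent.Lib.H58.J2L

/-! Groups of Hall-Janko type: rules for the element of order three (helper58). -/

set_option autoImplicit false
set_option linter.style.haveILetI false
set_option maxRecDepth 100000
set_option linter.unusedSectionVars false

namespace H58.J2H

open H58.J2A H58.J2Alt Subgroup

def KSn : ℕ := 0x12d8db692248
def RSn : ℕ := 0x23c0008f00063cc00420006804700034003c00000
def KTn : ℕ := 0xe3b626ca409
def RTn : ℕ := 0x63c4798011e000001a0084000d008e00000007800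
def B3L : ℕ := 0xd5d4a74766ea12e1674ba5080d9410000
def B3P : ℕ := 0x380600a8140200340400500800400000
def B3G : ℕ := 0x81b2820
def B3M : ℕ := 0x40000000400000004000000000000000000000000000000000000000000000000000000000000000000000000000000002000000020000000200000000000000000000000000000000000000000000000000000000000000000000000000000000200000002000000020000000000000000000000000000000000000000000000000000000000000000000000000000000000000000000000000000000000000000000000000000000000000000000000000000000000000000000000000000000000000000000000000000000010000000100000001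
def B4pL : ℕ := 0x2fa1989e95d14c328430ea04042820000
def B4pP : ℕ := 0x380600a8140200340400500800400000
def B4pG : ℕ := 0x10085040
def B4pM : ℕ := 0x200000002000000020000000000004000000040000000400000000400000004000000040000000010000000100000001
def B5pL : ℕ := 0x2225844d15d1b80b0258ea15a1c09d800
def B5pP : ℕ := 0x380600a8140200340400500800400000
def B5pG : ℕ := 0x4ec3813b
def B5pM : ℕ := 0x22000000008000000000200000000040010000000000020000400000000010000000008000000100000000001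
def B4L : ℕ := 0x320740d81f55bd3690aafe4f32eb06f1862c8d55f2994b326ada58fc5b935ffdd4adf07e94ed866c5f7574480cd7d2a7d097bf3a77c7646ac4f4aef44d1d0a0533a5195c933746810ce14750206ca42820000
def B4P : ℕ := 0x1b2324548a51422704888d10a2083e8710dc1a4328610b21582905009a130250420800f41e03906c0d01802e0580a81402604a0901082003c0740e0190300580a0120220340600a0100180280400400400000
def B4G : ℕ := 0xd9485040
def B4M : ℕ := 0x100000001000000010010000000100000001000000000040000000400000004000000020000000200000002000001000000010000000100000000080000000800000008000000002000000020000000200040000000400000004000000000001000000010000000100800000008000000080000000000000200000002000000020004000000040000000400000400000004000000040000000020000000200000002000000002000000020000000200000000100000001000000010000200000002000000020000000000004000000040000000400000000400000004000000040000000010000000100000001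
def B5L : ℕ := 0xa57636645fdae1ab340485e356e2edf2fcbf04680543eb92ce7ae054358cd16b48de0b8630f6a49f16c889bf7565873aa6a79fb0cc99c8718268aeadd5230e06e33f05878d5c305096ff0750ad6ea1c09d800
def B5P : ℕ := 0x19a2f85e8ad1442704a08e1102084087c0e01a8330650c01682c8540a41402684a0800f81e83c0720d81a03005c0b01402604a0901082003c0740e0190300580a0120220340600a0100180280400400400000
def B5G : ℕ := 0xdd43813b
def B5M : ℕ := 0x4001000000000008000040000000001000000000008000010000000000100200000800000000008000000000020200000000800000001000000000020000001000000000008000008000000000100200000000001000008000000000020000000020800000001000000000200001000000000008000000008000000100000200000000001008000000000000020000000022000000001000000000200000000040000008000000020000400000000000008000001008000000000080000000000022000000008000000000200000000040010000000000020000400000000010000000008000000100000000001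
def ops4 : List (ℕ × ℕ × ℕ) := [(2, 6, 9), (0, 416, 0), (2, 6, 7), (0, 416, 0), (2, 89, 14), (0, 16, 0), (1, 73, 14), (0, 416, 0), (1, 2, 8), (0, 416, 0), (1, 1, 5), (0, 869, 0), (2, 1, 5), (0, 416, 0), (2, 2, 8), (0, 416, 0), (2, 73, 14), (0, 16, 0), (1, 89, 14), (0, 416, 0), (1, 6, 7), (0, 416, 0), (1, 6, 9), (0, 869, 0)]
def ops5 : List (ℕ × ℕ × ℕ) := [(2, 14, 10), (0, 416, 0), (2, 1, 7), (0, 416, 0), (2, 6, 12), (0, 16, 0), (1, 2, 12), (0, 416, 0), (1, 1, 8), (0, 416, 0), (1, 0, 5), (0, 869, 0), (2, 0, 5), (0, 416, 0), (2, 1, 8), (0, 416, 0), (2, 2, 12), (0, 16, 0), (1, 6, 12), (0, 416, 0), (1, 1, 7), (0, 416, 0), (1, 14, 10), (0, 869, 0)]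

def bm (M h : ℕ) : Bool := Nat.beq (Nat.mod (Nat.shiftRight M h) 2) 1

noncomputable def bfsChk (N L P Gn M : ℕ) : Bool :=
  Bool.and (Bool.and (Nat.beq (t11 L 0) 0) (allN (fun i => Bool.or (Nat.beq i 0) (Bool.and (Nat.blt (t11 P i / 4) i)
    (Bool.and (Nat.blt (t11 P i % 4) 3) (Nat.beq (t11 L i) (wm (t11 Gn (t11 P i % 4)) (t11 L (t11 P i / 4))))))) N))
    (allN (fun h => Bool.or (Bool.not (bm M h)) (Bool.not (allN (fun i => Bool.not (Nat.beq (t11 L i) h)) N))) 1920)

theorem bfs_sound {N L P Gn M : ℕ} (hN : 0 < N) (hchk : bfsChk N L P Gn M = true) (hlt : allN (fun i => Nat.blt (t11 L i) 1920) N = true)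
    (hg : ∀ j < 3, t11 Gn j < 1920) (K : Subgroup W) (hK : ∀ j < 3, wk (t11 Gn j) ∈ K) :
    ∀ h < 1920, bm M h = true → wk h ∈ K := by
  unfold bfsChk at hchk
  rw [Bool.and_eq_true, Bool.and_eq_true, Nat.beq_eq] at hchk
  obtain ⟨⟨h1, h2⟩, h3⟩ := hchk
  have key : ∀ i < N, wk (t11 L i) ∈ K := by
    intro i
    induction i using Nat.strong_induction_on with
    | _ i ih =>
      intro hi
      have h0 := allN_iff.1 h2 i hi
      simp only [Bool.or_eq_true, Bool.and_eq_true, Nat.beq_eq, Nat.blt_eq] at h0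
      rcases h0 with h0 | ⟨a1, a2, a3⟩
      · rw [h0, h1]
        have : wk 0 = 1 := by decide +kernel
        rw [this]; exact one_mem _
      · have hl := allN_iff.1 hlt (t11 P i / 4) (by omega)
        rw [Nat.blt_eq] at hl
        rw [a3, wk_mul (hg _ a2) hl]
        exact mul_mem (hK _ a2) (ih _ a1 (by omega))
  intro h hh hM
  have h0 := allN_iff.1 h3 h hh
  rw [hM, Bool.not_true, Bool.false_or, Bool.not_eq_true'] at h0
  have h4 : ∃ i < N, t11 L i = h := by
    by_contra hcon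
    push Not at hcon
    rw [allN_iff.2 (fun i hi => by rw [Bool.not_eq_true', ← Bool.not_eq_true, Nat.beq_eq]; exact hcon i hi)] at h0
    exact absurd h0 (by decide)
  obtain ⟨i, hi, rfl⟩ := h4
  exact key i hi

variable {G : Type*} [Group G] {ι : W →* G} {z ρ : G}

/-- stabilizers -/
def St (ι : W →* G) (x : G) : Subgroup W where
  carrier := {w | cg (ι w) x = x}
  mul_mem' := by
    intro a b ha hb
    change cg (ι (a * b)) _ = _
    rw [map_mul, cg_mul, (show cg (ι b) x = x from hb)]; exact ha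
  one_mem' := by change cg (ι 1) _ = _; rw [map_one, cg_one]
  inv_mem' := by
    intro a ha
    change cg (ι a⁻¹) _ = _
    have h1 : cg (ι a) x = x := ha
    rw [map_inv]
    conv_lhs => rw [← h1]
    exact cg_inv_cg _ _

theorem mem_St {w : W} {x : G} : w ∈ St ι x ↔ cg (ι w) x = x := Iff.rfl

def A4p (ι : W →* G) (ρ : G) : G := cg ρ (cg (ι (wk 384)) (A3 ι ρ))
def A5p (ι : W →* G) (ρ : G) : G := cg ρ (cg (ι (wk 399)) (A3 ι ρ))

/-- base points -/
def ak (ι : W →* G) (ρ : G) : ℕ → G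
  | 0 => ι (wk 16)
  | 1 => ι (wk 1)
  | 2 => A2 ι ρ
  | 3 => A3 ι ρ
  | 4 => A4p ι ρ
  | _ => A5p ι ρ

def Pt (ι : W →* G) (ρ : G) (k c : ℕ) : G := cg (ι (wk c)) (ak ι ρ k)

theorem Pt_zero (k : ℕ) : Pt ι ρ k 0 = ak ι ρ k := by
  have : wk 0 = 1 := by decide +kernel
  rw [Pt, this, map_one, cg_one]

theorem Pt_mul {a b : ℕ} (ha : a < 1920) (hb : b < 1920) (k : ℕ) : Pt ι ρ k (wm a b) = cg (ι (wk a)) (Pt ι ρ k b) := by
  rw [Pt, Pt, ik_mul ha hb, cg_mul]

def SS (m4 m5 k h : ℕ) : Bool :=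
  cond (Nat.beq k 0) true (cond (Nat.beq k 1) (inD h) (cond (Nat.beq k 2) (inH2 h) (cond (Nat.beq k 3) (bm B3M h)
    (cond (Nat.beq k 4) (bm m4 h) (cond (Nat.beq k 5) (bm m5 h) false)))))

structure Good (ι : W →* G) (ρ : G) (m4 m5 : ℕ) : Prop where
  s : ∀ k h, h < 1920 → SS m4 m5 k h = true → wk h ∈ St ι (ak ι ρ k)

theorem Pt_eq {m4 m5 : ℕ} (hG : Good ι ρ m4 m5) {k a b : ℕ} (ha : a < 1920) (hb : b < 1920)
    (hS : SS m4 m5 k (wm (wi b) a) = true) : Pt ι ρ k a = Pt ι ρ k b := by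
  have h1 := hG.s k _ (wm_lt (wi_lt hb) ha) hS
  rw [mem_St, ik_mul (wi_lt hb) ha, cg_mul, ← wk_inv hb, map_inv] at h1
  have h2 := congrArg (cg (ι (wk b))) h1
  rw [cg_cg_inv] at h2
  exact h2

def ks (j : ℕ) : ℕ := Nat.mod (Nat.shiftRight KSn (Nat.mul 3 j)) 8
def kt (j : ℕ) : ℕ := Nat.mod (Nat.shiftRight KTn (Nat.mul 3 j)) 8
def rs (j : ℕ) : ℕ := t11 RSn j
def rt (j : ℕ) : ℕ := t11 RTn j

theorem rsrt_lt : allN (fun j => Bool.and (Nat.blt (rs j) 1920) (Nat.blt (rt j) 1920)) 15 = true := by decide +kernel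

theorem rule_ok (hr : RR ι ρ) : ∀ j < 15, cg ρ (Pt ι ρ (ks j) (rs j)) = Pt ι ρ (kt j) (rt j) := by
  have e0 : cg ρ (ι (wk 16)) = ι (wk 1) := hr.r1.cgi (d := 16) (by norm_num) (by decide +kernel)
  have e1 : cg ρ (ι (wk 1)) = ι (wk 17) := hr.r1.cgi (d := 1) (by norm_num) (by decide +kernel)
  have e17 : cg ρ (ι (wk 17)) = ι (wk 16) := hr.r1.cgi (d := 17) (by norm_num) (by decide +kernel)
  have p15 : Pt ι ρ 1 15 = ι (wk 17) := by
    change cg (ι (wk 15)) (ι (wk 1)) = _
    rw [cg_ik (by norm_num) (by norm_num)]; congr 1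
  have p416 : Pt ι ρ 1 416 = ι (wk 2) := by
    change cg (ι (wk 416)) (ι (wk 1)) = _
    rw [cg_ik (by norm_num) (by norm_num)]; congr 1
  have q1 : ∀ x : G, cg (ι (wk 128)) (cg (ι (wk 15)) x) = cg (ι (wk 143)) x := by
    intro x
    rw [← cg_mul, ← ik_mul (by norm_num) (by norm_num)]
    congr 2
  have q2 : ∀ x : G, cg (ι (wk 15)) (cg (ι (wk 384)) x) = cg (ι (wk 399)) x := by
    intro x
    rw [← cg_mul, ← ik_mul (by norm_num) (by norm_num)]
    congr 2
  have q3 : ∀ x : G, cg (ι (wk 15)) (cg (ι (wk 399)) x) = cg (ι (wk 384)) x := by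
    intro x
    rw [← cg_mul, ← ik_mul (by norm_num) (by norm_num)]
    congr 2
  have a4 : cg ρ (A4p ι ρ) = cg (ι (wk 143)) (A5p ι ρ) := by
    unfold A4p A5p
    rw [hr.rho2, q1, q2]
  have a5 : cg ρ (A5p ι ρ) = cg (ι (wk 143)) (A4p ι ρ) := by
    unfold A4p A5p
    rw [hr.rho2, q1, q3]
  intro j hj
  interval_cases j
  · have e : ks 0 = 0 ∧ rs 0 = 0 ∧ kt 0 = 1 ∧ rt 0 = 0 := by decide +kernel
    rw [e.1, e.2.1, e.2.2.1, e.2.2.2, Pt_zero, Pt_zero]; exact e0
  · have e : ks 1 = 1 ∧ rs 1 = 0 ∧ kt 1 = 1 ∧ rt 1 = 15 := by decide +kernel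
    rw [e.1, e.2.1, e.2.2.1, e.2.2.2, Pt_zero, p15]; exact e1
  · have e : ks 2 = 1 ∧ rs 2 = 15 ∧ kt 2 = 0 ∧ rt 2 = 0 := by decide +kernel
    rw [e.1, e.2.1, e.2.2.1, e.2.2.2, Pt_zero, p15]; exact e17
  · have e : ks 3 = 1 ∧ rs 3 = 416 ∧ kt 3 = 2 ∧ rt 3 = 0 := by decide +kernel
    rw [e.1, e.2.1, e.2.2.1, e.2.2.2, Pt_zero, p416]; rfl
  · have e : ks 4 = 2 ∧ rs 4 = 0 ∧ kt 4 = 2 ∧ rt 4 = 142 := by decide +kernel
    rw [e.1, e.2.1, e.2.2.1, e.2.2.2, Pt_zero]; exact hr.k2a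
  · have e : ks 5 = 2 ∧ rs 5 = 142 ∧ kt 5 = 1 ∧ rt 5 = 416 := by decide +kernel
    rw [e.1, e.2.1, e.2.2.1, e.2.2.2, p416]; exact hr.k2b
  · have e : ks 6 = 2 ∧ rs 6 = 416 ∧ kt 6 = 3 ∧ rt 6 = 0 := by decide +kernel
    rw [e.1, e.2.1, e.2.2.1, e.2.2.2, Pt_zero]; rfl
  · have e : ks 7 = 3 ∧ rs 7 = 0 ∧ kt 7 = 3 ∧ rt 7 = 66 := by decide +kernel
    rw [e.1, e.2.1, e.2.2.1, e.2.2.2, Pt_zero]; exact hr.k3a
  · have e : ks 8 = 3 ∧ rs 8 = 66 ∧ kt 8 = 2 ∧ rt 8 = 416 := by decide +kernel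
    rw [e.1, e.2.1, e.2.2.1, e.2.2.2]; exact hr.k3b
  · have e : ks 9 = 3 ∧ rs 9 = 384 ∧ kt 9 = 4 ∧ rt 9 = 0 := by decide +kernel
    rw [e.1, e.2.1, e.2.2.1, e.2.2.2, Pt_zero]; rfl
  · have e : ks 10 = 3 ∧ rs 10 = 399 ∧ kt 10 = 5 ∧ rt 10 = 0 := by decide +kernel
    rw [e.1, e.2.1, e.2.2.1, e.2.2.2, Pt_zero]; rfl
  · have e : ks 11 = 4 ∧ rs 11 = 0 ∧ kt 11 = 5 ∧ rt 11 = 143 := by decide +kernel
    rw [e.1, e.2.1, e.2.2.1, e.2.2.2, Pt_zero]; exact a4
  · have e : ks 12 = 5 ∧ rs 12 = 143 ∧ kt 12 = 3 ∧ rt 12 = 384 := by decide +kernel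
    rw [e.1, e.2.1, e.2.2.1, e.2.2.2]
    change cg ρ (cg (ι (wk 143)) (A5p ι ρ)) = _
    rw [← a4]; unfold A4p; exact hr.rho3 _
  · have e : ks 13 = 5 ∧ rs 13 = 0 ∧ kt 13 = 4 ∧ rt 13 = 143 := by decide +kernel
    rw [e.1, e.2.1, e.2.2.1, e.2.2.2, Pt_zero]; exact a5
  · have e : ks 14 = 4 ∧ rs 14 = 143 ∧ kt 14 = 3 ∧ rt 14 = 399 := by decide +kernel
    rw [e.1, e.2.1, e.2.2.1, e.2.2.2]
    change cg ρ (cg (ι (wk 143)) (A4p ι ρ)) = _
    rw [← a5]; unfold A5p; exact hr.rho3 _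

/-- one application of `ρ` -/
theorem step_ok (hr : RR ι ρ) {m4 m5 : ℕ} (hG : Good ι ρ m4 m5) {i j c : ℕ} (hi : i < 192) (hj : j < 15) (hc : c < 1920)
    (hS : SS m4 m5 (ks j) (wm (wi (wm (dl i) (rs j))) c) = true) :
    cg ρ (Pt ι ρ (ks j) c) = Pt ι ρ (kt j) (wm (th (dl i)) (rt j)) := by
  have h1 := allN_iff.1 rsrt_lt j hj
  rw [Bool.and_eq_true, Nat.blt_eq, Nat.blt_eq] at h1
  have h2 := allN_iff.1 dl_lt i hi
  rw [Bool.and_eq_true, Nat.blt_eq, Nat.blt_eq] at h2
  have h3 := allN_iff.1 dl_inD i hi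
  rw [Pt_eq hG hc (wm_lt h2.1 h1.1) hS, Pt_mul h2.1 h1.1, hr.r1.cgD h2.1 h3, rule_ok hr j hj, Pt_mul h2.2 h1.2]

theorem step_inv (hr : RR ι ρ) {m4 m5 : ℕ} (hG : Good ι ρ m4 m5) {i j c : ℕ} (hi : i < 192) (hj : j < 15) (hc : c < 1920)
    (hS : SS m4 m5 (kt j) (wm (wi (wm (th (dl i)) (rt j))) c) = true) :
    cg ρ⁻¹ (Pt ι ρ (kt j) c) = Pt ι ρ (ks j) (wm (dl i) (rs j)) := by
  have h1 := allN_iff.1 rsrt_lt j hj
  rw [Bool.and_eq_true, Nat.blt_eq, Nat.blt_eq] at h1
  have h2 := allN_iff.1 dl_lt i hi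
  rw [Bool.and_eq_true, Nat.blt_eq, Nat.blt_eq] at h2
  have h3 := allN_iff.1 dl_inD i hi
  apply cg_inj (g := ρ)
  rw [cg_cg_inv, Pt_eq hG hc (wm_lt h2.2 h1.2) hS, Pt_mul h2.1 h1.1, hr.r1.cgD h2.1 h3, rule_ok hr j hj, Pt_mul h2.2 h1.2]

/-- running a word -/
def run (m4 m5 : ℕ) : List (ℕ × ℕ × ℕ) → ℕ → ℕ → ℕ → ℕ → Bool
  | [], k, c, k', c' => Bool.and (Nat.beq k k') (Nat.beq c c')
  | (0, a, _) :: l, k, c, k', c' => Bool.and (Bool.and (Nat.blt a 1920) (Nat.blt c 1920)) (run m4 m5 l k (wm a c) k' c')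
  | (1, i, j) :: l, k, c, k', c' => Bool.and (Bool.and (Bool.and (Nat.blt i 192) (Nat.blt j 15)) (Bool.and (Nat.blt c 1920)
      (Bool.and (Nat.beq k (ks j)) (SS m4 m5 k (wm (wi (wm (dl i) (rs j))) c)))))
      (run m4 m5 l (kt j) (wm (th (dl i)) (rt j)) k' c')
  | (_, i, j) :: l, k, c, k', c' => Bool.and (Bool.and (Bool.and (Nat.blt i 192) (Nat.blt j 15)) (Bool.and (Nat.blt c 1920)
      (Bool.and (Nat.beq k (kt j)) (SS m4 m5 k (wm (wi (wm (th (dl i)) (rt j))) c)))))
      (run m4 m5 l (ks j) (wm (dl i) (rs j)) k' c')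

/-- the group element of a word -/
def gel (ι : W →* G) (ρ : G) : List (ℕ × ℕ × ℕ) → G
  | [] => 1
  | (0, a, _) :: l => gel ι ρ l * ι (wk a)
  | (1, _, _) :: l => gel ι ρ l * ρ
  | (_, _, _) :: l => gel ι ρ l * ρ⁻¹

theorem run_sound (hr : RR ι ρ) {m4 m5 : ℕ} (hG : Good ι ρ m4 m5) :
    ∀ (l : List (ℕ × ℕ × ℕ)) (k c k' c' : ℕ), run m4 m5 l k c k' c' = true → cg (gel ι ρ l) (Pt ι ρ k c) = Pt ι ρ k' c' := by
  intro l
  induction l with
  | nil =>
    intro k c k' c' h
    simp only [run, Bool.and_eq_true, Nat.beq_eq] at h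
    rw [gel, cg_one, h.1, h.2]
  | cons t l ih =>
    obtain ⟨t, i, j⟩ := t
    intro k c k' c' h
    match t with
    | 0 =>
      simp only [run, Bool.and_eq_true, Nat.blt_eq] at h
      rw [gel, cg_mul, ← Pt_mul h.1.1 h.1.2]
      exact ih _ _ _ _ h.2
    | 1 =>
      simp only [run, Bool.and_eq_true, Nat.blt_eq, Nat.beq_eq] at h
      obtain ⟨⟨⟨h1, h2⟩, h3, h4, h5⟩, h6⟩ := h
      subst h4
      rw [gel, cg_mul, step_ok hr hG h1 h2 h3 h5]
      exact ih _ _ _ _ h6
    | (t + 2) =>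
      simp only [run, Bool.and_eq_true, Nat.blt_eq, Nat.beq_eq] at h
      obtain ⟨⟨⟨h1, h2⟩, h3, h4, h5⟩, h6⟩ := h
      subst h4
      rw [gel, cg_mul, step_inv hr hG h1 h2 h3 h5]
      · exact ih _ _ _ _ h6
      · intro hh; omega
      · intro hh; omega

theorem chk3 : bfsChk 12 B3L B3P B3G B3M = true := by decide +kernel
theorem chk4p : bfsChk 12 B4pL B4pP B4pG B4pM = true := by decide +kernel
theorem chk5p : bfsChk 12 B5pL B5pP B5pG B5pM = true := by decide +kernel
theorem chk4 : bfsChk 60 B4L B4P B4G B4M = true := by decide +kernel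
theorem chk5 : bfsChk 60 B5L B5P B5G B5M = true := by decide +kernel
theorem lt3 : allN (fun i => Nat.blt (t11 B3L i) 1920) 12 = true := by decide +kernel
theorem lt4p : allN (fun i => Nat.blt (t11 B4pL i) 1920) 12 = true := by decide +kernel
theorem lt5p : allN (fun i => Nat.blt (t11 B5pL i) 1920) 12 = true := by decide +kernel
theorem lt4 : allN (fun i => Nat.blt (t11 B4L i) 1920) 60 = true := by decide +kernel
theorem lt5 : allN (fun i => Nat.blt (t11 B5L i) 1920) 60 = true := by decide +kernel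

theorem good_of (hr : RR ι ρ) {m4 m5 : ℕ} (h3 : ∀ h < 1920, bm B3M h = true → wk h ∈ St ι (A3 ι ρ))
    (h4 : ∀ h < 1920, bm m4 h = true → wk h ∈ St ι (A4p ι ρ)) (h5 : ∀ h < 1920, bm m5 h = true → wk h ∈ St ι (A5p ι ρ)) :
    Good ι ρ m4 m5 := by
  refine ⟨?_⟩
  intro k h hh hS
  unfold SS at hS
  match k with
  | 0 =>
    rw [mem_St]
    change cg (ι (wk h)) (ι (wk 16)) = ι (wk 16)
    rw [cg_io, zW]; congr 1; group
  | 1 =>
    have hD : inD h = true := hS
    rw [mem_St]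
    change cg (ι (wk h)) (ι (wk 1)) = ι (wk 1)
    apply cg_comm
    unfold inD at hD
    rw [Nat.beq_eq] at hD
    rw [← ik_mul hh (by norm_num), ← ik_mul (by norm_num) hh, hD]
  | 2 =>
    have hD : inH2 h = true := hS
    exact hr.r1.H2a hh hD
  | 3 => exact h3 h hh hS
  | 4 => exact h4 h hh hS
  | 5 => exact h5 h hh hS
  | (k + 6) => exact absurd hS (by
      change ¬ (false = true)
      decide)

theorem St_move (hr : RR ι ρ) {x r : ℕ} (hx : x < 1920) (hrr : r < 1920) (hD : inD (cw r x) = true) (h3 : wk x ∈ St ι (A3 ι ρ)) :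
    wk (th (cw r x)) ∈ St ι (cg ρ (cg (ι (wk r)) (A3 ι ρ))) := by
  rw [mem_St, ← hr.r1.cgD (cw_lt hrr hx) hD]
  congr 1
  rw [wk_cw hrr hx, ← cg_mul, ← map_mul]
  have e : wk r * wk x * (wk r)⁻¹ * wk r = wk r * wk x := by group
  rw [e, map_mul, cg_mul, mem_St.1 h3]

theorem good' (hr : RR ι ρ) (h869 : wk 869 ∈ XX ι ρ) : Good ι ρ B4pM B5pM := by
  have a32 : wk 32 ∈ St ι (A3 ι ρ) := XX32 hr
  have a869 : wk 869 ∈ St ι (A3 ι ρ) := h869
  apply good_of hr
  · apply bfs_sound (by norm_num) chk3 lt3 (by intro j hj; interval_cases j <;> decide +kernel)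
    intro j hj
    interval_cases j
    · have : t11 B3G 0 = 32 := by decide +kernel
      rw [this]; exact a32
    · have : t11 B3G 1 = 869 := by decide +kernel
      rw [this]; exact a869
    · have : t11 B3G 2 = 32 := by decide +kernel
      rw [this]; exact a32
  · have b1 : wk (th (cw 384 32)) ∈ St ι (A4p ι ρ) := St_move hr (by norm_num) (by norm_num) (by decide +kernel) a32
    have b2 : wk (th (cw 384 869)) ∈ St ι (A4p ι ρ) := St_move hr (by norm_num) (by norm_num) (by decide +kernel) a869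
    apply bfs_sound (by norm_num) chk4p lt4p (by intro j hj; interval_cases j <;> decide +kernel)
    intro j hj
    interval_cases j
    · have : t11 B4pG 0 = th (cw 384 32) := by decide +kernel
      rw [this]; exact b1
    · have : t11 B4pG 1 = th (cw 384 869) := by decide +kernel
      rw [this]; exact b2
    · have : t11 B4pG 2 = th (cw 384 32) := by decide +kernel
      rw [this]; exact b1
  · have b1 : wk (th (cw 399 32)) ∈ St ι (A5p ι ρ) := St_move hr (by norm_num) (by norm_num) (by decide +kernel) a32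
    have b2 : wk (th (cw 399 869)) ∈ St ι (A5p ι ρ) := St_move hr (by norm_num) (by norm_num) (by decide +kernel) a869
    apply bfs_sound (by norm_num) chk5p lt5p (by intro j hj; interval_cases j <;> decide +kernel)
    intro j hj
    interval_cases j
    · have : t11 B5pG 0 = th (cw 399 32) := by decide +kernel
      rw [this]; exact b1
    · have : t11 B5pG 1 = th (cw 399 869) := by decide +kernel
      rw [this]; exact b2
    · have : t11 B5pG 2 = th (cw 399 32) := by decide +kernel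
      rw [this]; exact b1

/-- the word `s w s w` is trivial -/
theorem gel_one (hz : ι (wk 16) * ι (wk 16) = 1) (hs : A3 ι ρ = cg (ρ * ι (wk 416) * ρ * ι (wk 416) * ρ) (ι (wk 16)))
    (h869 : wk 869 ∈ XX ι ρ) (l : List (ℕ × ℕ × ℕ))
    (hl : gel ι ρ l = ι (wk 869) * (ρ * ι (wk 416) * ρ * ι (wk 416) * ρ * ι (wk 16) * ρ⁻¹ * ι (wk 416) * ρ⁻¹ * ι (wk 416) * ρ⁻¹) *
      (ι (wk 869) * (ρ * ι (wk 416) * ρ * ι (wk 416) * ρ * ι (wk 16) * ρ⁻¹ * ι (wk 416) * ρ⁻¹ * ι (wk 416) * ρ⁻¹))) :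
    gel ι ρ l = 1 := by
  have h416 : (ι (wk 416))⁻¹ = ι (wk 416) := by
    rw [← map_inv]; congr 1
  have hA : A3 ι ρ = ρ * ι (wk 416) * ρ * ι (wk 416) * ρ * ι (wk 16) * ρ⁻¹ * ι (wk 416) * ρ⁻¹ * ι (wk 416) * ρ⁻¹ := by
    rw [hs]
    unfold cg
    simp only [mul_inv_rev, h416]
    simp only [mul_assoc]
  rw [hl, ← hA]
  have h1 : cg (ι (wk 869)) (A3 ι ρ) = A3 ι ρ := h869
  have h2 := comm_of_cg h1
  have h3 : ι (wk 869) * ι (wk 869) = 1 := by
    have : wk 869 * wk 869 = 1 := by decide +kernel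
    rw [← map_mul, this, map_one]
  have h4 : A3 ι ρ * A3 ι ρ = 1 := by
    rw [hs, ← cg_hom, hz]; unfold cg; simp
  calc ι (wk 869) * A3 ι ρ * (ι (wk 869) * A3 ι ρ) = ι (wk 869) * (A3 ι ρ * ι (wk 869)) * A3 ι ρ := by simp only [mul_assoc]
    _ = (ι (wk 869) * ι (wk 869)) * (A3 ι ρ * A3 ι ρ) := by rw [← h2]; simp only [mul_assoc]
    _ = 1 := by rw [h3, h4, mul_one]

theorem run4 : run B4pM B5pM ops4 4 16 4 885 = true := by decide +kernel
theorem run5 : run B4pM B5pM ops5 5 7 5 882 = true := by decide +kernel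

theorem good (hr : RR ι ρ) (h869 : wk 869 ∈ XX ι ρ) : Good ι ρ B4M B5M := by
  have hG := good' hr h869
  have hz : ι (wk 16) * ι (wk 16) = 1 := by
    have : wk 16 * wk 16 = 1 := by decide +kernel
    rw [← map_mul, this, map_one]
  have hs : A3 ι ρ = cg (ρ * ι (wk 416) * ρ * ι (wk 416) * ρ) (ι (wk 16)) := by
    have e0 : cg ρ (ι (wk 16)) = ι (wk 1) := hr.r1.cgi (d := 16) (by norm_num) (by decide +kernel)
    have e1 : cg (ι (wk 416)) (ι (wk 1)) = ι (wk 2) := by
      rw [cg_ik (by norm_num) (by norm_num)]; congr 1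
    rw [cg_mul, cg_mul, cg_mul, cg_mul, e0, e1]; rfl
  have g4 := run_sound hr hG _ _ _ _ _ run4
  rw [gel_one hz hs h869 ops4 (by simp only [ops4, gel, one_mul, mul_assoc]), cg_one] at g4
  have g5 := run_sound hr hG _ _ _ _ _ run5
  rw [gel_one hz hs h869 ops5 (by simp only [ops5, gel, one_mul, mul_assoc]), cg_one] at g5
  have f : ∀ k a b h : ℕ, a < 1920 → h < 1920 → b = wm a h → Pt ι ρ k a = Pt ι ρ k b → wk h ∈ St ι (ak ι ρ k) := by
    intro k a b h ha hh hb hp
    rw [hb, Pt, Pt, ik_mul ha hh, cg_mul] at hp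
    exact (cg_inj hp).symm
  have k4 : wk 869 ∈ St ι (A4p ι ρ) := f 4 16 885 869 (by norm_num) (by norm_num) (by decide +kernel) g4
  have k5 : wk 885 ∈ St ι (A5p ι ρ) := f 5 7 882 885 (by norm_num) (by norm_num) (by decide +kernel) g5
  have a32 : wk 32 ∈ St ι (A3 ι ρ) := XX32 hr
  have a869 : wk 869 ∈ St ι (A3 ι ρ) := h869
  apply good_of hr
  · intro h hh hb
    exact hG.s 3 h hh hb
  · have b1 : wk (th (cw 384 32)) ∈ St ι (A4p ι ρ) := St_move hr (by norm_num) (by norm_num) (by decide +kernel) a32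
    have b2 : wk (th (cw 384 869)) ∈ St ι (A4p ι ρ) := St_move hr (by norm_num) (by norm_num) (by decide +kernel) a869
    apply bfs_sound (by norm_num) chk4 lt4 (by intro j hj; interval_cases j <;> decide +kernel)
    intro j hj
    interval_cases j
    · have : t11 B4G 0 = th (cw 384 32) := by decide +kernel
      rw [this]; exact b1
    · have : t11 B4G 1 = th (cw 384 869) := by decide +kernel
      rw [this]; exact b2
    · have : t11 B4G 2 = 869 := by decide +kernel
      rw [this]; exact k4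
  · have b1 : wk (th (cw 399 32)) ∈ St ι (A5p ι ρ) := St_move hr (by norm_num) (by norm_num) (by decide +kernel) a32
    have b2 : wk (th (cw 399 869)) ∈ St ι (A5p ι ρ) := St_move hr (by norm_num) (by norm_num) (by decide +kernel) a869
    apply bfs_sound (by norm_num) chk5 lt5 (by intro j hj; interval_cases j <;> decide +kernel)
    intro j hj
    interval_cases j
    · have : t11 B5G 0 = th (cw 399 32) := by decide +kernel
      rw [this]; exact b1
    · have : t11 B5G 1 = th (cw 399 869) := by decide +kernel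
      rw [this]; exact b2
    · have : t11 B5G 2 = 885 := by decide +kernel
      rw [this]; exact k5

end H58.J2H
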