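import Mathlib

/-! Finite checks in `A_6` and `SL_3(2)` (helper58). -/

set_option autoImplicit false
set_option linter.style.haveILetI false
set_option maxRecDepth 100000
set_option linter.unusedSectionVars false
set_option linter.unusedVariables false

namespace H58.J3C

def dg8 (c i : ℕ) : ℕ := Nat.mod (Nat.shiftRight c (Nat.mul 3 i)) 8
def mk8 (a b c d e f g h : ℕ) : ℕ := Nat.add a (Nat.add (Nat.mul 8 b) (Nat.add (Nat.mul 64 c) (Nat.add (Nat.mul 512 d)
  (Nat.add (Nat.mul 4096 e) (Nat.add (Nat.mul 32768 f) (Nat.add (Nat.mul 262144 g) (Nat.mul 2097152 h)))))))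
def pm8 (p q : ℕ) : ℕ := mk8 (dg8 p (dg8 q 0)) (dg8 p (dg8 q 1)) (dg8 p (dg8 q 2)) (dg8 p (dg8 q 3)) (dg8 p (dg8 q 4)) (dg8 p (dg8 q 5)) (dg8 p (dg8 q 6)) (dg8 p (dg8 q 7))
def one8 : ℕ := 16434824
def sq (x : ℕ) : ℕ := pm8 x x
def av (z r : ℕ) : ℕ := pm8 r (pm8 z (pm8 r r))
def T1 (z r : ℕ) : Bool := Nat.beq (pm8 r (av z r)) (pm8 (pm8 z (av z r)) r)
def T3 (a b r r' z : ℕ) : Bool := Bool.and (Nat.beq (sq (pm8 a b)) z) (Nat.beq (sq (pm8 b r)) one8)
def C6 (r r' : ℕ) : Bool := Bool.and (Nat.beq (pm8 (sq (sq (pm8 r r'))) (pm8 r r')) one8) (Nat.beq (sq (sq (pm8 r (pm8 r' r')))) one8)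
def C7 (r r' : ℕ) : Bool := Bool.or (Nat.beq (sq (sq (pm8 r r'))) one8) (Nat.beq (pm8 (sq (pm8 r r')) (pm8 r r')) one8)
def CH (C : ℕ → ℕ → Bool) (Z R : List ℕ) : Bool := Z.all fun z => R.all fun r => Bool.or (Bool.not (T1 z r))
  (R.all fun r' => Bool.or (Bool.not (Nat.beq (sq (pm8 (av z r) r')) one8)) (Bool.or (Bool.not (T1 z r'))
    (Bool.or (Bool.not (T3 (av z r) (av z r') r r' z)) (C r r'))))
def Z6 : List ℕ := [16405704, 16362248, 16333128, 16406096, 16431184, 16370256, 16405144, 16425752, 16335704, 16358048, 16422112, 16324448, 16300200, 16303336, 16295720, 16406145, 16431233, 16370305, 16434369, 16426753, 16336705, 16406026, 16431114, 16370186, 16433690, 16422434, 16303658, 16404619, 16425227, 16335179, 16433235, 16421027, 16302251, 16353932, 16417996, 16320332, 16418388, 16417436, 16287404, 16267405, 16270541, 16262925, 16270933, 16269981, 16258725]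
def R6 : List ℕ := [16373896, 16398984, 16427208, 16337608, 16430344, 16340744, 16368968, 16394056, 16433872, 16422672, 16303952, 16434264, 16423064, 16304792, 16426592, 16429728, 16307872, 16336488, 16368296, 16389800, 16434705, 16373777, 16398865, 16433305, 16339225, 16392537, 16418465, 16321249, 16352609, 16271017, 16263401, 16266537, 16434754, 16373826, 16398914, 16433354, 16418570, 16271178, 16288538, 16259418, 16306402, 16266082, 16388330, 16352042, 16433795, 16339715, 16393027, 16434187, 16418955, 16272011, 16259859, 16288083, 16307235, 16263779, 16389163, 16320619, 16422532, 16325316, 16356676, 16426508, 16429196, 16275084, 16274132, 16298324, 16296476, 16274524, 16359980, 16330860, 16303749, 16296133, 16299269, 16336397, 16367757, 16385677, 16384725, 16355605, 16324637, 16385117, 16331301, 16359525]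
def Z7 : List ℕ := [14571144, 11789960, 9926280, 14599368, 16405704, 16362248, 16333128, 6999944, 5164488, 16205392, 10155600, 12305048, 15917720, 15637664, 5937120, 7917224, 15255464, 15120560, 15026032, 3787448, 3843896]
def R7 : List ℕ := [7072520, 5208840, 5237064, 7043400, 11644808, 9781128, 9809352, 11615688, 12534480, 10212048, 16147152, 13824720, 16096528, 10010448, 6748560, 3099600, 14140504, 15946840, 10413144, 12219480, 2813720, 4705624, 15772568, 12130776, 15673952, 8182944, 3538080, 5824224, 6009696, 15521184, 13162464, 10840032, 7960680, 13508264, 8863400, 15342824, 15328040, 6166440, 3385256, 8001000, 9092720, 4053168, 7665840, 4016880, 4109616, 5478256, 4073328, 11355120, 5622904, 9378488, 12991160, 13019384, 12932920, 11069240, 12961144, 7513016]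

theorem ch6 : CH C6 Z6 R6 = true := by decide +kernel
theorem ch7 : CH C7 Z7 R7 = true := by decide +kernel
end H58.J3C
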