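import Mathlib
import Cfsg.Agent.Lib.H58.J3B
import Cfsg.Agent.Lib.H58.J3D
import Cfsg.Agent.S3035
import Cfsg.Agent.Lib.H1.Cores

/-! The centralizer of the element of order three (helper58). -/

set_option autoImplicit false
set_option linter.style.haveILetI false
set_option maxRecDepth 100000
set_option linter.unusedSectionVars false

namespace H58.J3B

open H58.J2A H58.J2B H58.J2C Subgroup

def cw0 : W := wk 1 * wk 2

def phiF : DihedralGroup 4 → W
  | .r i => cw0 ^ i.val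
  | .sr i => wk 1 * cw0 ^ i.val

def phi : DihedralGroup 4 →* W where
  toFun := phiF
  map_one' := by decide +kernel
  map_mul' := by decide +kernel

theorem phi_comm : ∀ g : DihedralGroup 4, phi g * wk 32 = wk 32 * phi g := by decide +kernel
theorem phi_inj : ∀ g : DihedralGroup 4, (phi g = 1 ∨ phi g = wk 32 ∨ phi g = wk 64) → g = 1 := by decide +kernel
theorem phi_surj : ∀ w : W, w * wk 32 = wk 32 * w → ∃ g : DihedralGroup 4, w = phi g ∨ w = phi g * wk 32 ∨ w = phi g * wk 64 := by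
  decide +kernel

variable {G : Type*} [Group G] {ι : W →* G} {z ρ : G}

/-- the first case -/
theorem case1 {H : Type*} [Group H] [Finite H] {z a r : H} (hz : z * z = 1) (ha : r * z = a * r) (haz : a ≠ z) (hcm : a * z = z * a)
    (hC : Subgroup.centralizer ({z} : Set H) ⊔ Cfsg.oddCore H = ⊤) : False := by
  have hn : (Cfsg.oddCore H).Normal := H1.Cores.pPrimeCore_normal 2
  have hodd : Odd (Nat.card (Cfsg.oddCore H)) := (Nat.coprime_two_right).1 (H1.Cores.coprime_card_pPrimeCore 2)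
  have hr : r ∈ Subgroup.centralizer ({z} : Set H) ⊔ Cfsg.oddCore H := by rw [hC]; exact mem_top r
  obtain ⟨c, hc, o, ho, rfl⟩ := Subgroup.mem_sup_of_normal_right.1 hr
  rw [Subgroup.mem_centralizer_singleton_iff] at hc
  have h1 : a * z = c * (o * (z * o⁻¹ * z⁻¹)) * c⁻¹ := by
    have e1 : a = c * o * z * (c * o)⁻¹ := by rw [ha]; group
    have e2 : z = c * z⁻¹ * c⁻¹ := by
      have : z⁻¹ = z := inv_eq_of_mul_eq_one_left hz
      rw [this, hc]; group
    calc a * z = c * o * z * (c * o)⁻¹ * (c * z⁻¹ * c⁻¹) := by rw [← e1, ← e2]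
      _ = _ := by group
  have h2 : a * z ∈ Cfsg.oddCore H := by
    rw [h1]
    exact hn.conj_mem _ (mul_mem ho (hn.conj_mem _ (inv_mem ho) z)) c
  have haa : a * a = 1 := by
    have e1 : a = c * o * z * (c * o)⁻¹ := by rw [ha]; group
    rw [e1, show c * o * z * (c * o)⁻¹ * (c * o * z * (c * o)⁻¹) = c * o * (z * z) * (c * o)⁻¹ by group, hz]; group
  have h3 : (a * z) * (a * z) = 1 := by
    rw [show a * z * (a * z) = a * (z * a) * z by group, ← hcm, show a * (a * z) * z = (a * a) * (z * z) by group, haa, hz, one_mul]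
  have h4 : orderOf (⟨_, h2⟩ : Cfsg.oddCore H) = 2 := by
    apply orderOf_eq_prime
    · rw [pow_two]; exact Subtype.ext h3
    · intro hh
      have h5 : a * z = 1 := congrArg Subtype.val hh
      apply haz
      have : z⁻¹ = z := inv_eq_of_mul_eq_one_left hz
      rw [← this]; exact eq_inv_of_mul_eq_one_left h5
  have h5 := orderOf_dvd_natCard (⟨_, h2⟩ : Cfsg.oddCore H)
  rw [h4] at h5
  exact (Nat.not_even_iff_odd.2 hodd) (even_iff_two_dvd.2 h5)

theorem mem3 {y x : G} (hy : y * y * y = 1) (hx : x ∈ Subgroup.zpowers y) : x = 1 ∨ x = y ∨ x = y * y := by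
  obtain ⟨k, rfl⟩ := Subgroup.mem_zpowers_iff.1 hx
  have hy3 : y ^ 3 = 1 := by rw [← hy]; exact pow_three' y
  have h1 : y ^ k = y ^ (k % 3) := by
    conv_lhs => rw [← Int.emod_add_mul_ediv k 3]
    rw [zpow_add, zpow_mul]
    have : y ^ (3 : ℤ) = 1 := by rw [← hy3]; norm_cast
    rw [this, one_zpow, mul_one]
  rw [h1]
  have h2 := Int.emod_nonneg k (show (3 : ℤ) ≠ 0 by norm_num)
  have h3 := Int.emod_lt_of_pos k (show (0 : ℤ) < 3 by norm_num)
  interval_cases h : k % 3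
  · left; simp
  · right; left; simp
  · right; right
    have : y ^ (2 : ℤ) = y ^ 2 := by norm_cast
    rw [this, pow_two]

theorem tabS : wk 416 * wk 1 * (wk 416)⁻¹ = wk 2 ∧ wk 416 * wk 2 * (wk 416)⁻¹ = wk 1 ∧ wk 416 * wk 16 * (wk 416)⁻¹ = wk 16 ∧
    wk 416 * wk 17 * (wk 416)⁻¹ = wk 18 ∧ wk 416 * wk 32 * (wk 416)⁻¹ = wk 64 ∧ wk 416 * wk 64 * (wk 416)⁻¹ = wk 32 ∧
    wk 416 * wk 416 = 1 ∧ (wk 416)⁻¹ = wk 416 := by decide +kernel

/-- the conjugate of `ρ` -/
def rp (ι : W →* G) (ρ : G) : G := ι (wk 416) * ρ * (ι (wk 416))⁻¹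

theorem rp_rel (ι : W →* G) (ρ : G) {a b : W} (h : ρ * ι a = ι b * ρ) :
    rp ι ρ * ι (wk 416 * a * (wk 416)⁻¹) = ι (wk 416 * b * (wk 416)⁻¹) * rp ι ρ := by
  unfold rp
  rw [map_mul, map_mul, map_mul, map_mul, map_inv]
  calc ι (wk 416) * ρ * (ι (wk 416))⁻¹ * (ι (wk 416) * ι a * (ι (wk 416))⁻¹) = ι (wk 416) * (ρ * ι a) * (ι (wk 416))⁻¹ := by group
    _ = _ := by rw [h]; group

/-- the outcome of the analysis of `C(d)` -/
def Out (ι : W →* G) (ρ : G) : Prop :=
  (ρ * rp ι ρ) ^ 3 = 1 ∨ (ρ * rp ι ρ) ^ 4 = 1 ∨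
    (1080 ∣ Nat.card G ∧ (ρ * rp ι ρ) ^ 5 = 1 ∧ ((ρ * (rp ι ρ)⁻¹) ^ 4 = 1 ∨ (ρ * (rp ι ρ)⁻¹) ^ 4 = ι (wk 32) ∨ (ρ * (rp ι ρ)⁻¹) ^ 4 = ι (wk 64)))

theorem RJ.rinv64 (r : RJ ι ρ) : ρ * ι (wk 64) = ι (wk 64) * ρ := by
  have := RW r.rd r.rd
  rwa [show wk 32 * wk 32 = wk 64 by decide +kernel] at this

/-- powers lying in `⟨d⟩` are trivial by symmetry -/
theorem sym_pow (h : HT ι z) (r : RJ ι ρ) {n : ℕ} (hn : (ρ * rp ι ρ) ^ n ∈ Subgroup.zpowers (ι (wk 32))) : (ρ * rp ι ρ) ^ n = 1 := by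
  have hd3 : ι (wk 32) * ι (wk 32) * ι (wk 32) = 1 := by
    rw [← map_mul, ← map_mul, show wk 32 * wk 32 * wk 32 = 1 by decide +kernel, map_one]
  set s : G := ι (wk 416) with hs
  have hss : s * s = 1 := by rw [hs, ← map_mul, tabS.2.2.2.2.2.2.1, map_one]
  have hsi : s⁻¹ = s := inv_eq_of_mul_eq_one_left hss
  have h1 : s * (ρ * rp ι ρ) * s⁻¹ = ρ⁻¹ * (ρ * rp ι ρ) * ρ := by
    unfold rp
    rw [← hs]
    calc s * (ρ * (s * ρ * s⁻¹)) * s⁻¹ = s * ρ * s * ρ * (s⁻¹ * s⁻¹) := by group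
      _ = s * ρ * s * ρ := by rw [hsi, hss, mul_one]
      _ = s * ρ * s⁻¹ * ρ := by rw [hsi]
      _ = _ := by group
  have h2 : s * (ρ * rp ι ρ) ^ n * s⁻¹ = ρ⁻¹ * (ρ * rp ι ρ) ^ n * ρ := by
    rw [← conj_pow, h1]
    have := conj_pow (a := ρ⁻¹) (b := ρ * rp ι ρ) (i := n)
    rw [inv_inv] at this
    exact this
  have key : ∀ w : W, (w = wk 32 ∨ w = wk 64) → (ρ * rp ι ρ) ^ n = ι w → False := by
    intro w hw hh
    rw [hh] at h2
    have h3 : ρ⁻¹ * ι w * ρ = ι w := by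
      have : ρ * ι w = ι w * ρ := by
        rcases hw with rfl | rfl
        · exact r.rd
        · exact r.rinv64
      rw [mul_assoc, ← this]; group
    rw [h3, hs, ← map_inv, ← map_mul, ← map_mul] at h2
    have h4 := h.inj h2
    rcases hw with rfl | rfl
    · exact absurd h4 (by decide +kernel)
    · exact absurd h4 (by decide +kernel)
  rcases mem3 hd3 hn with h3 | h3 | h3
  · exact h3
  · exact (key _ (Or.inl rfl) h3).elim
  · refine (key (wk 64) (Or.inr rfl) ?_).elim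
    rw [h3, ← map_mul]; congr 1

theorem outcome [Finite G] (h : HT ι z) (r : RJ ι ρ) : Out ι ρ := by
  classical
  set d : G := ι (wk 32) with hd
  have hd3 : d * d * d = 1 := by
    rw [hd, ← map_mul, ← map_mul, show wk 32 * wk 32 * wk 32 = 1 by decide +kernel, map_one]
  set X : Subgroup G := Subgroup.centralizer ({d} : Set G) with hX
  have mX : ∀ x : G, x ∈ X ↔ x * d = d * x := fun x => Subgroup.mem_centralizer_singleton_iff
  have mXw : ∀ w : W, w * wk 32 = wk 32 * w → ι w ∈ X := by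
    intro w hw
    rw [mX, hd, ← map_mul, hw, map_mul]
  set D : Subgroup X := (Subgroup.zpowers d).subgroupOf X with hD
  have hDn : D.Normal := by
    refine ⟨?_⟩
    rintro ⟨x, hx⟩ hxD ⟨g, hg⟩
    rw [hD, Subgroup.mem_subgroupOf] at hxD ⊢
    change g * x * g⁻¹ ∈ Subgroup.zpowers d
    obtain ⟨k, hk⟩ := Subgroup.mem_zpowers_iff.1 hxD
    change d ^ k = x at hk
    have hcm : Commute g (d ^ k) := (show Commute g d from (mX g).1 hg).zpow_right k
    rw [← hk, hcm.eq]
    simp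
  let π : X →* X ⧸ D := QuotientGroup.mk' D
  have hπ : ∀ x y : X, π x = π y ↔ (x : G)⁻¹ * (y : G) ∈ Subgroup.zpowers d := by
    intro x y
    change (QuotientGroup.mk x : X ⧸ D) = QuotientGroup.mk y ↔ _
    rw [QuotientGroup.eq, hD, Subgroup.mem_subgroupOf]
    rfl
  have hπ1 : ∀ x : X, π x = 1 ↔ (x : G) ∈ Subgroup.zpowers d := by
    intro x
    change (QuotientGroup.mk x : X ⧸ D) = 1 ↔ _
    rw [QuotientGroup.eq_one_iff, hD, Subgroup.mem_subgroupOf]
  have mz : ∀ w : W, ι w ∈ Subgroup.zpowers d → w = 1 ∨ w = wk 32 ∨ w = wk 64 := by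
    intro w hw
    rcases mem3 hd3 hw with h1 | h1 | h1
    · left; exact h.inj (h1.trans (map_one ι).symm)
    · right; left; exact h.inj h1
    · right; right; apply h.inj
      rw [h1, hd, ← map_mul]; congr 1
  -- elements
  let lw : (w : W) → w * wk 32 = wk 32 * w → X := fun w hw => ⟨ι w, mXw w hw⟩
  have c16 : wk 16 * wk 32 = wk 32 * wk 16 := by decide +kernel
  have c1 : wk 1 * wk 32 = wk 32 * wk 1 := by decide +kernel
  have c2 : wk 2 * wk 32 = wk 32 * wk 2 := by decide +kernel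
  have hρX : ρ ∈ X := (mX ρ).2 r.rd
  have hρ'X : rp ι ρ ∈ X := by
    rw [mX]
    have := rp_rel ι ρ r.rinv64
    rwa [tabS.2.2.2.2.2.1] at this
  let zb : X ⧸ D := π (lw _ c16)
  let ab : X ⧸ D := π (lw _ c1)
  let bb : X ⧸ D := π (lw _ c2)
  let rb : X ⧸ D := π ⟨ρ, hρX⟩
  let sb : X ⧸ D := π ⟨rp ι ρ, hρ'X⟩
  have hzz : zb * zb = 1 := by
    change π (lw _ c16) * π (lw _ c16) = 1
    rw [← map_mul, ← map_one π]
    congr 1
    apply Subtype.ext
    change ι (wk 16) * ι (wk 16) = 1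
    rw [← map_mul, show wk 16 * wk 16 = 1 by decide +kernel, map_one]
  have hz1 : zb ≠ 1 := by
    intro hh
    have := (hπ1 _).1 hh
    have h2 := mz _ this
    exact absurd h2 (by decide +kernel)
  have haz : ab ≠ zb := by
    intro hh
    have h1 := (hπ _ _).1 hh
    change (ι (wk 1))⁻¹ * ι (wk 16) ∈ _ at h1
    rw [← map_inv, ← map_mul] at h1
    exact absurd (mz _ h1) (by decide +kernel)
  have hcm : ab * zb = zb * ab := by
    change π (lw _ c1) * π (lw _ c16) = π (lw _ c16) * π (lw _ c1)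
    rw [← map_mul, ← map_mul]
    congr 1
    apply Subtype.ext
    change ι (wk 1) * ι (wk 16) = ι (wk 16) * ι (wk 1)
    rw [← map_mul, ← map_mul]; congr 1
  have ha : rb * zb = ab * rb := by
    change π ⟨ρ, hρX⟩ * π (lw _ c16) = π (lw _ c1) * π ⟨ρ, hρX⟩
    rw [← map_mul, ← map_mul]
    congr 1
    exact Subtype.ext r.rz
  have ha2 : rb * ab = zb * ab * rb := by
    change π ⟨ρ, hρX⟩ * π (lw _ c1) = π (lw _ c16) * π (lw _ c1) * π ⟨ρ, hρX⟩
    rw [← map_mul, ← map_mul, ← map_mul]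
    congr 1
    apply Subtype.ext
    change ρ * ι (wk 1) = ι (wk 16) * ι (wk 1) * ρ
    rw [← map_mul, ← w17.1]; exact r.re
  have hr3 : rb * rb * rb = 1 := by
    change π ⟨ρ, hρX⟩ * π ⟨ρ, hρX⟩ * π ⟨ρ, hρX⟩ = 1
    rw [← map_mul, ← map_mul, ← map_one π]
    congr 1
    exact Subtype.ext r.r3
  have hs3' : rp ι ρ * rp ι ρ * rp ι ρ = 1 := by
    unfold rp
    rw [show ι (wk 416) * ρ * (ι (wk 416))⁻¹ * (ι (wk 416) * ρ * (ι (wk 416))⁻¹) * (ι (wk 416) * ρ * (ι (wk 416))⁻¹) =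
      ι (wk 416) * (ρ * ρ * ρ) * (ι (wk 416))⁻¹ by group, r.r3]; group
  have hs3 : sb * sb * sb = 1 := by
    change π ⟨rp ι ρ, hρ'X⟩ * π ⟨rp ι ρ, hρ'X⟩ * π ⟨rp ι ρ, hρ'X⟩ = 1
    rw [← map_mul, ← map_mul, ← map_one π]
    congr 1
    exact Subtype.ext hs3'
  have hb : sb * zb = bb * sb := by
    change π ⟨rp ι ρ, hρ'X⟩ * π (lw _ c16) = π (lw _ c2) * π ⟨rp ι ρ, hρ'X⟩
    rw [← map_mul, ← map_mul]
    congr 1
    apply Subtype.ext
    change rp ι ρ * ι (wk 16) = ι (wk 2) * rp ι ρ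
    have := rp_rel ι ρ r.rz
    rwa [tabS.2.2.1, tabS.1] at this
  have hb2 : sb * bb = zb * bb * sb := by
    change π ⟨rp ι ρ, hρ'X⟩ * π (lw _ c2) = π (lw _ c16) * π (lw _ c2) * π ⟨rp ι ρ, hρ'X⟩
    rw [← map_mul, ← map_mul, ← map_mul]
    congr 1
    apply Subtype.ext
    change rp ι ρ * ι (wk 2) = ι (wk 16) * ι (wk 2) * rp ι ρ
    have := rp_rel ι ρ r.re
    rw [tabS.1, tabS.2.2.2.1] at this
    rw [this, ← map_mul]; congr 2
  have hab : ab * bb * (ab * bb) = zb := by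
    change π (lw _ c1) * π (lw _ c2) * (π (lw _ c1) * π (lw _ c2)) = π (lw _ c16)
    rw [← map_mul, ← map_mul]
    congr 1
    apply Subtype.ext
    change ι (wk 1) * ι (wk 2) * (ι (wk 1) * ι (wk 2)) = ι (wk 16)
    rw [← map_mul, ← map_mul]; congr 1
  have hbr : bb * rb * (bb * rb) = 1 := by
    change π (lw _ c2) * π ⟨ρ, hρX⟩ * (π (lw _ c2) * π ⟨ρ, hρX⟩) = 1
    rw [← map_mul, ← map_mul, ← map_one π]
    congr 1
    exact Subtype.ext r.r1
  have har : ab * sb * (ab * sb) = 1 := by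
    change π (lw _ c1) * π ⟨rp ι ρ, hρ'X⟩ * (π (lw _ c1) * π ⟨rp ι ρ, hρ'X⟩) = 1
    rw [← map_mul, ← map_mul, ← map_one π]
    congr 1
    apply Subtype.ext
    change ι (wk 1) * rp ι ρ * (ι (wk 1) * rp ι ρ) = 1
    have e1 : ι (wk 1) = ι (wk 416) * ι (wk 2) * (ι (wk 416))⁻¹ := by
      rw [← map_inv, ← map_mul, ← map_mul, tabS.2.1]
    unfold rp
    rw [e1]
    calc ι (wk 416) * ι (wk 2) * (ι (wk 416))⁻¹ * (ι (wk 416) * ρ * (ι (wk 416))⁻¹) *
        (ι (wk 416) * ι (wk 2) * (ι (wk 416))⁻¹ * (ι (wk 416) * ρ * (ι (wk 416))⁻¹)) =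
        ι (wk 416) * (ι (wk 2) * ρ * (ι (wk 2) * ρ)) * (ι (wk 416))⁻¹ := by group
      _ = 1 := by rw [r.r1]; group
  have hz2 : orderOf zb = 2 := by
    apply orderOf_eq_prime
    · rw [pow_two]; exact hzz
    · exact hz1
  -- the centralizer of `zb`
  let f0 : DihedralGroup 4 →* X := (ι.comp phi).codRestrict X (fun g => mXw _ (phi_comm g))
  let f : DihedralGroup 4 →* X ⧸ D := π.comp f0
  have hfC : ∀ g, f g ∈ Subgroup.centralizer ({zb} : Set (X ⧸ D)) := by
    intro g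
    rw [Subgroup.mem_centralizer_singleton_iff]
    change π (f0 g) * π (lw _ c16) = π (lw _ c16) * π (f0 g)
    rw [← map_mul, ← map_mul]
    congr 1
    apply Subtype.ext
    change ι (phi g) * ι (wk 16) = ι (wk 16) * ι (phi g)
    rw [← map_mul, zW, map_mul]
  let F : DihedralGroup 4 →* Subgroup.centralizer ({zb} : Set (X ⧸ D)) := f.codRestrict _ hfC
  have hFi : Function.Injective F := by
    rw [injective_iff_map_eq_one]
    intro g hg
    have h1 : f g = 1 := congrArg Subtype.val hg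
    have h2 := (hπ1 _).1 h1
    exact phi_inj g (mz _ h2)
  have hFs : Function.Surjective F := by
    rintro ⟨y, hy⟩
    obtain ⟨x, rfl⟩ := QuotientGroup.mk'_surjective D y
    rw [Subgroup.mem_centralizer_singleton_iff] at hy
    change π x * π (lw _ c16) = π (lw _ c16) * π x at hy
    rw [← map_mul, ← map_mul] at hy
    have h1 := (hπ _ _).1 hy.symm
    change (ι (wk 16) * (x : G))⁻¹ * ((x : G) * ι (wk 16)) ∈ Subgroup.zpowers d at h1
    set n := (ι (wk 16) * (x : G))⁻¹ * ((x : G) * ι (wk 16)) with hn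
    have hxd : (x : G) * d = d * x := (mX _).1 x.2
    have hzd : ι (wk 16) * d = d * ι (wk 16) := by rw [hd, ← map_mul, c16, map_mul]
    have hnx : (x : G) * n = n * x := by
      obtain ⟨k, hk⟩ := Subgroup.mem_zpowers_iff.1 h1
      rw [← hk]
      exact (show Commute (x : G) d from hxd).zpow_right k
    have hnz : ι (wk 16) * n = n * ι (wk 16) := by
      obtain ⟨k, hk⟩ := Subgroup.mem_zpowers_iff.1 h1
      rw [← hk]
      exact (show Commute (ι (wk 16)) d from hzd).zpow_right k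
    have z2 : ι (wk 16) * ι (wk 16) = 1 := by rw [← map_mul, show wk 16 * wk 16 = 1 by decide +kernel, map_one]
    have e1 : (x : G) * ι (wk 16) * (x : G)⁻¹ = ι (wk 16) * n := by
      have : (x : G) * ι (wk 16) = ι (wk 16) * (x : G) * n := by rw [hn]; group
      rw [this, mul_assoc (ι (wk 16)), hnx]; group
    have e2 : n * n = 1 := by
      have e3 : (x : G) * ι (wk 16) * (x : G)⁻¹ * ((x : G) * ι (wk 16) * (x : G)⁻¹) = 1 := by
        rw [show (x : G) * ι (wk 16) * (x : G)⁻¹ * ((x : G) * ι (wk 16) * (x : G)⁻¹) = (x : G) * (ι (wk 16) * ι (wk 16)) * (x : G)⁻¹ by group, z2]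
        group
      rw [e1] at e3
      calc n * n = (ι (wk 16) * ι (wk 16)) * (n * n) := by rw [z2, one_mul]
        _ = ι (wk 16) * (ι (wk 16) * n) * n := by group
        _ = ι (wk 16) * (n * ι (wk 16)) * n := by rw [hnz]
        _ = ι (wk 16) * n * (ι (wk 16) * n) := by group
        _ = 1 := e3
    have e3 : n = 1 := by
      rcases mem3 hd3 h1 with h2 | h2 | h2
      · exact h2
      · rw [h2] at e2
        have : d = 1 := by rw [e2, one_mul] at hd3; exact hd3
        rw [h2, this]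
      · have hdd : d * d * (d * d) = 1 := by rw [h2] at e2; exact e2
        have : d = 1 := by rw [← mul_assoc, hd3, one_mul] at hdd; exact hdd
        rw [h2, this, one_mul]
    rw [e3, mul_one] at e1
    have e4 : (x : G) * z = z * x := by
      rw [← h.z16]
      calc (x : G) * ι (wk 16) = (x : G) * ι (wk 16) * (x : G)⁻¹ * x := by group
        _ = _ := by rw [e1]
    obtain ⟨w, hw⟩ := h.cz _ e4
    have hw32 : w * wk 32 = wk 32 * w := by
      apply h.inj
      rw [map_mul, map_mul, hw]; exact hxd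
    obtain ⟨g, hg⟩ := phi_surj w hw32
    refine ⟨g, ?_⟩
    apply Subtype.ext
    change π (f0 g) = π x
    rw [hπ]
    change (ι (phi g))⁻¹ * (x : G) ∈ Subgroup.zpowers d
    rw [← hw, ← map_inv, ← map_mul]
    rcases hg with hg | hg | hg
    · rw [hg, inv_mul_cancel, map_one]; exact one_mem _
    · rw [hg, inv_mul_cancel_left]; exact Subgroup.mem_zpowers _
    · rw [hg, inv_mul_cancel_left, show wk 64 = wk 32 * wk 32 by decide +kernel, map_mul]
      exact mul_mem (Subgroup.mem_zpowers _) (Subgroup.mem_zpowers _)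
  have hiso : Nonempty (Subgroup.centralizer ({zb} : Set (X ⧸ D)) ≃* DihedralGroup 4) := ⟨(MulEquiv.ofBijective F ⟨hFi, hFs⟩).symm⟩
  have pw : ∀ n : ℕ, (rb * sb) ^ n = 1 → (ρ * rp ι ρ) ^ n = 1 := by
    intro n hn
    apply sym_pow h r
    have e1 : (rb * sb) ^ n = π ((⟨ρ, hρX⟩ * ⟨rp ι ρ, hρ'X⟩) ^ n) := by
      rw [map_pow, map_mul]
    rw [e1] at hn
    exact (hπ1 _).1 hn
  rcases Cfsg.Agent.S3035.result zb hz2 hiso with hc | ⟨⟨E⟩⟩ | ⟨⟨E⟩⟩ | ⟨⟨E⟩⟩ | ⟨⟨E⟩⟩
  · exact (case1 hzz ha haz hcm hc).elim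
  · exfalso
    refine H58.J3C.sgn4 H58.J3C.s4 (z := E zb) (a := E ab) (b := E bb) (r := E rb) (r' := E sb) ?_ ?_ ?_ ?_ ?_
    · rw [← map_mul, hzz, map_one]
    · intro hh; exact hz1 (E.injective (hh.trans (map_one E).symm))
    · rw [← map_mul, ha, map_mul]
    · rw [← map_mul, hb, map_mul]
    · rw [← map_mul, ← map_mul, hab]
  · exfalso
    refine H58.J3C.sgn4 H58.J3C.s5 (z := E zb) (a := E ab) (b := E bb) (r := E rb) (r' := E sb) ?_ ?_ ?_ ?_ ?_
    · rw [← map_mul, hzz, map_one]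
    · intro hh; exact hz1 (E.injective (hh.trans (map_one E).symm))
    · rw [← map_mul, ha, map_mul]
    · rw [← map_mul, hb, map_mul]
    · rw [← map_mul, ← map_mul, hab]
  · have h1 := H58.J3C.res7 (z := E zb) (a := E ab) (b := E bb) (r := E rb) (r' := E sb)
      (by rw [← map_mul, hzz, map_one]) (fun hh => hz1 (E.injective (hh.trans (map_one E).symm)))
      (by rw [← map_mul, ← map_mul, hr3, map_one]) (by rw [← map_mul, ← map_mul, hs3, map_one])
      (by rw [← map_mul, ha, map_mul]) (by rw [← map_mul, hb, map_mul])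
      (by rw [← map_mul, ha2, map_mul, map_mul]) (by rw [← map_mul, hb2, map_mul, map_mul])
      (by rw [← map_mul, ← map_mul, hab]) (by rw [← map_mul, ← map_mul, hbr, map_one]) (by rw [← map_mul, ← map_mul, har, map_one])
    rcases h1 with h1 | h1
    · right; left
      apply pw
      apply E.injective
      rw [map_pow, map_mul, h1, map_one]
    · left
      apply pw
      apply E.injective
      rw [map_pow, map_mul, h1, map_one]
  · have h1 := H58.J3C.res6 (z := E zb) (a := E ab) (b := E bb) (r := E rb) (r' := E sb)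
      (by rw [← map_mul, hzz, map_one]) (fun hh => hz1 (E.injective (hh.trans (map_one E).symm)))
      (by rw [← map_mul, ← map_mul, hr3, map_one]) (by rw [← map_mul, ← map_mul, hs3, map_one])
      (by rw [← map_mul, ha, map_mul]) (by rw [← map_mul, hb, map_mul])
      (by rw [← map_mul, ha2, map_mul, map_mul]) (by rw [← map_mul, hb2, map_mul, map_mul])
      (by rw [← map_mul, ← map_mul, hab]) (by rw [← map_mul, ← map_mul, hbr, map_one]) (by rw [← map_mul, ← map_mul, har, map_one])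
    right; right
    refine ⟨?_, ?_, ?_⟩
    · have k1 : Nat.card (X ⧸ D) = 360 := by
        rw [Nat.card_congr E.toEquiv, nat_card_alternatingGroup, Nat.card_fin]; rfl
      have k2 : Nat.card D = 3 := by
        have : Nat.card D = Nat.card (Subgroup.zpowers d) :=
          Nat.card_congr (Subgroup.subgroupOfEquivOfLe (by
            rw [Subgroup.zpowers_le, mX])).toEquiv
        rw [this, Nat.card_zpowers]
        apply orderOf_eq_prime
        · rw [← hd3]; exact pow_three' d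
        · intro hh
          exact absurd (h.inj (hh.trans (map_one ι).symm)) (by decide +kernel)
      have k3 := Subgroup.card_eq_card_quotient_mul_card_subgroup D
      rw [k1, k2] at k3
      have k4 := Subgroup.card_subgroup_dvd_card X
      rw [k3] at k4
      exact k4
    · apply pw
      apply E.injective
      rw [map_pow, map_mul, h1.1, map_one]
    · have e1 : (rb * sb⁻¹) ^ 4 = 1 := by
        apply E.injective
        rw [map_pow, map_mul, map_inv, h1.2, map_one]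
      have e2 : (rb * sb⁻¹) ^ 4 = π ((⟨ρ, hρX⟩ * (⟨rp ι ρ, hρ'X⟩ : X)⁻¹) ^ 4) := by
        rw [map_pow, map_mul, map_inv]
      rw [e2] at e1
      have e3 := (hπ1 _).1 e1
      change (ρ * (rp ι ρ)⁻¹) ^ 4 ∈ Subgroup.zpowers d at e3
      rcases mem3 hd3 e3 with h2 | h2 | h2
      · left; exact h2
      · right; left; exact h2
      · right; right
        rw [h2, hd, ← map_mul]; congr 1

end H58.J3B
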