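import Cfsg.Agent.Lib.H34.TCGroup
import Cfsg.Agent.Lib.H34.TCMain
import Cfsg.Agent.Lib.H58.J3J1xT0
import Cfsg.Agent.Lib.H58.J3J1xT1

/-! Coset enumeration certificate (generated with helper34's tools, helper58). -/

set_option autoImplicit false
set_option maxRecDepth 100000
set_option linter.unusedVariables false

noncomputable section

namespace H58.J3J1x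

open H34.TC

def tabs : List Tr := [T0, T1, T2, T3, T4, T5, T6]
def ioL : List Nat := [0,2,1,3,4,6,5]
def io (g : Nat) : Nat := ioL.getD g g
def base : List (List Nat) := [[1,1,1],
  [0,0],
  [3,3],
  [4,4],
  [1,2],
  [5,6],
  [1,3,1,3,1,3],
  [3,4,3,4,3,4,3,4,3,4],
  [1,4,1,4],
  [1,3,4,1,3,4,1,3,4],
  [1,4,3,1,4,3,1,4,3,1,4,3,1,4,3],
  [1,3,1,4,1,3,1,4,1,3,1,4,1,3,1,4,1,3,1,4],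
  [0,1,0,2],
  [0,3,0,3],
  [0,4,0,4,0,4,0,4,0,4,0,4,0,4,0,4],
  [0,4,0,4,0,4,0,4,1,4,0,4,0,4,0,4,0,2],
  [0,4,0,4,0,4,0,4,3,4,0,4,0,4,0,4,0,3],
  [0,4,0,4,0,4,0,4,0,4,0,4,0,4,0,4],
  [0,4,0,4,3,4,0,4,3,1,3,4,0,4,3,1,3,4,0,4,3,2,2],
  [5,5,5],
  [5,0,6,4,0,4,0,4,0,4],
  [5,1,6,2],
  [5,3,6,1,3,2],
  [5,0,4,0,4,0,4,0,4,6,0],
  [5,4,0,4,3,4,0,4,3,6,1,3,4,3,0,4,1,3,0,4,2],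
  [4,0,4,5,4,0,4,5],
  [5,4,5,4,5,4,5,4,5,4,5,4,5,4,5,4,5,4,5,4],
  [5,4,6,4,5,4,6,4,5,4,6,4,5,4,6,4,2]]
def hw : List (List Nat) := [[0],[1],[3],[4]]
def WA : List (List (List Nat)) := [[[6,4,0,4,0,4,0,4,0,5],[5,4,0,4,0,4,0,4,6],[4,6,4,0,4,6,4],[0],[3,0,3],[2,0,1],[1,0,2],[6,0,4,0,4,0,4,0,4,5],[4,5,4,0,4,5,4],[4,6,0,5,4,0,4,0,4],[4,0,4,0,4,5,0,6,0,4],[4,0,4,0,4,0,5,0,6,4],[4,0,4,0,4,6,0,5,4],[4,0,4,0,4,0,4,0,4,0,4,0,4,0,4],[4,0,4,0,4,0,4,5,0,6],[4,0,4,6,0,5,4,0,4],[4,0,1,0,4,0,4,0,4,0,4,2,4,0,4,0,4],[4,0,5,0,6,4,0,4,0,4],[4,5,0,6,0,4,0,4,0,4],[4,0,4,5,0,6,0,4,0,4],[4,0,4,0,4,0,3,0,4,0,4,0,4,0,4,3,4],[4,0,4,0,3,0,4,0,4,0,4,0,4,3,4,0,4],[4,0,3,0,4,0,4,0,4,0,4,3,4,0,4,0,4],[4,0,4,2,4,0,4,0,4,0,4,0,1,0,4,0,4]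,[4,0,4,0,5,0,6,4,0,4],[4,2,4,0,4,0,4,0,4,0,1,0,4,0,4,0,4],[4,0,4,0,4,1,4,0,4,0,4,0,4,0,2,0,4],[4,1,6,4,0,4,3,4,0,4,3,5,2,3,4,3,0,4,2,3],[5,0,6,4,0,4,0,4,0,4],[4,0,4,0,4,3,4,0,4,0,4,0,4,0,3,0,4],[4,3,4,0,4,3,5,2,3,4,3,0,4,2,3,0,4,1,6,4],[4,3,4,0,4,5,2,4,0,3,1,4,0,3,4,3,1,6,3,4],[4,3,4,0,4,0,4,0,4,0,3,0,4,0,4,0,4],[4,0,4,0,1,0,4,0,4,0,4,0,4,2,4,0,4],[4,3,1,1,0,4,0,4,3,4,0,4,3,2,3,4,0,4,3,2,3,4],[4,3,1,3,4,0,4,3,1,3,4,0,4,3,4,0,4,0,2,2,3,4],[4,3,4,0,4,0,2,2,3,4,0,4,3,1,3,4,0,4,3,1,3,4],[3,4,3,1,6,3,4,0,4,3,4,0,4,5,2,4,0,3,1,4],[4,0,4,1,4,0,4,0,4,0,4,0,2,0,4,0,4],[4,2,3,0,4,1,6,4,0,4,3,4,0,4,3,5,2,3,4,3],[4,3,5,2,3,4,3,0,4,2,3,0,4,1,6,4,0,4,3,4],[4,3,1,3,4,0,4,3,4,0,4,0,2,2,3,4,0,4,3,1,3,4],[4,3,2,3,4,0,4,3,1,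1,0,4,0,4,3,4,0,4,3,2,3,4],[4,3,2,3,4,0,4,3,2,3,4,0,4,3,1,1,0,4,0,4,3,4],[4,0,4,0,4,0,1,0,4,0,4,0,4,0,4,2,4],[4,1,4,0,4,0,4,0,4,0,2,0,4,0,4,0,4],[3,1,4,0,3,4,3,1,6,3,4,0,4,3,4,0,4,5,2,4],[4,3,4,0,4,3,2,3,4,0,4,3,2,3,4,0,4,3,1,1,0,4],[4,0,4,3,4,0,4,0,4,0,4,0,3,0,4,0,4],[4,0,4,0,2,0,4,0,4,0,4,0,4,1,4,0,4],[4,0,2,0,4,0,4,0,4,0,4,1,4,0,4,0,4],[4,0,4,0,4,0,2,0,4,0,4,0,4,0,4,1,4],[4,5,2,4,0,3,1,4,0,3,4,3,1,6,3,4,0,4,3,4],[4,0,4,0,4,2,4,0,4,0,4,0,4,0,1,0,4],[4,0,4,3,4,0,4,3,2,3,4,0,4,3,2,3,4,0,4,3,1,1],[2,2,3,4,0,4,3,1,3,4,0,4,3,1,3,4,0,4,3,4,0,4],[4,0,4,0,4,0,4,3,4,0,4,0,4,0,4,0,3]],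
 [[2],[5,2,6],[4,1,4],[0,2,0],[1,1],[6,3,5,2,3],[6,2,5],[4,3,1,4,3,1,4,3],[3,1,3,1,3],[4,0,3,4,3,1,6,3,4,0,4,3,4,0,4,5,2,4,0,3],[6,4,0,4,3,4,0,4,3,5,2,3,4,3,0,4,2,3,0,4],[3,4,0,4,3,4,0,4,0,2,2,3,4,0,4,3,1,3,4,0,4,3],[3,4,1,3,4,1,3,4,1,3,4,1,3,4],[6,3,4,0,4,3,4,0,4,5,2,4,0,3,1,4,0,3,4,3]],
 [[1],[6,1,5],[2,2],[4,2,4],[5,1,6],[3,1,6,3,5],[0,1,0],[3,2,3,2,3],[3,4,2,3,4,2,3,4],[3,0,4,1,6,4,0,4,3,4,0,4,3,5,2,3,4,3,0,4],[3,4,0,4,3,2,3,4,0,4,3,1,1,0,4,0,4,3,4,0,4,3],[4,0,3,1,4,0,3,4,3,1,6,3,4,0,4,3,4,0,4,5],[3,4,0,4,3,1,1,0,4,0,4,3,4,0,4,3,2,3,4,0,4,3],[4,3,2,4,3,2,4,3,2,4,3,2,4,3]],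
 [[1,6,3,5,2],[5,2,3,1,6],[3],[2,3,2,3,2],[1,3,1,3,1],[0,3,0],[4,3,4,3,4,3,4,3,4],[4,2,3,4,2,3,4,2],[1,4,3,1,4,3,1,4],[2,4,3,2,4,3,2,4,3,2,4,3,2,4],[4,0,4,0,4,0,4,0,3,0,4,0,4,0,4,0,4],[1,3,4,0,4,3,4,0,4,0,2,2,3,4,0,4,3,1,3,4,0,4],[4,3,1,6,3,4,0,4,3,4,0,4,5,2,4,0,3,1,4,0],[1,4,0,3,4,3,1,6,3,4,0,4,3,4,0,4,5,2,4,0],[1,6,3,4,0,4,3,4,0,4,5,2,4,0,3,1,4,0,3,4],[4,0,4,3,2,3,4,0,4,3,2,3,4,0,4,3,1,1,0,4,0,4],[1,3,4,0,4,3,1,3,4,0,4,3,4,0,4,0,2,2,3,4,0,4],[4,0,4,5,2,4,0,3,1,4,0,3,4,3,1,6,3,4,0,4],[4,1,3,4,1,3,4,1,3,4,1,3,4,1],[1,1,0,4,0,4,3,4,0,4,3,2,3,4,0,4,3,2,3,4,0,4],[1,4,1,3,1,4,1,3,1,4,1,3,1,4,1,3,1,4,1],[2,3,4,0,4,3,2,3,4,0,4,3,1,1,0,4,0,4,3,4,0,4],[0,4,2,3,0,4,1,6,4,0,4,3,4,0,4,3,5,2,3,4],[4,0,4,0,2,2,3,4,0,4,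3,1,3,4,0,4,3,1,3,4,0,4],[4,3,0,4,2,3,0,4,1,6,4,0,4,3,4,0,4,3,5,2],[4,0,4,3,5,2,3,4,3,0,4,2,3,0,4,1,6,4,0,4],[0,4,1,6,4,0,4,3,4,0,4,3,5,2,3,4,3,0,4,2],[5,2,3,4,3,0,4,2,3,0,4,1,6,4,0,4,3,4,0,4],[4,0,4,3,1,3,4,0,4,3,4,0,4,0,2,2,3,4,0,4,3,1],[0,4,0,4,0,4,0,4,3,4,0,4,0,4,0,4,0],[4,0,4,3,4,0,4,5,2,4,0,3,1,4,0,3,4,3,1,6],[4,0,4,3,2,3,4,0,4,3,1,1,0,4,0,4,3,4,0,4,3,2],[2,3,4,0,4,3,1,1,0,4,0,4,3,4,0,4,3,2,3,4,0,4],[4,0,4,3,4,0,4,0,2,2,3,4,0,4,3,1,3,4,0,4,3,1],[4,0,4,3,1,3,4,0,4,3,1,3,4,0,4,3,4,0,4,0,2,2]],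
 [[4],[3,1,4,3,1,4,3,1],[1,4,1],[2,4,2],[0,4,0,4,0,4,0,4,0,4,0,4,0,4,0],[5,4,6,4,5,4,6,4,5,4,6,4,5,4,1,6],[6,4,5,4,6,4,5,4,6,4,5,4,6,4,5,2],[0,4,5,4,0,4,5],[0,4,6,4,0,4,6],[5,4,6,4,5,4,6,4,5,2,4,6,4,5,4,6],[5,4,5,4,5,4,5,4,5,4,5,4,5,4,5,4,5,4,5],[5,4,0,4,5,4,0],[0,4,0,4,0,4,6,0,5],[0,4,0,4,6,0,5,4,0],[0,4,0,5,0,6,4,0,4,0],[2,3,4,2,3,4,2,3],[0,4,0,4,5,0,6,0,4,0],[0,4,0,4,0,4,0,3,0,4,0,4,0,4,0,4,3],[0,4,0,4,0,5,0,6,4,0],[3,4,3,4,3,4,3,4,3],[1,6,4,5,4,6,4,5,4,6,4,5,4,6,4,5],[0,5,0,6,4,0,4,0,4,0],[0,4,6,0,5,4,0,4,0],[5,4,1,6,4,5,4,6,4,5,4,6,4,5,4,6],[5,4,6,4,5,4,6,4,5,4,1,6,4,5,4,6],[6,4,6,4,6,4,6,4,6,4,6,4,6,4,6,4,6,4,6],[5,4,6,4,5,4,6,4,5,4,6,4,5,2,4,6],[0,4,5,0,6,0,4,0,4,0],[0,4,0,4,0,1,0,4,0,4,0,4,0,4,2,4,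0],[6,0,5,4,0,4,0,4,0],[0,4,0,4,0,4,0,5,0,6],[6,4,0,4,6,4,0],[0,4,0,4,3,4,0,4,0,4,0,4,0,3,0,4,0],[5,0,6,0,4,0,4,0,4,0],[3,0,4,2,3,0,4,1,6,4,0,4,3,4,0,4,3,5,2,3],[0,3,0,4,0,4,0,4,0,4,3,4,0,4,0,4,0],[0,2,0,4,0,4,0,4,0,4,1,4,0,4,0,4,0],[3,2,4,3,2,4,3,2,4,3,2,4,3,2],[0,4,0,4,0,4,5,0,6,0],[3,1,1,0,4,0,4,3,4,0,4,3,2,3,4,0,4,3,2,3,4,0],[6,4,5,4,6,4,5,4,6,4,5,4,1,6,4,5],[3,4,0,4,0,4,0,4,0,3,0,4,0,4,0,4,0],[0,4,0,4,0,4,3,4,0,4,0,4,0,4,0,3,0],[6,4,5,4,6,4,5,4,6,4,5,2,4,6,4,5],[6,4,5,4,6,4,5,2,4,6,4,5,4,6,4,5],[5,2,4,6,4,5,4,6,4,5,4,6,4,5,4,6],[6,4,5,4,6,4,5,4,1,6,4,5,4,6,4,5],[6,4,5,4,1,6,4,5,4,6,4,5,4,6,4,5],[6,4,5,2,4,6,4,5,4,6,4,5,4,6,4,5],[0,4,3,4,0,4,0,2,2,3,4,0,4,3,1,3,4,0,4,3,1,3],[0,4,5,2,4,0,3,1,4,0,3,4,3,1,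6,3,4,0,4,3],[0,4,3,1,1,0,4,0,4,3,4,0,4,3,2,3,4,0,4,3,2,3],[0,4,0,2,2,3,4,0,4,3,1,3,4,0,4,3,1,3,4,0,4,3],[0,3,1,4,0,3,4,3,1,6,3,4,0,4,3,4,0,4,5,2],[0,4,3,5,2,3,4,3,0,4,2,3,0,4,1,6,4,0,4,3],[3,4,0,4,5,2,4,0,3,1,4,0,3,4,3,1,6,3,4,0],[3,1,6,3,4,0,4,3,4,0,4,5,2,4,0,3,1,4,0,3],[3,1,3,4,0,4,3,1,3,4,0,4,3,4,0,4,0,2,2,3,4,0],[0,4,3,4,0,4,5,2,4,0,3,1,4,0,3,4,3,1,6,3],[5,4,6,4,5,2,4,6,4,5,4,6,4,5,4,6],[3,2,3,4,0,4,3,1,1,0,4,0,4,3,4,0,4,3,2,3,4,0],[0,2,2,3,4,0,4,3,1,3,4,0,4,3,1,3,4,0,4,3,4,0],[0,3,4,3,1,6,3,4,0,4,3,4,0,4,5,2,4,0,3,1],[0,4,0,4,0,3,0,4,0,4,0,4,0,4,3,4,0],[3,1,3,4,0,4,3,4,0,4,0,2,2,3,4,0,4,3,1,3,4,0],[0,4,3,1,3,4,0,4,3,1,3,4,0,4,3,4,0,4,0,2,2,3],[0,4,3,2,3,4,0,4,3,2,3,4,0,4,3,1,1,0,4,0,4,3],[5,4,6,4,5,4,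1,6,4,5,4,6,4,5,4,6],[0,4,3,4,0,4,0,4,0,4,0,3,0,4,0,4,0],[0,4,3,2,3,4,0,4,3,1,1,0,4,0,4,3,4,0,4,3,2,3],[3,4,0,4,0,2,2,3,4,0,4,3,1,3,4,0,4,3,1,3,4,0],[3,2,3,4,0,4,3,2,3,4,0,4,3,1,1,0,4,0,4,3,4,0],[1,6,4,0,4,3,4,0,4,3,5,2,3,4,3,0,4,2,3,0],[1,3,4,1,3,4,1,3,4,1,3,4,1,3],[0,4,2,4,0,4,0,4,0,4,0,1,0,4,0,4,0],[3,4,0,4,3,5,2,3,4,3,0,4,2,3,0,4,1,6,4,0],[0,1,0,4,0,4,0,4,0,4,2,4,0,4,0,4,0],[3,5,2,3,4,3,0,4,2,3,0,4,1,6,4,0,4,3,4,0],[0,4,3,1,3,4,0,4,3,4,0,4,0,2,2,3,4,0,4,3,1,3],[5,2,4,0,3,1,4,0,3,4,3,1,6,3,4,0,4,3,4,0],[0,4,3,4,0,4,3,5,2,3,4,3,0,4,2,3,0,4,1,6],[0,4,3,4,0,4,3,2,3,4,0,4,3,2,3,4,0,4,3,1,1,0],[0,4,0,3,0,4,0,4,0,4,0,4,3,4,0,4,0],[0,4,0,4,1,4,0,4,0,4,0,4,0,2,0,4,0],[2,3,0,4,1,6,4,0,4,3,4,0,4,3,5,2,3,4,3,0],[2,3,2,4,2,3,2,4,2,3,2,4,2,3,2,4,2,3,2],[0,4,1,4,0,4,0,4,0,4,0,2,0,4,0,4,0],[3,4,0,4,3,2,3,4,0,4,3,2,3,4,0,4,3,1,1,0,4,0]],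
 [[6],[5,5],[1,6,2],[2,3,1,6,3],[4,0,4,0,4,0,4,6,0],[2,6,1],[0,6,0,4,0,4,0,4,0,4],[0,6,4,0,4,0,4,0,4,0],[4,5,4,5,4,5,4,5,4,5,4,5,4,5,4,5,4,5,4],[4,6,4,5,2,4,6,4,5,4,6,4,5,4,6,4],[4,0,4,5,4,0,4],[2,4,6,4,5,4,6,4,5,4,6,4,5,4,6,4],[4,6,4,5,4,6,4,5,2,4,6,4,5,4,6,4],[4,6,4,5,4,6,4,5,4,1,6,4,5,4,6,4],[4,6,4,5,4,6,4,5,4,6,4,5,2,4,6,4],[4,1,6,4,5,4,6,4,5,4,6,4,5,4,6,4],[4,6,4,5,4,6,4,5,4,6,4,5,4,1,6,4],[4,6,4,5,4,1,6,4,5,4,6,4,5,4,6,4],[2,4,0,3,1,4,0,3,4,3,1,6,3,4,0,4,3,4,0,4]],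
 [[5],[6,6],[0,5,4,0,4,0,4,0,4],[0,4,0,4,0,4,0,4,5,0],[2,5,1],[3,5,2,3,1],[1,5,2],[4,0,4,0,4,0,4,0,5,0],[4,5,4,6,4,5,4,6,4,5,4,6,4,5,4,1],[4,5,2,4,6,4,5,4,6,4,5,4,6,4,5,4],[4,0,4,6,4,0,4],[4,6,4,6,4,6,4,6,4,6,4,6,4,6,4,6,4,6,4],[4,5,4,6,4,5,4,6,4,5,4,6,4,5,2,4],[4,5,4,1,6,4,5,4,6,4,5,4,6,4,5,4],[4,5,4,6,4,5,4,6,4,5,2,4,6,4,5,4],[4,5,4,6,4,5,2,4,6,4,5,4,6,4,5,4],[3,4,0,4,3,4,0,4,5,2,4,0,3,1,4,0,3,4,3,1],[4,0,4,3,4,0,4,3,5,2,3,4,3,0,4,2,3,0,4,1],[4,5,4,6,4,5,4,6,4,5,4,1,6,4,5,4],[4,5,4,6,4,5,4,1,6,4,5,4,6,4,5,4]]]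
def HA : List (List (Nat × Bool × Nat)) := [[(23,false,0),(20,false,8),(25,true,1),(1,false,0),(13,false,1),(12,false,3),(12,false,1),(23,true,10),(25,false,2),(20,false,5),(23,true,3),(23,false,3),(20,false,1),(14,false,1),(23,true,1),(20,false,3),(15,true,14),(23,false,7),(23,true,7),(23,true,5),(16,false,11),(16,false,13),(16,false,15),(15,true,4),(23,false,5),(15,true,6),(15,false,3),(24,true,18),(23,false,9),(16,false,3),(24,true,2),(24,false,14),(16,false,7),(15,true,12),(18,true,18),(18,false,4),(18,false,16),(24,false,6),(15,false,5),(24,true,14),(24,true,6),(18,false,10),(18,true,12),(18,true,6),(15,true,10),(15,false,7),(24,false,2),(18,true,2),(16,false,5),(15,false,13),(15,false,15),(15,false,11),(24,false,18),(15,true,2),(18,true,0),(18,false,22),(16,false,1)],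
 [(4,false,1),(21,false,2),(8,false,1),(12,false,2),(0,false,0),(22,false,2),(21,true,3),(9,false,2),(6,false,1),(24,false,4),(24,true,20),(18,false,13),(10,false,2),(24,false,10)],
 [(4,false,0),(21,false,0),(0,true,0),(8,true,0),(21,true,1),(22,false,0),(12,false,0),(6,true,0),(9,true,0),(24,true,16),(18,true,9),(24,false,0),(18,true,15),(10,true,0)],
 [(22,false,1),(22,false,4),(2,false,0),(6,true,1),(6,false,0),(13,false,0),(7,false,1),(9,true,1),(9,false,1),(10,true,2),(16,false,9),(18,false,12),(24,false,7),(24,false,3),(24,false,9),(18,true,4),(18,false,6),(24,false,16),(10,false,0),(18,true,20),(11,false,2),(18,true,8),(24,true,13),(18,false,18),(24,true,11),(24,true,4),(24,true,17),(24,true,8),(18,false,8),(16,false,0),(24,false,12),(18,true,10),(18,true,14),(18,false,14),(18,false,2)],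
 [(3,false,0),(9,false,0),(8,false,0),(8,true,1),(14,false,0),(27,true,1),(27,false,1),(25,false,1),(25,true,0),(27,false,7),(26,false,0),(25,false,3),(20,false,0),(20,false,2),(23,false,6),(9,true,2),(23,true,4),(16,false,10),(23,false,4),(7,false,0),(27,true,15),(23,false,8),(20,false,4),(27,true,13),(27,true,5),(26,true,1),(27,false,3),(23,true,6),(15,true,11),(20,false,6),(23,false,2),(25,true,2),(16,false,4),(23,true,8),(24,true,12),(16,false,16),(15,false,16),(10,true,1),(23,true,2),(18,true,19),(27,true,3),(16,false,8),(16,false,2),(27,false,5),(27,false,9),(27,false,15),(27,true,7),(27,true,11),(27,false,13),(18,false,15),(24,false,17),(18,true,17),(18,false,19),(24,false,1),(24,true,5),(24,false,1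5),(24,false,8),(18,false,5),(24,false,13),(27,false,11),(18,true,13),(18,false,21),(24,false,5),(16,false,12),(18,false,11),(18,false,3),(18,true,5),(27,true,9),(16,false,6),(18,true,11),(18,false,17),(18,true,7),(24,true,19),(10,false,1),(15,true,5),(24,true,3),(15,true,15),(24,true,7),(18,false,9),(24,false,19),(24,true,1),(18,true,1),(16,false,14),(15,false,4),(24,true,15),(11,true,3),(15,false,6),(18,true,3)],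
 [(5,false,1),(19,false,0),(21,true,2),(22,false,5),(20,false,9),(21,false,3),(23,true,9),(23,false,10),(26,false,1),(27,false,12),(25,false,0),(27,false,16),(27,false,8),(27,true,6),(27,false,4),(27,true,14),(27,true,2),(27,true,10),(24,false,20)],
 [(5,false,0),(19,true,0),(20,false,7),(23,true,0),(21,true,0),(22,false,3),(21,false,1),(23,false,1),(27,true,0),(27,false,14),(25,true,3),(26,true,0),(27,false,2),(27,true,12),(27,false,6),(27,false,10),(24,false,11),(24,true,0),(27,true,4),(27,true,8)]]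
def WE : List (List Nat) := [[6,0,4,0,4,0,4,0,4,5,0],
 [0,1,0,2],
 [0,6,0,4,0,4,0,4,0,4,5],
 [0,5,4,0,4,0,4,0,4,6],
 [3,4,2,3,4,2,3,4,2],
 [0,3,0,3],
 [3,3],
 [2,4,0,3,1,4,0,3,4,3,1,6,3,4,0,4,3,4,0,4,5],
 [0,0],
 [1,2],
 [4,4],
 [3,5,2,3,1,6],
 [0,2,0,1],
 [1,0,2,0],
 [2,0,1,0],
 [6,4,0,4,0,4,0,4,0,5,0],
 [5,4,0,4,0,4,0,4,6,0],
 [0,6,4,0,4,0,4,0,4,0,5],
 [2,5,1,6],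
 [3,1,6,3,5,2],
 [5,2,3,1,6,3],
 [4,5,4,5,4,5,4,5,4,5,4,5,4,5,4,5,4,5,4,5],
 [6,4,6,4,6,4,6,4,6,4,6,4,6,4,6,4,6,4,6,4],
 [2,4,2,4],
 [4,6,4,5,4,6,4,5,4,6,4,5,2,4,6,4,5],
 [5,1,6,2],
 [1,4,1,4],
 [5,2,6,1],
 [3,1,4,3,1,4,3,1,4],
 [4,2,3,4,2,3,4,2,3],
 [4,3,1,4,3,1,4,3,1],
 [0,4,1,6,4,0,4,3,4,0,4,3,5,2,3,4,3,0,4,2,3],
 [3,4,3,1,6,3,4,0,4,3,4,0,4,5,2,4,0,3,1,4,0],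
 [5,4,0,4,5,4,0,4],
 [4,6,4,0,4,6,4,0],
 [2,1],
 [0,5,0,6,4,0,4,0,4,0,4],
 [0,4,5,4,0,4,5,4],
 [2,3,1,6,3,5],
 [6,2,5,1],
 [4,0,4,6,4,0,4,6],
 [6,3,5,2,3,1],
 [1,6,3,5,2,3],
 [3,0,3,0],
 [6,1,5,2],
 [1,1,1],
 [4,1,6,4,5,4,6,4,5,4,6,4,5,4,6,4,5],
 [1,5,2,6],
 [4,6,4,5,2,4,6,4,5,4,6,4,5,4,6,4,5],
 [5,4,5,4,5,4,5,4,5,4,5,4,5,4,5,4,5,4,5,4],
 [4,0,4,5,4,0,4,5],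
 [6,5],
 [5,6],
 [4,1,4,1],
 [0,4,6,4,0,4,6,4],
 [2,6,1,5],
 [6,6,6],
 [2,3,2,3,2,3],
 [3,1,3,1,3,1],
 [2,3,4,2,3,4,2,3,4],
 [5,2,4,0,3,1,4,0,3,4,3,1,6,3,4,0,4,3,4,0,4],
 [5,5,5],
 [1,3,1,3,1,3],
 [6,4,0,4,3,4,0,4,3,5,2,3,4,3,0,4,2,3,0,4,1],
 [4,0,4,5,2,4,0,3,1,4,0,3,4,3,1,6,3,4,0,4,3],
 [3,2,3,2,3,2],
 [4,0,3,1,4,0,3,4,3,1,6,3,4,0,4,3,4,0,4,5,2],
 [2,2,2],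
 [5,4,6,4,5,2,4,6,4,5,4,6,4,5,4,6,4],
 [3,4,0,4,0,4,0,4,0,3,0,4,0,4,0,4,0,4],
 [4,5,4,0,4,5,4,0],
 [4,6,4,5,4,6,4,5,4,1,6,4,5,4,6,4,5],
 [6,4,0,4,6,4,0,4],
 [4,0,4,0,5,0,6,4,0,4,0],
 [4,0,4,0,4,0,4,6,0,5],
 [1,4,3,1,4,3,1,4,3],
 [3,1,4,0,3,4,3,1,6,3,4,0,4,3,4,0,4,5,2,4,0],
 [4,2,4,2],
 [6,0,5,4,0,4,0,4,0,4],
 [4,1,6,4,0,4,3,4,0,4,3,5,2,3,4,3,0,4,2,3,0],
 [0,3,0,4,0,4,0,4,0,4,3,4,0,4,0,4,0,4],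
 [5,2,4,6,4,5,4,6,4,5,4,6,4,5,4,6,4],
 [4,6,0,5,4,0,4,0,4,0],
 [0,3,1,4,0,3,4,3,1,6,3,4,0,4,3,4,0,4,5,2,4],
 [6,4,5,2,4,6,4,5,4,6,4,5,4,6,4,5,4],
 [4,0,4,0,4,0,4,0,5,0,6],
 [5,0,6,4,0,4,0,4,0,4,0],
 [4,3,0,4,2,3,0,4,1,6,4,0,4,3,4,0,4,3,5,2,3],
 [1,6,2,5],
 [1,6,3,4,0,4,3,4,0,4,5,2,4,0,3,1,4,0,3,4,3],
 [4,0,4,3,4,0,4,3,5,2,3,4,3,0,4,2,3,0,4,1,6],
 [2,3,4,3,0,4,2,3,0,4,1,6,4,0,4,3,4,0,4,3,5],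
 [0,4,3,5,2,3,4,3,0,4,2,3,0,4,1,6,4,0,4,3,4],
 [4,0,4,0,4,0,4,3,4,0,4,0,4,0,4,0,3,0],
 [4,3,1,6,3,4,0,4,3,4,0,4,5,2,4,0,3,1,4,0,3],
 [0,4,0,4,0,4,0,4,5,0,6],
 [0,4,0,4,6,0,5,4,0,4],
 [3,0,4,0,4,0,4,0,4,3,4,0,4,0,4,0,4,0],
 [5,0,6,0,4,0,4,0,4,0,4],
 [6,3,4,0,4,3,4,0,4,5,2,4,0,3,1,4,0,3,4,3,1],
 [4,6,4,5,4,6,4,5,4,6,4,5,4,1,6,4,5],
 [3,1,6,3,4,0,4,3,4,0,4,5,2,4,0,3,1,4,0,3,4],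
 [3,0,4,1,6,4,0,4,3,4,0,4,3,5,2,3,4,3,0,4,2],
 [4,0,4,0,4,0,4,5,0,6,0],
 [5,4,6,4,5,4,6,4,5,2,4,6,4,5,4,6,4],
 [1,6,4,0,4,3,4,0,4,3,5,2,3,4,3,0,4,2,3,0,4],
 [4,6,4,6,4,6,4,6,4,6,4,6,4,6,4,6,4,6,4,6],
 [4,0,4,0,4,6,0,5,4,0],
 [4,5,4,6,4,5,4,6,4,5,4,1,6,4,5,4,6],
 [4,6,4,5,4,6,4,5,2,4,6,4,5,4,6,4,5],
 [4,5,4,6,4,5,4,6,4,5,4,6,4,5,2,4,6],
 [5,4,6,4,5,4,1,6,4,5,4,6,4,5,4,6,4],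
 [6,4,5,4,6,4,5,4,6,4,5,4,6,4,5,2,4],
 [4,5,2,4,6,4,5,4,6,4,5,4,6,4,5,4,6],
 [0,4,0,4,0,4,6,0,5,4],
 [4,5,0,6,0,4,0,4,0,4,0],
 [5,4,6,4,5,4,6,4,5,4,6,4,5,2,4,6,4],
 [4,5,4,6,4,5,4,6,4,5,2,4,6,4,5,4,6],
 [3,5,2,3,4,3,0,4,2,3,0,4,1,6,4,0,4,3,4,0,4],
 [4,5,4,6,4,5,2,4,6,4,5,4,6,4,5,4,6],
 [0,4,0,4,0,4,0,5,0,6,4],
 [4,5,4,6,4,5,4,1,6,4,5,4,6,4,5,4,6],
 [4,0,4,6,0,5,4,0,4,0],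
 [3,0,4,2,3,0,4,1,6,4,0,4,3,4,0,4,3,5,2,3,4],
 [2,4,3,2,4,3,2,4,3,2,4,3,2,4,3],
 [0,4,0,5,0,6,4,0,4,0,4],
 [0,4,2,3,0,4,1,6,4,0,4,3,4,0,4,3,5,2,3,4,3],
 [4,5,2,4,0,3,1,4,0,3,4,3,1,6,3,4,0,4,3,4,0],
 [6,4,5,4,1,6,4,5,4,6,4,5,4,6,4,5,4],
 [1,4,0,3,4,3,1,6,3,4,0,4,3,4,0,4,5,2,4,0,3],
 [4,0,4,0,4,0,4,0,3,0,4,0,4,0,4,0,4,3],
 [4,5,4,1,6,4,5,4,6,4,5,4,6,4,5,4,6],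
 [6,4,5,4,6,4,5,4,6,4,5,2,4,6,4,5,4],
 [0,4,0,4,0,4,0,4,3,4,0,4,0,4,0,4,0,3],
 [3,4,3,0,4,2,3,0,4,1,6,4,0,4,3,4,0,4,3,5,2],
 [2,4,6,4,5,4,6,4,5,4,6,4,5,4,6,4,5],
 [6,4,5,4,6,4,5,2,4,6,4,5,4,6,4,5,4],
 [6,4,5,4,6,4,5,4,6,4,5,4,1,6,4,5,4],
 [0,4,6,0,5,4,0,4,0,4],
 [4,3,4,3,4,3,4,3,4,3],
 [0,4,5,0,6,0,4,0,4,0,4],
 [4,3,2,4,3,2,4,3,2,4,3,2,4,3,2],
 [0,4,0,4,0,4,5,0,6,0,4],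
 [3,4,3,4,3,4,3,4,3,4],
 [4,0,4,0,4,0,5,0,6,4,0],
 [0,1,0,4,0,4,0,4,0,4,2,4,0,4,0,4,0,4],
 [6,4,5,4,6,4,5,4,6,4,5,4,6,4,5,4,1],
 [4,0,4,0,4,5,0,6,0,4,0],
 [4,0,5,0,6,4,0,4,0,4,0],
 [4,0,4,1,4,0,4,0,4,0,4,0,2,0,4,0,4,0],
 [4,0,4,5,0,6,0,4,0,4,0],
 [1,0,4,0,4,0,4,0,4,2,4,0,4,0,4,0,4,0],
 [4,0,4,0,4,0,4,0,4,0,4,0,4,0,4,0],
 [4,0,4,0,4,0,4,0,1,0,4,0,4,0,4,0,4,2],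
 [0,4,0,4,0,4,0,4,1,4,0,4,0,4,0,4,0,2],
 [4,3,4,0,4,0,4,0,4,0,3,0,4,0,4,0,4,0],
 [0,4,0,4,5,0,6,0,4,0,4],
 [0,4,3,4,0,4,0,4,0,4,0,3,0,4,0,4,0,4],
 [3,4,0,4,3,5,2,3,4,3,0,4,2,3,0,4,1,6,4,0,4],
 [4,0,4,0,3,0,4,0,4,0,4,0,4,3,4,0,4,0],
 [1,3,4,1,3,4,1,3,4,1,3,4,1,3,4],
 [4,3,4,0,4,0,2,2,3,4,0,4,3,1,3,4,0,4,3,1,3,4,0],
 [4,0,4,0,4,0,4,0,2,0,4,0,4,0,4,0,4,1],
 [0,4,0,4,0,4,0,4,0,4,0,4,0,4,0,4],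
 [4,1,3,4,1,3,4,1,3,4,1,3,4,1,3],
 [0,4,0,4,0,5,0,6,4,0,4],
 [4,0,4,0,4,0,4,1,4,0,4,0,4,0,4,0,2,0],
 [2,0,4,0,4,0,4,0,4,1,4,0,4,0,4,0,4,0],
 [0,2,0,4,0,4,0,4,0,4,1,4,0,4,0,4,0,4],
 [0,4,0,2,0,4,0,4,0,4,0,4,1,4,0,4,0,4],
 [4,0,4,0,2,0,4,0,4,0,4,0,4,1,4,0,4,0],
 [2,4,0,4,0,4,0,4,0,1,0,4,0,4,0,4,0,4],
 [1,0,4,0,4,3,4,0,4,3,2,3,4,0,4,3,2,3,4,0,4,3,1],
 [0,4,0,4,3,4,0,4,0,4,0,4,0,3,0,4,0,4],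
 [4,2,3,0,4,1,6,4,0,4,3,4,0,4,3,5,2,3,4,3,0],
 [0,4,0,4,0,4,0,1,0,4,0,4,0,4,0,4,2,4],
 [4,0,4,0,4,0,4,2,4,0,4,0,4,0,4,0,1,0],
 [3,1,4,1,3,1,4,1,3,1,4,1,3,1,4,1,3,1,4,1],
 [0,4,0,4,0,4,2,4,0,4,0,4,0,4,0,1,0,4],
 [0,4,0,4,3,4,0,4,3,2,3,4,0,4,3,2,3,4,0,4,3,1,1],
 [0,4,0,4,0,2,0,4,0,4,0,4,0,4,1,4,0,4],
 [1,1,0,4,0,4,3,4,0,4,3,2,3,4,0,4,3,2,3,4,0,4,3],
 [4,6,4,5,4,6,4,5,4,6,4,5,4,6,4,5,2],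
 [0,4,0,4,0,4,3,4,0,4,0,4,0,4,0,3,0,4],
 [1,6,4,5,4,6,4,5,4,6,4,5,4,6,4,5,4],
 [3,4,1,3,4,1,3,4,1,3,4,1,3,4,1],
 [1,4,0,4,0,4,0,4,0,2,0,4,0,4,0,4,0,4],
 [0,4,1,4,0,4,0,4,0,4,0,2,0,4,0,4,0,4],
 [4,3,1,3,4,0,4,3,1,3,4,0,4,3,4,0,4,0,2,2,3,4,0],
 [2,3,2,4,2,3,2,4,2,3,2,4,2,3,2,4,2,3,2,4],
 [0,4,3,1,3,4,0,4,3,1,3,4,0,4,3,4,0,4,0,2,2,3,4],
 [3,4,0,4,5,2,4,0,3,1,4,0,3,4,3,1,6,3,4,0,4],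
 [3,2,3,4,0,4,3,1,1,0,4,0,4,3,4,0,4,3,2,3,4,0,4],
 [0,4,0,3,0,4,0,4,0,4,0,4,3,4,0,4,0,4],
 [4,1,4,0,4,0,4,0,4,0,2,0,4,0,4,0,4,0],
 [0,4,0,4,0,4,1,4,0,4,0,4,0,4,0,2,0,4],
 [4,5,4,6,4,5,4,6,4,5,4,6,4,5,4,1,6],
 [0,4,0,4,0,3,0,4,0,4,0,4,0,4,3,4,0,4],
 [0,4,0,4,0,4,0,3,0,4,0,4,0,4,0,4,3,4],
 [3,1,3,4,0,4,3,1,3,4,0,4,3,4,0,4,0,2,2,3,4,0,4],
 [4,0,2,0,4,0,4,0,4,0,4,1,4,0,4,0,4,0],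
 [3,4,0,4,3,4,0,4,5,2,4,0,3,1,4,0,3,4,3,1,6],
 [4,0,3,4,3,1,6,3,4,0,4,3,4,0,4,5,2,4,0,3,1],
 [0,3,4,3,1,6,3,4,0,4,3,4,0,4,5,2,4,0,3,1,4],
 [4,0,4,0,4,1,4,0,4,0,4,0,4,0,2,0,4,0],
 [2,3,4,0,4,3,1,1,0,4,0,4,3,4,0,4,3,2,3,4,0,4,3],
 [0,4,5,2,4,0,3,1,4,0,3,4,3,1,6,3,4,0,4,3,4],
 [2,2,3,4,0,4,3,1,3,4,0,4,3,1,3,4,0,4,3,4,0,4,0],
 [2,3,4,0,4,3,1,3,4,0,4,3,1,3,4,0,4,3,4,0,4,0,2],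
 [4,0,3,0,4,0,4,0,4,0,4,3,4,0,4,0,4,0],
 [4,2,3,2,4,2,3,2,4,2,3,2,4,2,3,2,4,2,3,2],
 [4,2,4,0,4,0,4,0,4,0,1,0,4,0,4,0,4,0],
 [4,0,4,3,4,0,4,0,4,0,4,0,3,0,4,0,4,0],
 [4,0,4,0,2,2,3,4,0,4,3,1,3,4,0,4,3,1,3,4,0,4,3],
 [1,3,1,4,1,3,1,4,1,3,1,4,1,3,1,4,1,3,1,4],
 [0,4,2,4,0,4,0,4,0,4,0,1,0,4,0,4,0,4],
 [4,0,4,2,4,0,4,0,4,0,4,0,1,0,4,0,4,0],
 [2,3,0,4,1,6,4,0,4,3,4,0,4,3,5,2,3,4,3,0,4],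
 [0,4,0,4,0,1,0,4,0,4,0,4,0,4,2,4,0,4],
 [0,2,2,3,4,0,4,3,1,3,4,0,4,3,1,3,4,0,4,3,4,0,4],
 [3,2,4,3,2,4,3,2,4,3,2,4,3,2,4],
 [0,4,0,4,2,4,0,4,0,4,0,4,0,1,0,4,0,4],
 [0,4,0,1,0,4,0,4,0,4,0,4,2,4,0,4,0,4],
 [4,0,2,2,3,4,0,4,3,1,3,4,0,4,3,1,3,4,0,4,3,4,0],
 [4,1,3,1,4,1,3,1,4,1,3,1,4,1,3,1,4,1,3,1],
 [4,3,1,3,4,0,4,3,4,0,4,0,2,2,3,4,0,4,3,1,3,4,0],
 [0,4,3,4,0,4,3,5,2,3,4,3,0,4,2,3,0,4,1,6,4]]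
def HE : List (Nat × Bool × Nat) := [(23,true,0),(12,false,1),(23,true,10),(20,false,8),(9,true,1),(13,false,1),(2,false,0),(24,false,0),(1,false,0),(4,false,1),(3,false,0),(22,false,4),(12,false,3),(12,false,2),(12,false,0),(23,false,1),(20,false,9),(23,false,0),(21,true,1),(22,false,1),(22,false,5),(26,false,0),(26,true,0),(8,true,0),(27,false,5),(21,true,2),(8,false,1),(21,false,3),(9,false,1),(9,true,2),(9,false,0),(24,true,18),(24,false,7),(25,false,0),(25,true,2),(4,false,0),(23,false,9),(25,false,2),(22,false,0),(21,true,0),(25,true,0),(22,false,3),(22,false,2),(13,false,0),(21,false,1),(0,false,0),(27,true,15),(21,false,2),(27,false,13),(26,false,1),(25,false,1),(5,false,0),(5,false,1),(8,false,0),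(25,true,1),(21,false,0),(19,true,0),(6,true,0),(6,false,0),(9,true,0),(24,false,20),(19,false,0),(6,false,1),(24,true,0),(24,false,17),(6,true,1),(24,false,1),(0,true,0),(27,false,12),(16,false,9),(25,false,3),(27,true,7),(25,true,3),(23,false,6),(20,false,0),(9,false,2),(24,false,3),(8,true,1),(20,false,7),(24,true,19),(16,false,17),(27,false,16),(20,false,6),(24,false,2),(27,false,14),(23,false,2),(23,false,10),(24,true,12),(21,true,3),(24,false,10),(24,true,1),(24,true,10),(24,true,6),(16,false,2),(24,false,8),(23,true,1),(20,false,3),(16,false,0),(23,true,9),(24,false,11),(27,true,3),(24,false,9),(24,true,17),(23,true,2),(27,false,8),(24,true,20),(26,true,1),(20,false,2),(27,true,5),(27,false,9),(27,fa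lse,3),(27,true,10),(27,false,2),(27,false,15),(20,false,1),(23,true,8),(27,false,4),(27,false,7),(24,true,8),(27,false,11),(23,false,3),(27,true,9),(20,false,4),(24,true,13),(10,true,0),(23,false,7),(24,true,14),(24,false,19),(27,true,12),(24,false,4),(16,false,10),(27,true,13),(27,false,6),(16,false,1),(24,true,11),(27,false,0),(27,false,10),(27,true,4),(20,false,5),(7,false,0),(23,true,7),(10,true,1),(23,true,3),(7,false,1),(23,false,4),(15,true,16),(27,true,0),(23,true,4),(23,false,8),(15,false,6),(23,true,6),(15,true,17),(14,false,0),(15,true,9),(15,false,1),(16,false,8),(23,true,5),(16,false,7),(24,true,4),(16,false,14),(10,false,2),(18,false,17),(15,false,10),(14,false,1),(10,false,1),(23,false,5),(1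5,false,2),(15,false,0),(15,false,17),(15,false,15),(15,false,14),(15,true,8),(18,true,22),(16,false,5),(24,true,15),(15,true,10),(15,true,1),(11,false,2),(15,true,2),(18,true,0),(15,false,13),(18,true,21),(27,false,1),(16,false,3),(27,true,16),(10,false,0),(15,false,9),(15,false,7),(18,false,5),(11,true,0),(18,false,4),(24,false,16),(18,true,14),(16,false,15),(15,false,8),(15,false,3),(27,true,1),(16,false,13),(16,false,11),(18,false,6),(15,false,16),(24,false,12),(24,false,5),(24,false,6),(15,false,4),(18,true,15),(24,false,18),(18,false,0),(18,false,1),(16,false,16),(11,true,3),(15,true,7),(16,false,6),(18,false,19),(11,false,1),(15,true,6),(15,true,5),(24,true,16),(15,true,12),(18,false,22),(10,true,2),(15,true,4),(15,true,14),(18,false,21),(11,false,0),(18,false,11),(24,true,2)]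
def subs : List (List Nat × Nat × List Nat) := [([],0,[]),([],1,[]),([],3,[]),([],4,[])]
def subE : List (List Nat × List Nat) := []
end H58.J3J1x
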