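import Mathlib
import Cfsg.Agent.Lib.H58.J3E
import Cfsg.Agent.Lib.H58.J3N3
import Cfsg.Agent.Lib.H58.J3N4
import Cfsg.Agent.Lib.H58.J3J2x
import Cfsg.Agent.Lib.H58.J3J0D
import Cfsg.Agent.Lib.H58.J3J1xD

/-! Letters and relations (helper58). -/

set_option autoImplicit false
set_option linter.style.haveILetI false
set_option maxRecDepth 100000
set_option linter.unusedSectionVars false

namespace H58.J3B

open H58.J2A H58.J2B H58.J2C Subgroup

variable {G : Type*} [Group G] {ι : W →* G} {z ρ : G}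

def lW : ℕ → W
  | 0 => wk 1
  | 1 => wk 32
  | 2 => wk 64
  | 3 => wk 96
  | 4 => wk 416
  | _ => 1

def el (ι : W →* G) (ρ : G) : ℕ → G
  | 0 => ι (wk 1)
  | 1 => ι (wk 32)
  | 2 => ι (wk 64)
  | 3 => ι (wk 96)
  | 4 => ι (wk 416)
  | 5 => ρ
  | 6 => ρ⁻¹
  | _ => 1

theorem el_lW {g : ℕ} (hg : g < 5) : el ι ρ g = ι (lW g) := by
  interval_cases g <;> rfl

def pW (u : List ℕ) : W := (u.map lW).prod

theorem el_word {u : List ℕ} (hu : ∀ g ∈ u, g < 5) : (u.map (el ι ρ)).prod = ι (pW u) := by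
  unfold pW
  rw [map_list_prod, List.map_map]
  congr 1
  exact List.map_congr_left fun g hg => el_lW (hu g hg)

def baseM : List (List ℕ) := J3N3.base.take 5 ++ (J3N3.base.drop 6).take 13
def baseC : List (List ℕ) := J3N3.base.take 26

theorem bM_lt : ∀ r ∈ baseM, ∀ g ∈ r, g < 5 := by decide +kernel
theorem bM_ok : ∀ r ∈ baseM, pW r = 1 := by decide +kernel
theorem bC_eq : ∀ r ∈ baseC, r ∈ baseM ∨ r ∈ [[5,6], [5,5,5], [5,0,6,4,0,4,0,4,0,4], [5,1,6,2], [5,3,6,1,3,2], [5,0,4,0,4,0,4,0,4,6,0],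
    [5,4,0,4,3,4,0,4,3,6,1,3,4,3,0,4,1,3,0,4,2], [4,0,4,5,4,0,4,5]] := by decide +kernel

theorem conj_word {u v : List ℕ} (hu : ∀ g ∈ u, g < 5) (hv : ∀ g ∈ v, g < 5) {c : W} (h : ρ * ι (pW u) = ι c * ρ) (hc : c * pW v = 1) :
    ((5 :: (u ++ 6 :: v)).map (el ι ρ)).prod = 1 := by
  simp only [List.map_cons, List.map_append, List.prod_cons, List.prod_append]
  rw [el_word hu, el_word hv]
  change ρ * (ι (pW u) * (ρ⁻¹ * ι (pW v))) = 1
  calc ρ * (ι (pW u) * (ρ⁻¹ * ι (pW v))) = (ρ * ι (pW u)) * ρ⁻¹ * ι (pW v) := by group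
    _ = ι (c * pW v) := by rw [h, map_mul]; group
    _ = 1 := by rw [hc, map_one]

theorem RJ.baseC_ok (r : RJ ι ρ) : ∀ s ∈ baseC, (s.map (el ι ρ)).prod = 1 := by
  intro s hs
  rcases bC_eq s hs with h1 | h1
  · rw [el_word (bM_lt s h1), bM_ok s h1, map_one]
  · simp only [List.mem_cons, List.not_mem_nil, or_false] at h1
    rcases h1 with rfl | rfl | rfl | rfl | rfl | rfl | rfl | rfl
    · change ρ * (ρ⁻¹ * 1) = 1
      group
    · change ρ * (ρ * (ρ * 1)) = 1
      rw [mul_one, ← mul_assoc]; exact r.r3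
    · exact conj_word (u := [0]) (v := [4,0,4,0,4,0,4]) (by decide) (by decide) (c := wk 17)
        (by rw [show pW [0] = wk 1 by decide +kernel]; exact r.re) (by decide +kernel)
    · exact conj_word (u := [1]) (v := [2]) (by decide) (by decide) (c := wk 32)
        (by rw [show pW [1] = wk 32 by decide +kernel]; exact r.rd) (by decide +kernel)
    · exact conj_word (u := [3]) (v := [1,3,2]) (by decide) (by decide) (c := wk 256)
        (by rw [show pW [3] = wk 96 by decide +kernel]; exact r.rb) (by decide +kernel)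
    · exact conj_word (u := [0,4,0,4,0,4,0,4]) (v := [0]) (by decide) (by decide) (c := wk 1)
        (by rw [show pW [0,4,0,4,0,4,0,4] = wk 16 by decide +kernel]; exact r.rz) (by decide +kernel)
    · exact conj_word (u := [4,0,4,3,4,0,4,3]) (v := [1,3,4,3,0,4,1,3,0,4,2]) (by decide) (by decide) (c := wk 125)
        (by rw [show pW [4,0,4,3,4,0,4,3] = wk 6 by decide +kernel]; exact r.rq) (by decide +kernel)
    · have h2 : ι (wk 416) * ι (wk 1) * ι (wk 416) = ι (wk 2) := by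
        rw [← map_mul, ← map_mul]; congr 1
      change ι (wk 416) * (ι (wk 1) * (ι (wk 416) * (ρ * (ι (wk 416) * (ι (wk 1) * (ι (wk 416) * (ρ * 1))))))) = 1
      calc ι (wk 416) * (ι (wk 1) * (ι (wk 416) * (ρ * (ι (wk 416) * (ι (wk 1) * (ι (wk 416) * (ρ * 1)))))))
          = (ι (wk 416) * ι (wk 1) * ι (wk 416)) * ρ * ((ι (wk 416) * ι (wk 1) * ι (wk 416)) * ρ) := by group
        _ = 1 := by rw [h2]; exact r.r1

theorem s_inv (ι : W →* G) : (ι (wk 416))⁻¹ = ι (wk 416) := by rw [← map_inv, tabS.2.2.2.2.2.2.2]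

theorem pow_rs (ι : W →* G) (ρ : G) (n : ℕ) : (((List.replicate n [5,4,5,4]).flatten).map (el ι ρ)).prod = (ρ * rp ι ρ) ^ n := by
  induction n with
  | zero => simp
  | succ n ih =>
    rw [List.replicate_succ, List.flatten_cons, List.map_append, List.prod_append, ih, pow_succ']
    congr 1
    change ρ * (ι (wk 416) * (ρ * (ι (wk 416) * 1))) = _
    unfold rp
    rw [s_inv]; group

theorem pow_rS (ι : W →* G) (ρ : G) (n : ℕ) : (((List.replicate n [5,4,6,4]).flatten).map (el ι ρ)).prod = (ρ * (rp ι ρ)⁻¹) ^ n := by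
  induction n with
  | zero => simp
  | succ n ih =>
    rw [List.replicate_succ, List.flatten_cons, List.map_append, List.prod_append, ih, pow_succ']
    congr 1
    change ρ * (ι (wk 416) * (ρ⁻¹ * (ι (wk 416) * 1))) = _
    unfold rp
    rw [mul_inv_rev, mul_inv_rev, inv_inv, s_inv]; group

theorem bN3 : J3N3.base = baseC ++ [(List.replicate 3 [5,4,5,4]).flatten] := by decide +kernel
theorem bN4 : J3N4.base = baseC ++ [(List.replicate 4 [5,4,5,4]).flatten] := by decide +kernel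
theorem bJ0 : J3J0.base = baseC ++ [(List.replicate 5 [5,4,5,4]).flatten, (List.replicate 4 [5,4,6,4]).flatten] := by decide +kernel
theorem bJ1 : J3J1x.base = baseC ++ [(List.replicate 5 [5,4,5,4]).flatten, (List.replicate 4 [5,4,6,4]).flatten ++ [2]] := by decide +kernel
theorem bJ2 : J3J2x.base = baseC ++ [(List.replicate 5 [5,4,5,4]).flatten, (List.replicate 4 [5,4,6,4]).flatten ++ [1]] := by decide +kernel

theorem RJ.N3_ok (r : RJ ι ρ) (h : (ρ * rp ι ρ) ^ 3 = 1) : ∀ s ∈ J3N3.base, (s.map (el ι ρ)).prod = 1 := by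
  intro s hs
  rw [bN3, List.mem_append] at hs
  rcases hs with hs | hs
  · exact r.baseC_ok s hs
  · rw [List.mem_singleton] at hs
    rw [hs, pow_rs]; exact h

theorem RJ.N4_ok (r : RJ ι ρ) (h : (ρ * rp ι ρ) ^ 4 = 1) : ∀ s ∈ J3N4.base, (s.map (el ι ρ)).prod = 1 := by
  intro s hs
  rw [bN4, List.mem_append] at hs
  rcases hs with hs | hs
  · exact r.baseC_ok s hs
  · rw [List.mem_singleton] at hs
    rw [hs, pow_rs]; exact h

theorem RJ.J0_ok (r : RJ ι ρ) (h : (ρ * rp ι ρ) ^ 5 = 1) (h2 : (ρ * (rp ι ρ)⁻¹) ^ 4 = 1) : ∀ s ∈ J3J0.base, (s.map (el ι ρ)).prod = 1 := by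
  intro s hs
  rw [bJ0, List.mem_append] at hs
  rcases hs with hs | hs
  · exact r.baseC_ok s hs
  · simp only [List.mem_cons, List.not_mem_nil, or_false] at hs
    rcases hs with hs | hs
    · rw [hs, pow_rs]; exact h
    · rw [hs, pow_rS]; exact h2

theorem RJ.J1_ok (r : RJ ι ρ) (h : (ρ * rp ι ρ) ^ 5 = 1) (h2 : (ρ * (rp ι ρ)⁻¹) ^ 4 = ι (wk 32)) : ∀ s ∈ J3J1x.base, (s.map (el ι ρ)).prod = 1 := by
  intro s hs
  rw [bJ1, List.mem_append] at hs
  rcases hs with hs | hs
  · exact r.baseC_ok s hs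
  · simp only [List.mem_cons, List.not_mem_nil, or_false] at hs
    rcases hs with hs | hs
    · rw [hs, pow_rs]; exact h
    · rw [hs, List.map_append, List.prod_append, pow_rS, h2]
      change ι (wk 32) * (ι (wk 64) * 1) = 1
      rw [mul_one, ← map_mul, show wk 32 * wk 64 = 1 by decide +kernel, map_one]

theorem RJ.J2_ok (r : RJ ι ρ) (h : (ρ * rp ι ρ) ^ 5 = 1) (h2 : (ρ * (rp ι ρ)⁻¹) ^ 4 = ι (wk 64)) : ∀ s ∈ J3J2x.base, (s.map (el ι ρ)).prod = 1 := by
  intro s hs
  rw [bJ2, List.mem_append] at hs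
  rcases hs with hs | hs
  · exact r.baseC_ok s hs
  · simp only [List.mem_cons, List.not_mem_nil, or_false] at hs
    rcases hs with hs | hs
    · rw [hs, pow_rs]; exact h
    · rw [hs, List.map_append, List.prod_append, pow_rS, h2]
      change ι (wk 64) * (ι (wk 32) * 1) = 1
      rw [mul_one, ← map_mul, show wk 64 * wk 32 = 1 by decide +kernel, map_one]

theorem el_inv (ι : W →* G) (ρ : G) : ∀ g, el ι ρ (J3N3.io g) = (el ι ρ g)⁻¹ := by
  have k : ∀ a b : W, a = b⁻¹ → ι a = (ι b)⁻¹ := fun a b h => by rw [h, map_inv]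
  intro g
  match g with
  | 0 => exact k _ _ (by decide +kernel)
  | 1 => exact k (wk 64) (wk 32) (by decide +kernel)
  | 2 => exact k (wk 32) (wk 64) (by decide +kernel)
  | 3 => exact k _ _ (by decide +kernel)
  | 4 => exact k _ _ (by decide +kernel)
  | 5 => rfl
  | 6 => exact (inv_inv ρ).symm
  | (n + 7) => exact inv_one.symm

theorem genW {K : Subgroup W} (h0 : wk 1 ∈ K) (h1 : wk 32 ∈ K) (h2 : wk 96 ∈ K) (h3 : wk 416 ∈ K) : K = ⊤ := by
  have h64 : wk 64 ∈ K := by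
    have := mul_mem h1 h1
    rwa [show wk 32 * wk 32 = wk 64 by decide +kernel] at this
  apply H58.J2H.gen_W
  · have := mul_mem (mul_mem (mul_mem (mul_mem (mul_mem (mul_mem (mul_mem (mul_mem (mul_mem h64 h2) h3) h0) h2) h64) h3) h0) h3) h2
    rwa [show wk 64 * wk 96 * wk 416 * wk 1 * wk 96 * wk 64 * wk 416 * wk 1 * wk 416 * wk 96 = wk 1703 by decide +kernel] at this
  · have := mul_mem (mul_mem (mul_mem (mul_mem (mul_mem (mul_mem h3 h0) h2) h64) h3) h0) h2
    rwa [show wk 416 * wk 1 * wk 96 * wk 64 * wk 416 * wk 1 * wk 96 = wk 1162 by decide +kernel] at this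

theorem el_gen (hgen : closure (Set.range ι ∪ {ρ}) = ⊤) : closure {x | ∃ g < 7, x = el ι ρ g} = ⊤ := by
  rw [eq_top_iff, ← hgen, closure_le]
  have hι : ∀ w : W, ι w ∈ closure {x | ∃ g < 7, x = el ι ρ g} := by
    have h1 : (closure {x | ∃ g < 7, x = el ι ρ g}).comap ι = ⊤ := genW
      (subset_closure ⟨0, by norm_num, rfl⟩) (subset_closure ⟨1, by norm_num, rfl⟩) (subset_closure ⟨3, by norm_num, rfl⟩)
      (subset_closure ⟨4, by norm_num, rfl⟩)
    intro w
    have : w ∈ (closure {x | ∃ g < 7, x = el ι ρ g}).comap ι := by rw [h1]; exact mem_top w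
    exact this
  rintro x (⟨w, rfl⟩ | hx)
  · exact hι w
  · rw [Set.mem_singleton_iff] at hx
    rw [hx]
    exact subset_closure ⟨5, by norm_num, rfl⟩

theorem el_sub : ∀ w ∈ J3N3.hw, H34.TC.wp (el ι ρ) w ∈ ι.range := by
  intro w hw
  have hw' : w ∈ [[0],[1],[3],[4]] := hw
  simp only [List.mem_cons, List.not_mem_nil, or_false] at hw'
  rcases hw' with rfl | rfl | rfl | rfl
  · change 1 * ι (wk 1) ∈ _
    rw [one_mul]; exact ⟨_, rfl⟩
  · change 1 * ι (wk 32) ∈ _
    rw [one_mul]; exact ⟨_, rfl⟩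
  · change 1 * ι (wk 96) ∈ _
    rw [one_mul]; exact ⟨_, rfl⟩
  · change 1 * ι (wk 416) ∈ _
    rw [one_mul]; exact ⟨_, rfl⟩

/-- the subgroup is proper -/
theorem range_ne (h : HT ι z) (r : RJ ι ρ) (hle : (ι.range).FiniteIndex ∧ (ι.range).index ≤ 1) : False := by
  have h1 : (ι.range).index = 1 := by
    have := hle.1.index_ne_zero
    omega
  rw [index_eq_one] at h1
  have h2 : ρ ∈ ι.range := by rw [h1]; exact mem_top ρ
  obtain ⟨w, hw⟩ := h2
  have h3 := r.rz
  rw [← hw, ← map_mul, ← map_mul, zW] at h3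
  have h4 := h.inj h3
  have h5 : wk 16 = wk 1 := mul_right_cancel h4
  exact absurd h5 (by decide +kernel)

end H58.J3B
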