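import Mathlib
import Cfsg.Agent.Lib.H58.J3F
import Cfsg.Agent.Lib.H58.J3H
import Cfsg.Agent.Lib.H58.J3J0
import Cfsg.Agent.Lib.H58.J3J1x

/-! The index bounds (helper58). -/

set_option autoImplicit false
set_option linter.style.haveILetI false
set_option maxRecDepth 100000
set_option linter.unusedSectionVars false

namespace H58.J3B

open H58.J2A H58.J2B H58.J2C Subgroup

variable {G : Type*} [Group G] {ι : W →* G} {z ρ : G}

theorem tc [Finite G] (h : HT ι z) (r : RJ ι ρ) (hgen : closure (Set.range ι ∪ {ρ}) = ⊤) : 1080 ∣ Nat.card G ∧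
    ((ι.range).index ≤ 315 ∨ ((ρ * rp ι ρ) ^ 5 = 1 ∧ (ρ * (rp ι ρ)⁻¹) ^ 4 = 1)) := by
  rcases outcome h r with h1 | h1 | ⟨hc, h1, h2 | h2 | h2⟩
  · exact (range_ne h r (J3N3.upper (el ι ρ) (el_inv ι ρ) (r.N3_ok h1) (el_gen hgen) ι.range el_sub)).elim
  · exact (range_ne h r (J3N4.upper (el ι ρ) (el_inv ι ρ) (r.N4_ok h1) (el_gen hgen) ι.range el_sub)).elim
  · exact ⟨hc, Or.inr ⟨h1, h2⟩⟩
  · exact (range_ne h r (J3J1x.upper (el ι ρ) (el_inv ι ρ) (r.J1_ok h1 h2) (el_gen hgen) ι.range el_sub)).elim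
  · exact ⟨hc, Or.inl (J3J2x.upper (el ι ρ) (el_inv ι ρ) (r.J2_ok h1 h2) (el_gen hgen) ι.range el_sub).2⟩

theorem j0_index (r : RJ ι ρ) (h1 : (ρ * rp ι ρ) ^ 5 = 1) (h2 : (ρ * (rp ι ρ)⁻¹) ^ 4 = 1)
    (hgen : closure (Set.range ι ∪ {ρ}) = ⊤) : (ι.range).FiniteIndex ∧ (ι.range).index ≤ 78489 :=
  J3J0.upper (el ι ρ) (el_inv ι ρ) (r.J0_ok h1 h2) (el_gen hgen) ι.range el_sub

end H58.J3B
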