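import Mathlib
import Cfsg.Agent.Lib.H58.J3I
import Cfsg.Agent.Lib.H15.J3Top

/-! The amalgam determines the group (helper58). -/

set_option autoImplicit false
set_option linter.style.haveILetI false
set_option maxRecDepth 100000
set_option linter.unusedSectionVars false

namespace H58.J3B

open H58.J2A H58.J2B H58.J2C Subgroup

variable {G : Type*} [Group G] {ι : W →* G} {z ρ : G}

theorem rp_map {A B : Type*} [Group A] [Group B] (f : A →* B) (ι : W →* A) (ρ : A) : f (rp ι ρ) = rp (f.comp ι) (f ρ) := by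
  unfold rp
  rw [map_mul, map_mul, map_inv]; rfl

/-- relations can be tested in an overgroup -/
theorem RJ.of_inj {A B : Type*} [Group A] [Group B] (f : A →* B) (hf : Function.Injective f) {ι : W →* A} {ρ : A}
    (r : RJ (f.comp ι) (f ρ)) : RJ ι ρ := by
  refine ⟨hf ?_, hf ?_, hf ?_, hf ?_, hf ?_, hf ?_, hf ?_⟩
  · rw [map_mul, map_mul, map_one]; exact r.r3
  · rw [map_mul, map_mul]; exact r.rz
  · rw [map_mul, map_mul]; exact r.re
  · rw [map_mul, map_mul]; exact r.rd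
  · rw [map_mul, map_mul]; exact r.rb
  · rw [map_mul, map_mul]; exact r.rq
  · rw [map_mul, map_mul, map_one]; exact r.r1

/-- the generated subgroup -/
def GG (ι : W →* G) (ρ : G) : Subgroup G := closure (Set.range ι ∪ {ρ})

theorem GG_io (ι : W →* G) (ρ : G) (w : W) : ι w ∈ GG ι ρ := subset_closure (Or.inl ⟨w, rfl⟩)
theorem GG_rho (ι : W →* G) (ρ : G) : ρ ∈ GG ι ρ := subset_closure (Or.inr rfl)

def ig (ι : W →* G) (ρ : G) : W →* GG ι ρ := ι.codRestrict _ (GG_io ι ρ)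
def rg (ι : W →* G) (ρ : G) : GG ι ρ := ⟨ρ, GG_rho ι ρ⟩

theorem gg_gen (ι : W →* G) (ρ : G) : closure (Set.range (ig ι ρ) ∪ {rg ι ρ}) = ⊤ := by
  have h1 := Subgroup.closure_closure_coe_preimage (k := Set.range ι ∪ {ρ})
  rw [eq_top_iff]
  intro x _
  have hx : x ∈ (closure (((↑) : closure (Set.range ι ∪ {ρ}) → G) ⁻¹' (Set.range ι ∪ {ρ})) : Subgroup (closure (Set.range ι ∪ {ρ}))) := by
    rw [h1]; exact mem_top x
  refine closure_mono ?_ hx
  rintro ⟨y, hy⟩ (⟨w, hw⟩ | hy2)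
  · left
    exact ⟨w, Subtype.ext hw⟩
  · right
    exact Subtype.ext hy2

theorem HT.gg (h : HT ι z) (r : RJ ι ρ) : HT (ig ι ρ) ⟨z, by rw [← h.z16]; exact GG_io ι ρ _⟩ := by
  refine ⟨?_, ?_, ?_, ?_⟩
  · intro a b hab
    exact h.inj (congrArg Subtype.val hab)
  · exact Subtype.ext h.z16
  · rintro ⟨g, hg⟩ hgz
    obtain ⟨w, hw⟩ := h.cz g (congrArg Subtype.val hgz)
    exact ⟨w, Subtype.ext hw⟩
  · refine isConj_iff.2 ⟨rg ι ρ, ?_⟩
    apply Subtype.ext
    change ρ * z * ρ⁻¹ = ι (wk 1)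
    rw [← h.z16, r.rz]; group

theorem RJ.gg (r : RJ ι ρ) : RJ (ig ι ρ) (rg ι ρ) :=
  RJ.of_inj (GG ι ρ).subtype Subtype.val_injective r

theorem small {N : Subgroup G} [Finite G] (hN : Nat.card N ≤ 3) {x y w : G} (hx : x ∈ N) (hy : y ∈ N) (hw : w ∈ N)
    (hx1 : x ≠ 1) (hy1 : y ≠ 1) (hw1 : w ≠ 1) (hxy : x ≠ y) (hxw : x ≠ w) (hyw : y ≠ w) : False := by
  classical
  have h1 : ({1, x, y, w} : Set G) ⊆ (N : Set G) := by
    rintro u (rfl | rfl | rfl | rfl)
    · exact one_mem _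
    · exact hx
    · exact hy
    · exact hw
  have h2 := Set.ncard_le_ncard h1 (Set.toFinite _)
  rw [Set.ncard_insert_of_notMem (by simp [hx1.symm, hy1.symm, hw1.symm]), Set.ncard_insert_of_notMem (by simp [hxy, hxw]),
    Set.ncard_pair hyw] at h2
  have h3 : (N : Set G).ncard = Nat.card N := rfl
  omega

/-- the element of order five -/
theorem K6 : ∀ w : W, w = 1 ∨ w = wk 16 ∨
    (w ≠ wk 32 * w * (wk 32)⁻¹ ∧ w ≠ wk 64 * w * (wk 64)⁻¹ ∧ wk 32 * w * (wk 32)⁻¹ ≠ wk 64 * w * (wk 64)⁻¹) ∨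
    (w ≠ wk 512 * w * (wk 512)⁻¹ ∧ w ≠ wk 1024 * w * (wk 1024)⁻¹ ∧ wk 512 * w * (wk 512)⁻¹ ≠ wk 1024 * w * (wk 1024)⁻¹) := by
  decide +kernel

theorem no_small [Finite G] (h : HT ι z) (r : RJ ι ρ) {N : Subgroup G} (hN : N.Normal) (hc : Nat.card N ≤ 3) : N = ⊥ := by
  rw [eq_bot_iff]
  intro a ha
  rw [mem_bot]
  by_contra ha1
  have cj : ∀ {x : G}, x ∈ N → ∀ g : G, g * x * g⁻¹ ∈ N := fun hx g => hN.conj_mem _ hx g
  have cj1 : ∀ {x : G}, x ≠ 1 → ∀ g : G, g * x * g⁻¹ ≠ 1 := by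
    intro x hx g hh
    apply hx
    have := congrArg (fun y => g⁻¹ * y * g) hh
    simpa [mul_assoc] using this
  set c : G := ι (wk 3) with hcd
  have hcc : c * c = z := by
    rw [hcd, ← map_mul, show wk 3 * wk 3 = wk 16 by decide +kernel, h.z16]
  have haz : a * z = z * a := by
    have key : c * (c * a * c⁻¹) * c⁻¹ = a := by
      by_cases h1 : c * a * c⁻¹ = a
      · rw [h1, h1]
      · by_contra h2
        refine small hc ha (cj ha c) (cj (cj ha c) c) ha1 (cj1 ha1 c) (cj1 (cj1 ha1 c) c) (Ne.symm h1) (Ne.symm h2) ?_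
        intro h3
        apply h1
        have := congrArg (fun y => c⁻¹ * y * c) h3
        simp only [mul_assoc, inv_mul_cancel_left, inv_mul_cancel, mul_one] at this
        rw [← mul_assoc] at this
        exact this.symm
    have h2 : z * a * z⁻¹ = a := by
      rw [← hcc]
      calc c * c * a * (c * c)⁻¹ = c * (c * a * c⁻¹) * c⁻¹ := by group
        _ = a := key
    calc a * z = z * a * z⁻¹ * z := by rw [h2]
      _ = z * a := by group
  obtain ⟨w, rfl⟩ := h.cz a haz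
  have i1 : ∀ g : W, ι (g * w * g⁻¹) ∈ N := by
    intro g
    rw [map_mul, map_mul, map_inv]; exact cj ha _
  have i2 : ∀ g : W, ι (g * w * g⁻¹) ≠ 1 := by
    intro g
    rw [map_mul, map_mul, map_inv]; exact cj1 ha1 _
  have fin : ∀ g g' : W, (w ≠ g * w * g⁻¹ ∧ w ≠ g' * w * g'⁻¹ ∧ g * w * g⁻¹ ≠ g' * w * g'⁻¹) → False := by
    rintro g g' ⟨h1, h2, h3⟩
    exact small hc ha (i1 g) (i1 g') ha1 (i2 g) (i2 g') (fun hh => h1 (h.inj hh)) (fun hh => h2 (h.inj hh)) (fun hh => h3 (h.inj hh))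
  rcases K6 w with h1 | h1 | h1 | h1
  · exact ha1 (by rw [h1, map_one])
  · rw [h1] at ha
    have e1 : ρ * ι (wk 16) * ρ⁻¹ = ι (wk 1) := by rw [r.rz]; group
    have e2 : ρ * ι (wk 1) * ρ⁻¹ = ι (wk 17) := by rw [r.re]; group
    have m1 : ι (wk 1) ∈ N := by rw [← e1]; exact cj ha ρ
    have m2 : ι (wk 17) ∈ N := by rw [← e2]; exact cj m1 ρ
    have n1 : ∀ n : W, n ≠ 1 → ι n ≠ 1 := fun n hn hh => hn (h.inj (hh.trans (map_one ι).symm))
    exact small hc ha m1 m2 (n1 _ (by decide +kernel)) (n1 _ (by decide +kernel)) (n1 _ (by decide +kernel))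
      (fun hh => absurd (h.inj hh) (by decide +kernel)) (fun hh => absurd (h.inj hh) (by decide +kernel)) (fun hh => absurd (h.inj hh) (by decide +kernel))
  · exact fin _ _ h1
  · exact fin _ _ h1

/-- the full data with the relations of the third group -/
structure Full (ι : W →* G) (z ρ : G) : Prop where
  ht : HT ι z
  rj : RJ ι ρ
  p5 : (ρ * rp ι ρ) ^ 5 = 1
  p4 : (ρ * (rp ι ρ)⁻¹) ^ 4 = 1
  gen : closure (Set.range ι ∪ {ρ}) = ⊤

theorem gen_surj {A B : Type*} [Group A] [Group B] (f : A →* B) {ιA : W →* A} {ρA : A} {ιB : W →* B} {ρB : B}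
    (h1 : ∀ w, f (ιA w) = ιB w) (h2 : f ρA = ρB) (hg : closure (Set.range ιB ∪ {ρB}) = ⊤) : Function.Surjective f := by
  rw [← MonoidHom.range_eq_top, eq_top_iff, ← hg, closure_le]
  rintro x (⟨w, rfl⟩ | hx)
  · exact ⟨ιA w, h1 w⟩
  · rw [Set.mem_singleton_iff] at hx
    exact ⟨ρA, by rw [h2, hx]⟩

theorem Full.iso {A B : Type*} [Group A] [Group B] [Finite A] [Finite B] [IsSimpleGroup B] {ιA : W →* A} {zA ρA : A}
    {ιB : W →* B} {zB ρB : B} (FA : Full ιA zA ρA) (FB : Full ιB zB ρB) (hB : Nat.card B = 50232960) : Nonempty (A ≃* B) := by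
  set ι : W →* A × B := ιA.prod ιB with hι
  set ρ : A × B := (ρA, ρB) with hρ
  have r0 : RJ ι ρ := by
    refine ⟨?_, ?_, ?_, ?_, ?_, ?_, ?_⟩
    · exact Prod.ext FA.rj.r3 FB.rj.r3
    · exact Prod.ext FA.rj.rz FB.rj.rz
    · exact Prod.ext FA.rj.re FB.rj.re
    · exact Prod.ext FA.rj.rd FB.rj.rd
    · exact Prod.ext FA.rj.rb FB.rj.rb
    · exact Prod.ext FA.rj.rq FB.rj.rq
    · exact Prod.ext FA.rj.r1 FB.rj.r1
  have p5 : (ρ * rp ι ρ) ^ 5 = 1 := Prod.ext FA.p5 FB.p5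
  have p4 : (ρ * (rp ι ρ)⁻¹) ^ 4 = 1 := Prod.ext FA.p4 FB.p4
  set Γ := GG ι ρ with hΓ
  have hsub : Function.Injective Γ.subtype := Subtype.val_injective
  have q5 : (rg ι ρ * rp (ig ι ρ) (rg ι ρ)) ^ 5 = 1 := by
    apply hsub
    rw [map_pow, map_mul, rp_map, map_one]; exact p5
  have q4 : (rg ι ρ * (rp (ig ι ρ) (rg ι ρ))⁻¹) ^ 4 = 1 := by
    apply hsub
    rw [map_pow, map_mul, map_inv, rp_map, map_one]; exact p4
  obtain ⟨_, hidx⟩ := j0_index r0.gg q5 q4 (gg_gen ι ρ)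
  have hinj : Function.Injective (ig ι ρ) := by
    intro a b hab
    have h1 : ι a = ι b := congrArg Subtype.val hab
    exact FB.ht.inj (congrArg Prod.snd h1)
  have hcR : Nat.card (ig ι ρ).range = 1920 := by
    rw [← card_W]
    exact (Nat.card_congr (MonoidHom.ofInjective hinj).toEquiv).symm
  have hcG : Nat.card Γ ≤ 3 * 50232960 := by
    have h1 := Subgroup.card_mul_index (ig ι ρ).range
    rw [hcR] at h1
    change 1920 * (ig ι ρ).range.index = Nat.card Γ at h1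
    rw [← h1]
    calc 1920 * (ig ι ρ).range.index ≤ 1920 * 78489 := Nat.mul_le_mul_left _ hidx
      _ = 3 * 50232960 := by norm_num
  let p1 : Γ →* A := (MonoidHom.fst A B).comp Γ.subtype
  let p2 : Γ →* B := (MonoidHom.snd A B).comp Γ.subtype
  have s1 : Function.Surjective p1 := gen_surj p1 (ιA := ig ι ρ) (ρA := rg ι ρ) (fun w => rfl) rfl FA.gen
  have s2 : Function.Surjective p2 := gen_surj p2 (ιA := ig ι ρ) (ρA := rg ι ρ) (fun w => rfl) rfl FB.gen
  have hker : Nat.card p2.ker ≤ 3 := by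
    have h1 := Subgroup.card_eq_card_quotient_mul_card_subgroup p2.ker
    have h2 : Nat.card (Γ ⧸ p2.ker) = 50232960 := by
      rw [← hB]
      exact Nat.card_congr (QuotientGroup.quotientKerEquivOfSurjective p2 s2).toEquiv
    rw [h2] at h1
    have h3 : 50232960 * Nat.card p2.ker ≤ 50232960 * 3 := by
      rw [← h1]; linarith
    exact Nat.le_of_mul_le_mul_left h3 (by norm_num)
  have hn : (p2.ker.map p1).Normal := (MonoidHom.normal_ker p2).map p1 s1
  have hbot := no_small FA.ht FA.rj hn (le_trans (Nat.card_le_card_of_surjective (p1.subgroupMap p2.ker) (p1.subgroupMap_surjective p2.ker)) hker)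
  have i2 : Function.Injective p2 := by
    rw [injective_iff_map_eq_one]
    intro x hx
    have h1 : p1 x ∈ p2.ker.map p1 := ⟨x, hx, rfl⟩
    rw [hbot, mem_bot] at h1
    exact hsub (Prod.ext h1 hx)
  let E2 : Γ ≃* B := MulEquiv.ofBijective p2 ⟨i2, s2⟩
  have hs : IsSimpleGroup Γ := E2.isSimpleGroup
  have i1 : Function.Injective p1 := by
    rw [← MonoidHom.ker_eq_bot_iff]
    rcases (MonoidHom.normal_ker p1).eq_bot_or_eq_top with h1 | h1
    · exact h1
    · exfalso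
      obtain ⟨x, hx⟩ := s1 (ιA (wk 1))
      have h2 : x ∈ p1.ker := by rw [h1]; exact mem_top x
      rw [MonoidHom.mem_ker, hx] at h2
      exact absurd (FA.ht.inj (h2.trans (map_one ιA).symm)) (by decide +kernel)
  exact ⟨(MulEquiv.ofBijective p1 ⟨i1, s1⟩).symm.trans E2⟩

theorem numb0 : allN (fun k => Bool.or (Bool.not (Nat.beq (Nat.mod 2907 k) 0)) (Bool.or (Bool.not (Nat.beq (Nat.mod (Nat.add 1 (Nat.mul 2349 k)) 128) 0))
    (Nat.beq k 2907))) 2908 = true := by decide +kernel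

theorem numb {m : ℕ} (h1 : m ∣ 26163) (h9 : 9 ∣ m) (h2 : 128 ∣ 1 + 261 * m) : m = 26163 := by
  obtain ⟨k, rfl⟩ := h9
  have h3 : k ∣ 2907 := by
    obtain ⟨j, hj⟩ := h1
    exact ⟨j, by
      have : 9 * 2907 = 9 * (k * j) := by rw [← mul_assoc, ← hj]
      exact Nat.eq_of_mul_eq_mul_left (by norm_num) this⟩
  have h4 := Nat.le_of_dvd (by norm_num) h3
  have h5 := allN_iff.1 numb0 k (by omega)
  simp only [Bool.or_eq_true, Nat.beq_eq, Bool.not_eq_true'] at h5
  rcases h5 with h5 | h5 | h5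
  · have h6 : Nat.beq (Nat.mod 2907 k) 0 = true := by
      rw [Nat.beq_eq]; exact Nat.mod_eq_zero_of_dvd h3
    rw [h6] at h5; exact absurd h5 (by decide)
  · have h6 : Nat.beq (Nat.mod (Nat.add 1 (Nat.mul 2349 k)) 128) 0 = true := by
      rw [Nat.beq_eq]
      apply Nat.mod_eq_zero_of_dvd
      change 128 ∣ 1 + 2349 * k
      have e : 1 + 2349 * k = 1 + 261 * (9 * k) := by ring
      rw [e]; exact h2
    rw [h6] at h5; exact absurd h5 (by decide)
  · rw [h5]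

/-- the generated subgroup of a group with one class of involutions has the relations of the third group -/
theorem exists_full [Finite G] (h : HT ι z) (r : RJ ι ρ) (hY : HYP z) (hone : ∀ x y : G, orderOf x = 2 → orderOf y = 2 → IsConj x y) :
    (∃ z' : GG ι ρ, (z' : G) = z ∧ Full (ig ι ρ) z' (rg ι ρ)) ∧ (∀ x y : GG ι ρ, orderOf x = 2 → orderOf y = 2 → IsConj x y) ∧
      Nat.card (GG ι ρ) = 1920 * (ig ι ρ).range.index ∧ 9 ∣ (ig ι ρ).range.index ∧ 128 ∣ 1 + 261 * (ig ι ρ).range.index := by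
  have h1 := one_class h hY hone (GG ι ρ) (GG_io ι ρ) ⟨ρ, GG_rho ι ρ, by rw [← h.z16]; exact r.rz⟩
  have hg := h.gg r
  have h2 := frob hg h1
  have h3 : Nat.card (GG ι ρ) = 1920 * (ig ι ρ).range.index := by
    rw [← card_range hg, Subgroup.card_mul_index]
  obtain ⟨h4, h5⟩ := tc hg r.gg (gg_gen ι ρ)
  have h9 : 9 ∣ (ig ι ρ).range.index := by
    rw [h3] at h4
    obtain ⟨k, hk⟩ := h4
    omega
  refine ⟨?_, h1, h3, h9, h2⟩
  rcases h5 with h5 | ⟨h5, h6⟩
  · exfalso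
    obtain ⟨a, ha⟩ := h9
    obtain ⟨b, hb⟩ := h2
    rw [ha] at hb h5
    omega
  · exact ⟨_, rfl, hg, r.gg, h5, h6, gg_gen ι ρ⟩

/-- recognition, given a model `B` of the third group -/
theorem recog {B : Type*} [Group B] [Finite B] [IsSimpleGroup B] (hB : Nat.card B = 50232960)
    (hBone : ∀ x y : B, orderOf x = 2 → orderOf y = 2 → IsConj x y) {ιB : W →* B} {zB : B} (hTB : HT ιB zB) (hYB : HYP zB)
    [Finite G] [IsSimpleGroup G] (hone : ∀ x y : G, orderOf x = 2 → orderOf y = 2 → IsConj x y) (h : HT ι z) (hY : HYP z) :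
    Nonempty (G ≃* B) := by
  obtain ⟨ρB, rB⟩ := exists_RJ hTB
  obtain ⟨ρ, r⟩ := exists_RJ h
  obtain ⟨⟨zb, hzb, FB⟩, oB, cB, nB, mB⟩ := exists_full hTB rB hYB hBone
  obtain ⟨⟨za, hza, FA⟩, oA, cA, nA, mA⟩ := exists_full h r hY hone
  have hBtop : GG ιB ρB = ⊤ := by
    apply Subgroup.eq_top_of_card_eq
    have h1 := Subgroup.card_subgroup_dvd_card (GG ιB ρB)
    rw [hB, cB] at h1
    have h2 : (ig ιB ρB).range.index ∣ 26163 := by
      obtain ⟨k, hk⟩ := h1
      exact ⟨k, by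
        have : 1920 * 26163 = 1920 * ((ig ιB ρB).range.index * k) := by rw [← mul_assoc, ← hk]
        exact Nat.eq_of_mul_eq_mul_left (by norm_num) this⟩
    have h4 := numb h2 nB mB
    rw [cB, h4, hB]
  have hBc : Nat.card (GG ιB ρB) = 50232960 := by
    rw [hBtop, ← hB]
    exact Nat.card_congr Subgroup.topEquiv.toEquiv
  have eB : GG ιB ρB ≃* B := (MulEquiv.subgroupCongr hBtop).trans Subgroup.topEquiv
  have hsB : IsSimpleGroup (GG ιB ρB) := eB.isSimpleGroup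
  obtain ⟨E⟩ := Full.iso FA FB hBc
  have hAc : Nat.card (GG ι ρ) = 50232960 := by rw [Nat.card_congr E.toEquiv, hBc]
  have htop : GG ι ρ = ⊤ := by
    refine H15.J3Top.j3_top (GG ι ρ) hAc z h.oz (by rw [← h.z16]; exact GG_io ι ρ _) ?_ ?_ ?_
    · intro x hx
      obtain ⟨w, rfl⟩ := h.cz x ((Subgroup.mem_centralizer_singleton_iff).1 hx)
      exact GG_io ι ρ w
    · rw [← card_cent h]
      exact Nat.card_congr (Equiv.subtypeEquivRight (fun x => Subgroup.mem_centralizer_singleton_iff))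
    · intro x hx y hy hx2 hy2
      have h1 : orderOf (⟨x, hx⟩ : GG ι ρ) = 2 := by rw [← hx2, ← Subgroup.orderOf_coe]
      have h2 : orderOf (⟨y, hy⟩ : GG ι ρ) = 2 := by rw [← hy2, ← Subgroup.orderOf_coe]
      obtain ⟨c, hc⟩ := isConj_iff.1 (oA _ _ h1 h2)
      exact ⟨c, c.2, congrArg Subtype.val hc⟩
  have eA : GG ι ρ ≃* G := (MulEquiv.subgroupCongr htop).trans Subgroup.topEquiv
  exact ⟨eA.symm.trans (E.trans eB)⟩

end H58.J3B
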