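import Mathlib
import Cfsg.Agent.Lib.H58.J3J
import Cfsg.Agent.Lib.H58.J3M

/-! Groups of type `J_3` (helper58). -/

set_option autoImplicit false
set_option linter.style.haveILetI false
set_option linter.unusedSectionVars false

namespace H58.J3L

open Subgroup Cfsg

/-- the data of a group of `J_3` type -/
def TypJ (G : Type*) [Group G] : Prop :=
  (∀ x y : G, orderOf x = 2 → orderOf y = 2 → IsConj x y) ∧
    ∃ t : G, orderOf t = 2 ∧ ∃ (Q : Subgroup (Subgroup.centralizer ({t} : Set G))) (_ : Q.Normal),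
      IsExtraspecial 2 Q ∧ Nat.card Q = 32 ∧ Nonempty ((Subgroup.centralizer ({t} : Set G)) ⧸ Q ≃* alternatingGroup (Fin 5))

theorem core {G B : Type*} [Group G] [Finite G] [IsSimpleGroup G] [Group B] [Finite B] [IsSimpleGroup B]
    (hB : Nat.card B = 50232960) (h1 : TypJ G) (h2 : TypJ B) : Nonempty (G ≃* B) := by
  obtain ⟨hBone, tB, htB, QB, hBN, hBQ, hBcard, ⟨eB⟩⟩ := h2
  obtain ⟨hone, t, ht, Q, hN, hQ, hcard, ⟨e⟩⟩ := h1
  have hB2 := H58.J3M.faithful2 htB QB hBQ hBcard eB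
  have h2 := H58.J3M.faithful2 ht Q hQ hcard e
  obtain ⟨ιB, hTB⟩ := H58.J3B.exists_HT tB htB QB hBQ hBcard hB2 eB
  obtain ⟨ι, hT⟩ := H58.J3B.exists_HT t ht Q hQ hcard h2 e
  exact H58.J3B.recog hB hBone hTB ⟨QB, hBN, hBQ, hBcard, hB2, ⟨eB⟩⟩ hone hT ⟨Q, hN, hQ, hcard, h2, ⟨e⟩⟩

/-- a field with four elements -/
theorem exists_F : ∃ (F : Type) (_ : Field F) (_ : Fintype F) (ω : F), Fintype.card F = 4 ∧ ω ^ 2 + ω + 1 = 0 := by
  classical
  haveI : Fact (Nat.Prime 2) := ⟨Nat.prime_two⟩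
  haveI : Fintype (GaloisField 2 2) := Fintype.ofFinite _
  have hc : Fintype.card (GaloisField 2 2) = 4 := by
    rw [← Nat.card_eq_fintype_card, GaloisField.card 2 2 (by norm_num)]; norm_num
  obtain ⟨x, hx0, hx1⟩ : ∃ x : GaloisField 2 2, x ≠ 0 ∧ x ≠ 1 := by
    by_contra h
    push Not at h
    have : Fintype.card (GaloisField 2 2) ≤ 2 := by
      have h2 : (Finset.univ : Finset (GaloisField 2 2)) ⊆ {0, 1} := by
        intro x _
        by_cases h0 : x = 0
        · simp [h0]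
        · simp [h x h0]
      calc _ = (Finset.univ : Finset (GaloisField 2 2)).card := rfl
        _ ≤ _ := Finset.card_le_card h2
        _ ≤ 2 := Finset.card_le_two
    omega
  have h3 : x ^ 3 = 1 := by
    have := FiniteField.pow_card_sub_one_eq_one x hx0
    rwa [hc] at this
  refine ⟨_, inferInstance, inferInstance, x, hc, ?_⟩
  have h4 : (x - 1) * (x ^ 2 + x + 1) = 0 := by linear_combination h3
  rcases mul_eq_zero.1 h4 with h | h
  · exact absurd (sub_eq_zero.1 h) hx1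
  · exact h

end H58.J3L
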