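import Mathlib
import Cfsg.Agent.Lib.H58.J3L
import Cfsg.Agent.S1625
import Cfsg.Agent.S2135
import Cfsg.Agent.S1721

/-! Groups of type `J_3`: recognition and order (helper58). -/

set_option autoImplicit false
set_option linter.style.haveILetI false
set_option linter.unusedSectionVars false

namespace H58.J3O

open Subgroup Cfsg H58.J3L

theorem iso {G : Type*} [Group G] [Finite G] [IsSimpleGroup G] (h : TypJ G) (F : Type) [Field F] [Fintype F]
    (hF : Fintype.card F = 4) (ω : F) (hω : ω ^ 2 + ω + 1 = 0) : Nonempty (G ≃* Spor.J3 F ω) := by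
  obtain ⟨_, _, hBc, hBs⟩ := Cfsg.Agent.S1625.result F hF ω hω
  obtain ⟨hBone, tB, htB, QB, hBN, hBQ, hBcard, _, _, eB⟩ := Cfsg.Agent.S2135.result hF ω hω
  have hfin : Finite (Spor.J3 F ω) := Nat.finite_of_card_ne_zero (by rw [hBc]; norm_num)
  exact core hBc h ⟨hBone, tB, htB, QB, hBN, hBQ, hBcard, eB⟩

theorem isoJ3 {G : Type*} [Group G] [Finite G] [IsSimpleGroup G] (h : TypJ G) : Spor.IsoJ3 G := by
  obtain ⟨F, _, _, ω, hF, hω⟩ := exists_F
  exact ⟨F, inferInstance, inferInstance, ω, hF, hω, iso h F hF ω hω⟩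

theorem order {G : Type*} [Group G] [Finite G] [IsSimpleGroup G] (h : TypJ G) : Nat.card G = 50232960 := by
  obtain ⟨F, _, _, ω, hF, hω⟩ := exists_F
  obtain ⟨φ⟩ := iso h F hF ω hω
  rw [Nat.card_congr φ.toEquiv]
  exact (Cfsg.Agent.S1625.result F hF ω hω).2.2.1

theorem dich {G : Type*} [Group G] [Finite G] [IsSimpleGroup G] (t : G) (ht : orderOf t = 2)
    (E : Subgroup (Subgroup.centralizer ({t} : Set G))) [hN : E.Normal] (hE : Nat.card E = 32) (hX : IsExtraspecial 2 E)
    (e : (Subgroup.centralizer ({t} : Set G)) ⧸ E ≃* alternatingGroup (Fin 5)) : Nat.card G = 604800 ∨ Nat.card G = 50232960 := by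
  by_cases hone : ∀ x y : G, orderOf x = 2 → orderOf y = 2 → IsConj x y
  · right
    exact order ⟨hone, t, ht, E, hN, hX, hE, ⟨e⟩⟩
  · left
    push Not at hone
    have h2 := H58.J3M.faithful2 ht E hX hE e
    obtain ⟨hFit, ⟨e2⟩, hnwc⟩ := H58.J2Q.reduce t ht E hX hE h2 e
    exact Cfsg.Agent.S1721.result t ht E hFit hX (by rw [hE]; norm_num) e2 hnwc hone

end H58.J3O
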