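import Mathlib
import Cfsg.Agent.Lib.H58.J3O
import Cfsg.Agent.Lib.H58.SL16J

/-! Groups of type `J_3` contain `SL(2,16):2` (helper58). -/

set_option autoImplicit false
set_option linter.style.haveILetI false
set_option linter.unusedSectionVars false

namespace H58.J3P

open Subgroup Cfsg H58.J3L

theorem exists_K : ∃ (K : Type) (_ : Field K) (_ : Fintype K), Fintype.card K = 16 := by
  haveI : Fact (Nat.Prime 2) := ⟨Nat.prime_two⟩
  haveI : Fintype (GaloisField 2 4) := Fintype.ofFinite _
  refine ⟨GaloisField 2 4, inferInstance, inferInstance, ?_⟩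
  rw [← Nat.card_eq_fintype_card, GaloisField.card 2 4 (by norm_num)]; norm_num

theorem sl16 {G : Type*} [Group G] [Finite G] [IsSimpleGroup G] (h : TypJ G) :
    ∃ (H : Subgroup G) (N : Subgroup H) (K : Type) (_ : Field K) (_ : Fintype K), N.Normal ∧ N.index = 2 ∧
      Fintype.card K = 16 ∧ Nonempty (N ≃* Matrix.SpecialLinearGroup (Fin 2) K) := by
  obtain ⟨F, _, _, ω, hF, hω⟩ := exists_F
  obtain ⟨φ⟩ := H58.J3O.iso h F hF ω hω
  obtain ⟨X, W, H, U, r, hX, u1, u2, u3, u4⟩ := H58.SL16J.exists_data hF hω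
  obtain ⟨K, _, _, hK⟩ := exists_K
  set f : Spor.J3 F ω →* G := φ.symm.toMonoidHom with hf
  have hfi : Function.Injective f := φ.symm.injective
  obtain ⟨S, N, hN, hi, he⟩ := H58.SL16.main hK (r.map f) (U := f U) (fun hh => hX (hfi (by rw [hh, map_one])))
    (by rw [← map_mul, u1, map_one]) (by rw [← map_mul, ← map_mul, u2]) (by rw [← map_mul, ← map_mul, u3])
    (by rw [← map_mul, ← map_mul, ← map_pow, u4])
  exact ⟨S, N, K, inferInstance, inferInstance, hN, hi, hK, he⟩

end H58.J3P
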