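import Mathlib
import Cfsg.Agent.Lib.H58.Rel

/-! Odd order elements acting on abelian 2-groups; Burnside's criterion; normal 2-complements from
subgroups of index two. -/

set_option autoImplicit false

namespace H58.OddAut

variable {G : Type*} [Group G]

theorem commute_of_sq {x u : G} (hx : Odd (orderOf x)) (h : Commute (x ^ 2) u) : Commute x u := by
  obtain ⟨k, hk⟩ := hx
  have h1 : x = (x ^ 2) ^ (k + 1) := by
    rw [← pow_mul, show 2 * (k + 1) = (2 * k + 1) + 1 by ring, pow_succ, ← hk, pow_orderOf_eq_one, one_mul]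
  rw [h1]
  exact h.pow_left (k + 1)

/-- An odd order element normalizing an abelian 2-group and centralizing its involutions centralizes it. -/
theorem commute_of_omega {T : Subgroup G} (hT : IsPGroup 2 T) (hc : ∀ s ∈ T, ∀ t ∈ T, s * t = t * s)
    {x : G} (hx : Odd (orderOf x)) (hN : ∀ t ∈ T, x * t * x⁻¹ ∈ T)
    (hom : ∀ u ∈ T, u * u = 1 → Commute x u) : ∀ t ∈ T, Commute x t := by
  have key : ∀ k : ℕ, ∀ t ∈ T, t ^ (2 ^ k) = 1 → Commute x t := by
    intro k
    induction k with
    | zero =>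
      intro t _ h
      rw [pow_zero, pow_one] at h
      rw [h]; exact Commute.one_right x
    | succ k ih =>
      intro t ht h
      have h1 : (t * t) ^ (2 ^ k) = 1 := by
        rw [← pow_two, ← pow_mul, ← pow_succ']; exact h
      have h2 : Commute x (t * t) := ih _ (T.mul_mem ht ht) h1
      have h3 := hN t ht
      -- w = t⁻¹ * (x t x⁻¹)
      have hw : t⁻¹ * (x * t * x⁻¹) ∈ T := T.mul_mem (T.inv_mem ht) h3
      have hww : t⁻¹ * (x * t * x⁻¹) * (t⁻¹ * (x * t * x⁻¹)) = 1 := by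
        have h4 : (x * t * x⁻¹) * t⁻¹ = t⁻¹ * (x * t * x⁻¹) := hc _ h3 _ (T.inv_mem ht)
        calc t⁻¹ * (x * t * x⁻¹) * (t⁻¹ * (x * t * x⁻¹))
            = t⁻¹ * ((x * t * x⁻¹) * t⁻¹) * (x * t * x⁻¹) := by group
          _ = t⁻¹ * (t⁻¹ * (x * t * x⁻¹)) * (x * t * x⁻¹) := by rw [h4]
          _ = (t * t)⁻¹ * (x * (t * t) * x⁻¹) := by group
          _ = 1 := by rw [h2.eq]; group
      have h5 : Commute x (t⁻¹ * (x * t * x⁻¹)) := hom _ hw hww
      obtain ⟨w, hw'⟩ : ∃ w, w = t⁻¹ * (x * t * x⁻¹) := ⟨_, rfl⟩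
      rw [← hw'] at hww h5
      have h6 : x * t * x⁻¹ = t * w := by rw [hw']; group
      apply commute_of_sq hx
      have h7 : x * t = t * w * x := by rw [← h6]; group
      change x ^ 2 * t = t * x ^ 2
      calc x ^ 2 * t = x * (x * t) := by rw [pow_two, mul_assoc]
        _ = x * (t * w * x) := by rw [h7]
        _ = (x * t) * (w * x) := by group
        _ = (t * w * x) * (w * x) := by rw [h7]
        _ = t * w * (x * w) * x := by group
        _ = t * w * (w * x) * x := by rw [h5.eq]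
        _ = t * (w * w) * x ^ 2 := by rw [pow_two]; group
        _ = t * x ^ 2 := by rw [hww, mul_one]
  intro t ht
  obtain ⟨k, hk⟩ := hT ⟨t, ht⟩
  exact key k t ht (by simpa using congrArg Subtype.val hk)

/-- every element is a product of commuting powers of 2-power and odd order; membership form -/
theorem mem_of_parts [Finite G] (K : Subgroup G) (x : G)
    (h2 : ∀ k : ℕ, (∃ e : ℕ, (x ^ k) ^ (2 ^ e) = 1) → x ^ k ∈ K)
    (ho : ∀ k : ℕ, Odd (orderOf (x ^ k)) → x ^ k ∈ K) : x ∈ K := by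
  obtain ⟨e, m, hm, hem⟩ := Nat.exists_eq_two_pow_mul_odd (orderOf_pos x).ne'
  have h1 : x ^ m ∈ K := h2 m ⟨e, by rw [← pow_mul, mul_comm, ← hem, pow_orderOf_eq_one]⟩
  have h3 : x ^ (2 ^ e) ∈ K := by
    apply ho
    have : orderOf (x ^ (2 ^ e)) = m := by
      rw [orderOf_pow, hem]
      have : Nat.gcd (2 ^ e * m) (2 ^ e) = 2 ^ e := Nat.gcd_eq_right (Dvd.intro _ rfl)
      rw [this, Nat.mul_div_cancel_left _ (by positivity)]
    rw [this]; exact hm
  have hcop : IsCoprime ((2 ^ e : ℕ) : ℤ) (m : ℤ) := by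
    rw [Nat.isCoprime_iff_coprime]
    exact Nat.Coprime.pow_left e (Nat.coprime_two_left.2 hm)
  obtain ⟨u, v, huv⟩ := hcop
  have h4 : x = (x ^ (2 ^ e)) ^ u * (x ^ m) ^ v := by
    have h5 : x ^ (u * ((2 ^ e : ℕ) : ℤ) + v * (m : ℤ)) = (x ^ (2 ^ e)) ^ u * (x ^ m) ^ v := by
      rw [zpow_add, mul_comm u, mul_comm v, zpow_mul, zpow_mul, zpow_natCast, zpow_natCast]
    rwa [huv, zpow_one] at h5
  rw [h4]
  exact K.mul_mem (K.zpow_mem h3 _) (K.zpow_mem h1 _)

/-- a 2-element normalizing a Sylow 2-subgroup lies in it -/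
theorem mem_sylow_of_mem_normalizer [Finite G] (P : Sylow 2 G) {u : G} {e : ℕ} (hu : u ^ (2 ^ e) = 1)
    (hN : u ∈ Subgroup.normalizer ((P : Subgroup G) : Set G)) : u ∈ P := by
  have h1 : IsPGroup 2 (Subgroup.zpowers u) := by
    intro y
    refine ⟨e, ?_⟩
    obtain ⟨k, hk⟩ := Subgroup.mem_zpowers_iff.1 y.2
    apply Subtype.ext
    push_cast
    rw [← hk, ← zpow_natCast, ← zpow_mul, mul_comm, zpow_mul, zpow_natCast, hu, one_zpow]
  have h3 := h1.inf_normalizer_sylow P
  have h4 : u ∈ Subgroup.zpowers u ⊓ Subgroup.normalizer (P : Set G) :=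
    Subgroup.mem_inf.2 ⟨Subgroup.mem_zpowers u, hN⟩
  rw [h3] at h4
  exact (Subgroup.mem_inf.1 h4).2

/-- Burnside's condition from odd order elements. -/
theorem normalizer_le_centralizer [Finite G] (P : Sylow 2 G)
    (hc : ∀ s ∈ (P : Subgroup G), ∀ t ∈ (P : Subgroup G), s * t = t * s)
    (ho : ∀ x ∈ Subgroup.normalizer ((P : Subgroup G) : Set G), Odd (orderOf x) →
      ∀ t ∈ (P : Subgroup G), Commute x t) :
    Subgroup.normalizer ((P : Subgroup G) : Set G) ≤ Subgroup.centralizer ((P : Subgroup G) : Set G) := by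
  intro x hx
  apply mem_of_parts
  · rintro k ⟨e, he⟩
    have := mem_sylow_of_mem_normalizer P he (Subgroup.pow_mem _ hx k)
    exact Subgroup.mem_centralizer_iff.2 fun t ht => hc t ht _ this
  · intro k hk
    have h1 := ho (x ^ k) (Subgroup.pow_mem _ hx k) hk
    exact Subgroup.mem_centralizer_iff.2 fun t ht => (h1 t ht).eq.symm

/-- normal odd order subgroup of index a power of two consists of the odd order elements -/
theorem mem_of_odd [Finite G] {K : Subgroup G} [K.Normal] {n : ℕ} (hK : K.index = 2 ^ n) {x : G}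
    (hx : Odd (orderOf x)) : x ∈ K := by
  have h1 : x ^ (2 ^ n) ∈ K := by rw [← hK]; exact Subgroup.pow_index_mem K x
  have hcop : IsCoprime ((2 ^ n : ℕ) : ℤ) (orderOf x : ℤ) := by
    rw [Nat.isCoprime_iff_coprime]
    exact Nat.Coprime.pow_left n (Nat.coprime_two_left.2 hx)
  obtain ⟨u, v, huv⟩ := hcop
  have h2 : x = (x ^ (2 ^ n)) ^ u := by
    have h3 : x ^ (u * ((2 ^ n : ℕ) : ℤ) + v * (orderOf x : ℤ)) = x := by rw [huv, zpow_one]
    have h4 : x ^ (u * ((2 ^ n : ℕ) : ℤ) + v * (orderOf x : ℤ)) = (x ^ (2 ^ n)) ^ u := by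
      rw [zpow_add, mul_comm u, mul_comm v, zpow_mul, zpow_mul, zpow_natCast, zpow_natCast,
        pow_orderOf_eq_one, one_zpow, mul_one]
    rw [← h4, h3]
  rw [h2]
  exact K.zpow_mem h1 _

/-- If `H` is normal in `G` of 2-power index and `H` has a normal subgroup `K` of odd order and 2-power index,
then `K` is normal in `G` and complements any Sylow 2-subgroup. -/
theorem complement_of_subgroup [Finite G] (S : Sylow 2 G) (H : Subgroup G) [H.Normal] {m : ℕ} (hH : H.index = 2 ^ m)
    (K : Subgroup H) [K.Normal] {n : ℕ} (hK : K.index = 2 ^ n) (hKo : Odd (Nat.card K)) :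
    (K.map H.subtype).Normal ∧ (K.map H.subtype).IsComplement' (S : Subgroup G) := by
  have : Fact (Nat.Prime 2) := ⟨Nat.prime_two⟩
  have hchar : ∀ x : G, x ∈ K.map H.subtype ↔ x ∈ H ∧ Odd (orderOf x) := by
    intro x
    constructor
    · rintro ⟨y, hy, rfl⟩
      refine ⟨y.2, ?_⟩
      have h1 : orderOf (H.subtype y) = orderOf (⟨y, hy⟩ : K) := by
        rw [orderOf_injective H.subtype H.subtype_injective y]
        exact (Subgroup.orderOf_mk y hy).symm
      rw [h1]
      exact Odd.of_dvd_nat hKo (orderOf_dvd_natCard _)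
    · rintro ⟨hx, ho⟩
      refine ⟨⟨x, hx⟩, mem_of_odd hK ?_, rfl⟩
      rw [← orderOf_injective H.subtype H.subtype_injective ⟨x, hx⟩]
      exact ho
  have hn : (K.map H.subtype).Normal := by
    constructor
    intro x hx g
    rw [hchar] at hx ⊢
    refine ⟨‹H.Normal›.conj_mem x hx.1 g, ?_⟩
    have : orderOf (g * x * g⁻¹) = orderOf x := by
      have := orderOf_injective (MulAut.conj g).toMonoidHom (MulAut.conj g).injective x
      simpa using this
    rw [this]; exact hx.2
  refine ⟨hn, ?_⟩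
  have hcard : Nat.card (K.map H.subtype) = Nat.card K :=
    Subgroup.card_map_of_injective H.subtype_injective
  have hidx : (K.map H.subtype).index = 2 ^ (n + m) := by
    have h1 := Subgroup.relIndex_mul_index (Subgroup.map_subtype_le K)
    rw [H58.Rel.relIndex_map_subtype, hK, hH] at h1
    rw [← h1, pow_add]
  obtain ⟨s, hs⟩ := S.isPGroup'.exists_card_eq
  have hcop : Nat.Coprime (Nat.card (K.map H.subtype)) (Nat.card (S : Subgroup G)) := by
    rw [hcard, hs]
    exact (Nat.Coprime.pow_left s (Nat.coprime_two_left.2 hKo)).symm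
  apply Subgroup.isComplement'_of_coprime ?_ hcop
  have h1 := (K.map H.subtype).card_mul_index
  have h2 := (S : Subgroup G).card_mul_index
  rw [hidx, hcard] at h1
  rw [hs] at h2
  have hSo : Odd (S : Subgroup G).index := by
    rw [← Nat.not_even_iff_odd, even_iff_two_dvd]; exact S.not_dvd_index
  rw [hcard, hs, ← h1]
  congr 1
  -- 2^s and 2^(n+m) both equal the 2-part
  have h3 : Nat.card K * 2 ^ (n + m) = 2 ^ s * (S : Subgroup G).index := by rw [h1, h2]
  have h4 : 2 ^ (n + m) ∣ 2 ^ s := by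
    have : 2 ^ (n + m) ∣ 2 ^ s * (S : Subgroup G).index := by rw [← h3]; exact Dvd.intro_left _ rfl
    exact (Nat.Coprime.pow_left (n + m) (Nat.coprime_two_left.2 hSo)).dvd_of_dvd_mul_right this
  have h5 : 2 ^ s ∣ 2 ^ (n + m) := by
    have : 2 ^ s ∣ Nat.card K * 2 ^ (n + m) := by rw [h3]; exact Dvd.intro _ rfl
    exact (Nat.Coprime.pow_left s (Nat.coprime_two_left.2 hKo)).dvd_of_dvd_mul_left this
  exact Nat.dvd_antisymm h5 h4

end H58.OddAut
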