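import Cfsg.Agent.Lib.H58.RP6a

/-! Piece P6 of S3330: embeddings `Sym(5) → Sym(6)` and an extra involution. -/

set_option autoImplicit false
set_option maxRecDepth 100000

namespace H58.RP6

open Equiv H54.RA

theorem cyc5 (σ : Perm (Fin 6)) (h5 : σ ^ 5 = 1) (h1 : σ ≠ 1) : σ.cycleType = {5} := by
  haveI : Fact (Nat.Prime 5) := ⟨by norm_num⟩
  have ho : orderOf σ = 5 := orderOf_eq_prime h5 h1
  obtain ⟨n, hn⟩ := Equiv.Perm.cycleType_prime_order (σ := σ) (by rw [ho]; norm_num)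
  have hs := σ.sum_cycleType
  rw [hn, ho, Multiset.sum_replicate, smul_eq_mul] at hs
  have hc : σ.support.card ≤ 6 := by
    have := Finset.card_le_univ σ.support
    simpa using this
  have hn0 : n = 0 := by omega
  subst hn0
  rw [hn, ho]; rfl

/-- the 5-cycle of the path `0-4-1-2-3` -/
def x5 : Perm (Fin 5) := t5 * swap 4 1 * swap 1 2 * swap 2 3

theorem kk (φ : Perm (Fin 5) →* Perm (Fin 6)) (hc : φ x5 = c6) (u v : Perm (Fin 5)) (h : x5 * u * x5⁻¹ = v) :
    k6 (φ u) = φ v := by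
  rw [k6, ← hc, ← map_inv, ← map_mul, ← map_mul, h]

theorem cc_iff (a b y : Perm (Fin 6)) (h : cc a b y = true) :
    (a * y = y * a ∧ (b * y) ^ 3 = 1 ∧ b * y ≠ 1) ∨ (b * y = y * b ∧ (a * y) ^ 3 = 1 ∧ a * y ≠ 1) := by
  simp only [cc, Bool.or_eq_true, Bool.and_eq_true, decide_eq_true_eq, Bool.not_eq_true',
    decide_eq_false_iff_not] at h
  rcases h with ⟨⟨h1, h2⟩, h3⟩ | ⟨⟨h1, h2⟩, h3⟩
  · exact Or.inl ⟨h1, by rw [pow_three']; exact h2, h3⟩
  · exact Or.inr ⟨h1, by rw [pow_three']; exact h2, h3⟩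

theorem aux (φ : Perm (Fin 5) →* Perm (Fin 6)) (hφ : Function.Injective φ) (hc : φ x5 = c6)
    (a : Perm (Fin 6)) (ha : a * a = 1) (h1 : a * φ (swap 1 2) = φ (swap 1 2) * a)
    (h2 : a * φ (swap 2 3) = φ (swap 2 3) * a) (h3 : (a * φ t5) ^ 3 = 1) (hne : a ≠ φ t5)
    (j : Fin 5) (hj : j = 1 ∨ j = 3) :
    (a * φ (swap j 4) = φ (swap j 4) * a ∧ ((φ t5 * a * φ t5) * φ (swap j 4)) ^ 3 = 1 ∧
      (φ t5 * a * φ t5) * φ (swap j 4) ≠ 1) ∨
    ((φ t5 * a * φ t5) * φ (swap j 4) = φ (swap j 4) * (φ t5 * a * φ t5) ∧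
      (a * φ (swap j 4)) ^ 3 = 1 ∧ a * φ (swap j 4) ≠ 1) := by
  have k1 : k6 (φ t5) = φ (swap 4 1) := kk φ hc _ _ (by decide +kernel)
  have k2 : k6 (φ (swap 4 1)) = φ (swap 1 2) := kk φ hc _ _ (by decide +kernel)
  have k3 : k6 (φ (swap 1 2)) = φ (swap 2 3) := kk φ hc _ _ (by decide +kernel)
  have k4 : k6 (φ (swap 2 3)) = φ (swap 3 0) := kk φ hc _ _ (by decide +kernel)
  have hS : chkS (φ t5) = true := by
    simp only [chkS, Bool.and_eq_true, decide_eq_true_eq, Bool.not_eq_true', decide_eq_false_iff_not,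
      k1, k2, k3]
    refine ⟨⟨⟨⟨?_, ?_⟩, ?_⟩, ?_⟩, ?_⟩
    · rw [← map_mul, show t5 * t5 = 1 from by decide +kernel, map_one]
    · intro h
      have : t5 = 1 := hφ (by rw [h, map_one])
      exact absurd this (by decide +kernel)
    · simp only [← map_mul]
      rw [show t5 * swap 4 1 * (t5 * swap 4 1) * (t5 * swap 4 1) = 1 from by decide +kernel, map_one]
    · simp only [← map_mul]
      rw [show t5 * swap 1 2 = swap 1 2 * t5 from by decide +kernel]
    · simp only [← map_mul]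
      exact hc
  have hA : chkA (φ t5) a = true := by
    simp only [chkA, Bool.and_eq_true, decide_eq_true_eq, Bool.not_eq_true', decide_eq_false_iff_not,
      k1, k2, k3]
    refine ⟨⟨⟨⟨ha, hne⟩, ?_⟩, h1⟩, h2⟩
    rw [← pow_three']; exact h3
  have hF := bf (φ t5) a hS hA
  simp only [fin6, Bool.and_eq_true, k1, k2, k3, k4] at hF
  obtain ⟨hF1, hF2⟩ := hF
  rcases hj with rfl | rfl
  · have := cc_iff _ _ _ hF1
    rw [show (swap 4 1 : Perm (Fin 5)) = swap 1 4 from swap_comm _ _] at this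
    exact this
  · have h34 : φ t5 * φ (swap 3 0) * φ t5 = φ (swap 3 4) := by
      simp only [← map_mul]
      rw [show t5 * swap 3 0 * t5 = swap 3 4 from by decide +kernel]
    rw [h34] at hF2
    exact cc_iff _ _ _ hF2

theorem p6 (φ : Perm (Fin 5) →* Perm (Fin 6)) (hφ : Function.Injective φ) (a : Perm (Fin 6))
    (ha : a * a = 1) (h1 : a * φ (swap 1 2) = φ (swap 1 2) * a)
    (h2 : a * φ (swap 2 3) = φ (swap 2 3) * a) (h3 : (a * φ t5) ^ 3 = 1) (hne : a ≠ φ t5)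
    (j : Fin 5) (hj : j = 1 ∨ j = 3) :
    (a * φ (swap j 4) = φ (swap j 4) * a ∧ ((φ t5 * a * φ t5) * φ (swap j 4)) ^ 3 = 1 ∧
      (φ t5 * a * φ t5) * φ (swap j 4) ≠ 1) ∨
    ((φ t5 * a * φ t5) * φ (swap j 4) = φ (swap j 4) * (φ t5 * a * φ t5) ∧
      (a * φ (swap j 4)) ^ 3 = 1 ∧ a * φ (swap j 4) ≠ 1) := by
  obtain ⟨e, he⟩ : ∃ e : Perm (Fin 6) ≃* Perm (Fin 6), e (φ x5) = c6 := by
    have hx : (φ x5).cycleType = {5} := by
      apply cyc5
      · rw [← map_pow, show x5 ^ 5 = 1 from by decide +kernel, map_one]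
      · intro h
        have : x5 = 1 := hφ (by rw [h, map_one])
        exact absurd this (by decide +kernel)
    have hx' : c6.cycleType = {5} := cyc5 _ (by decide +kernel) (by decide +kernel)
    obtain ⟨g, hg⟩ := isConj_iff.mp (Equiv.Perm.isConj_iff_cycleType_eq.mpr (hx.trans hx'.symm))
    exact ⟨MulAut.conj g, hg⟩
  have key := aux (e.toMonoidHom.comp φ) (fun x y h => hφ (e.injective h)) he (e a)
    (by rw [← map_mul, ha, map_one])
    (by
      show e a * e (φ _) = e (φ _) * e a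
      rw [← map_mul, h1, map_mul])
    (by
      show e a * e (φ _) = e (φ _) * e a
      rw [← map_mul, h2, map_mul])
    (by
      show (e a * e (φ _)) ^ 3 = 1
      rw [← map_mul, ← map_pow, h3, map_one])
    (fun h => hne (e.injective h)) j hj
  change (e a * e (φ (swap j 4)) = e (φ (swap j 4)) * e a ∧
      ((e (φ t5) * e a * e (φ t5)) * e (φ (swap j 4))) ^ 3 = 1 ∧
      (e (φ t5) * e a * e (φ t5)) * e (φ (swap j 4)) ≠ 1) ∨
    ((e (φ t5) * e a * e (φ t5)) * e (φ (swap j 4)) = e (φ (swap j 4)) * (e (φ t5) * e a * e (φ t5)) ∧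
      (e a * e (φ (swap j 4))) ^ 3 = 1 ∧ e a * e (φ (swap j 4)) ≠ 1) at key
  simp only [← map_mul, ← map_pow] at key
  rcases key with ⟨k1, k2, k3⟩ | ⟨k1, k2, k3⟩
  · exact Or.inl ⟨e.injective k1, e.injective (by rw [k2, map_one]), fun h => k3 (by rw [h, map_one])⟩
  · exact Or.inr ⟨e.injective k1, e.injective (by rw [k2, map_one]), fun h => k3 (by rw [h, map_one])⟩

end H58.RP6
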