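import Cfsg.Agent.Lib.H54.RA0

/-! Piece P6 of S3330: embeddings `Sym(5) → Sym(6)` and an extra involution. -/

set_option autoImplicit false
set_option maxRecDepth 100000

namespace H58.RP6

open Equiv H54.RA

/-- `(0 1 2 3 4)` -/
def c6 : Perm (Fin 6) where
  toFun := ![1, 2, 3, 4, 0, 5]
  invFun := ![4, 0, 1, 2, 3, 5]
  left_inv := by decide
  right_inv := by decide

/-- conjugation by `c6` -/
def k6 (s : Perm (Fin 6)) : Perm (Fin 6) := c6 * s * c6⁻¹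

def chkS (s : Perm (Fin 6)) : Bool :=
  decide (s * s = 1) && !decide (s = 1) && decide ((s * k6 s) * (s * k6 s) * (s * k6 s) = 1) &&
    decide (s * k6 (k6 s) = k6 (k6 s) * s) && decide (s * k6 s * k6 (k6 s) * k6 (k6 (k6 s)) = c6)

def chkA (s a : Perm (Fin 6)) : Bool :=
  decide (a * a = 1) && !decide (a = s) && decide ((a * s) * (a * s) * (a * s) = 1) &&
    decide (a * k6 (k6 s) = k6 (k6 s) * a) && decide (a * k6 (k6 (k6 s)) = k6 (k6 (k6 s)) * a)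

def cc (a b y : Perm (Fin 6)) : Bool :=
  (decide (a * y = y * a) && decide ((b * y) * (b * y) * (b * y) = 1) && !decide (b * y = 1)) ||
    (decide (b * y = y * b) && decide ((a * y) * (a * y) * (a * y) = 1) && !decide (a * y = 1))

def fin6 (s a : Perm (Fin 6)) : Bool :=
  cc a (s * a * s) (k6 s) && cc a (s * a * s) (s * k6 (k6 (k6 (k6 s))) * s)

/-- explicit permutation -/
def mk6 (f g : Fin 6 → Fin 6) (h : ∀ i, g (f i) = i) (h' : ∀ i, f (g i) = i) : Perm (Fin 6) := ⟨f, g, h, h'⟩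

def L : List (Perm (Fin 6)) := [
  mk6 ![0, 1, 2, 4, 3, 5] ![0, 1, 2, 4, 3, 5] (by decide) (by decide),
  mk6 ![0, 1, 3, 2, 4, 5] ![0, 1, 3, 2, 4, 5] (by decide) (by decide),
  mk6 ![0, 2, 1, 3, 4, 5] ![0, 2, 1, 3, 4, 5] (by decide) (by decide),
  mk6 ![1, 0, 2, 3, 4, 5] ![1, 0, 2, 3, 4, 5] (by decide) (by decide),
  mk6 ![1, 0, 3, 2, 5, 4] ![1, 0, 3, 2, 5, 4] (by decide) (by decide),
  mk6 ![1, 0, 5, 4, 3, 2] ![1, 0, 5, 4, 3, 2] (by decide) (by decide),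
  mk6 ![4, 1, 2, 3, 0, 5] ![4, 1, 2, 3, 0, 5] (by decide) (by decide),
  mk6 ![4, 2, 1, 5, 0, 3] ![4, 2, 1, 5, 0, 3] (by decide) (by decide),
  mk6 ![4, 5, 3, 2, 0, 1] ![4, 5, 3, 2, 0, 1] (by decide) (by decide),
  mk6 ![5, 2, 1, 4, 3, 0] ![5, 2, 1, 4, 3, 0] (by decide) (by decide)]

theorem bfS : ∀ s : Perm (Fin 6), chkS s = true → s ∈ L := by
  decide +kernel

theorem bfA : ∀ s ∈ L, ∀ a : Perm (Fin 6), chkA s a = true → fin6 s a = true := by
  decide +kernel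

theorem bf (s a : Perm (Fin 6)) (h : chkS s = true) (h' : chkA s a = true) : fin6 s a = true :=
  bfA s (bfS s h) a h'

end H58.RP6
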