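import Mathlib

/-!
# Facts on the alternating group of degree five (Klein four-subgroup, automorphisms fixing it)
-/

set_option autoImplicit false

open Equiv Subgroup

namespace H58.WC

abbrev A5 := ↥(alternatingGroup (Fin 5))

def s1 : A5 := ⟨c[0,1]*c[2,3], by rw [Equiv.Perm.mem_alternatingGroup]; decide +kernel⟩
def s2 : A5 := ⟨c[0,2]*c[1,3], by rw [Equiv.Perm.mem_alternatingGroup]; decide +kernel⟩
def f0 : A5 := ⟨c[0,2,1], by rw [Equiv.Perm.mem_alternatingGroup]; decide +kernel⟩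
def h0 : A5 := ⟨c[2,3,4], by rw [Equiv.Perm.mem_alternatingGroup]; decide +kernel⟩

theorem s1_sq : s1 * s1 = 1 := by decide +kernel
theorem s2_sq : s2 * s2 = 1 := by decide +kernel
theorem s1_ne : s1 ≠ 1 := by decide +kernel
theorem s2_ne : s2 ≠ 1 := by decide +kernel
theorem s12_ne : s1 * s2 ≠ 1 := by decide +kernel
theorem s_comm : s1 * s2 = s2 * s1 := by decide +kernel
theorem f0_cube : f0 * f0 * f0 = 1 := by decide +kernel
theorem f0_s1 : f0 * s1 = s2 * f0 := by decide +kernel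
theorem f0_s2 : f0 * s2 = s1 * s2 * f0 := by decide +kernel

theorem dec_y : ∀ y : A5, y * s1 = s2 * y → y * s2 = s1 * s2 * y →
    y = f0 ∨ y = s1 * f0 * s1⁻¹ ∨ y = s2 * f0 * s2⁻¹ ∨ y = (s1 * s2) * f0 * (s1 * s2)⁻¹ := by decide +kernel

theorem dec_z : ∀ z : A5, z * z * z = 1 → (s1 * z) * (s1 * z) = 1 → (f0 * s1 * z) * (f0 * s1 * z) = 1 → z = h0 := by
  decide +kernel

theorem h0_1 : h0 * h0 * h0 = 1 := by decide +kernel
theorem h0_2 : (s1 * h0) * (s1 * h0) = 1 := by decide +kernel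
theorem h0_3 : (f0 * s1 * h0) * (f0 * s1 * h0) = 1 := by decide +kernel

theorem dec_gen : ∀ x : A5, ∃ i : Fin 2, ∃ j : Fin 2, ∃ k : Fin 3,
    x = s1 ^ (i : ℕ) * s2 ^ (j : ℕ) * f0 ^ (k : ℕ) ∨ x = s1 ^ (i : ℕ) * s2 ^ (j : ℕ) * f0 ^ (k : ℕ) * h0 ∨
    x = s1 ^ (i : ℕ) * s2 ^ (j : ℕ) * f0 ^ (k : ℕ) * (h0 * h0) ∨ x = s1 ^ (i : ℕ) * s2 ^ (j : ℕ) * f0 ^ (k : ℕ) * (h0 * s2) ∨
    x = s1 ^ (i : ℕ) * s2 ^ (j : ℕ) * f0 ^ (k : ℕ) * (h0 * s1 * s2) := by decide +kernel

/-- an automorphism fixing `s1`, `s2`, `f0`, `h0` is trivial -/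
theorem eq_of_gen (α : A5 ≃* A5) (a1 : α s1 = s1) (a2 : α s2 = s2) (a3 : α f0 = f0) (a4 : α h0 = h0) (x : A5) : α x = x := by
  obtain ⟨i, j, k, h | h | h | h | h⟩ := dec_gen x <;> rw [h] <;> simp only [map_mul, map_pow, a1, a2, a3, a4]

theorem aut_V (α : A5 ≃* A5) (a1 : α s1 = s1) (a2 : α s2 = s2) :
    ∃ v : A5, (v = 1 ∨ v = s1 ∨ v = s2 ∨ v = s1 * s2) ∧ ∀ x, α x = v * x * v⁻¹ := by
  have key : ∃ v : A5, (v = 1 ∨ v = s1 ∨ v = s2 ∨ v = s1 * s2) ∧ α f0 = v * f0 * v⁻¹ := by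
    have h1 : α f0 * s1 = s2 * α f0 := by
      have := congrArg α f0_s1
      rwa [map_mul, map_mul, a1, a2] at this
    have h2 : α f0 * s2 = s1 * s2 * α f0 := by
      have := congrArg α f0_s2
      rwa [map_mul, map_mul, map_mul, a1, a2] at this
    rcases dec_y _ h1 h2 with h | h | h | h
    · exact ⟨1, Or.inl rfl, by rw [h]; group⟩
    · exact ⟨s1, Or.inr (Or.inl rfl), h⟩
    · exact ⟨s2, Or.inr (Or.inr (Or.inl rfl)), h⟩
    · exact ⟨s1 * s2, Or.inr (Or.inr (Or.inr rfl)), h⟩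
  obtain ⟨v, hv, hf⟩ := key
  refine ⟨v, hv, ?_⟩
  have hv1 : v⁻¹ * s1 * v = s1 := by
    rcases hv with h | h | h | h <;> subst h <;> decide +kernel
  have hv2 : v⁻¹ * s2 * v = s2 := by
    rcases hv with h | h | h | h <;> subst h <;> decide +kernel
  let β : A5 ≃* A5 := α.trans (MulAut.conj v⁻¹)
  have hβ : ∀ x, β x = v⁻¹ * α x * v := by
    intro x
    simp [β]
  have b1 : β s1 = s1 := by rw [hβ, a1, hv1]
  have b2 : β s2 = s2 := by rw [hβ, a2, hv2]
  have b3 : β f0 = f0 := by rw [hβ, hf]; group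
  have b4 : β h0 = h0 := by
    apply dec_z
    · have := congrArg β h0_1
      simpa only [map_mul, map_one] using this
    · have := congrArg β h0_2
      simpa only [map_mul, map_one, b1] using this
    · have := congrArg β h0_3
      simpa only [map_mul, map_one, b1, b3] using this
  intro x
  have := eq_of_gen β b1 b2 b3 b4 x
  rw [hβ] at this
  calc α x = v * (v⁻¹ * α x * v) * v⁻¹ := by group
    _ = v * x * v⁻¹ := by rw [this]

/-- the standard Klein four-group -/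
def V4 : Subgroup A5 where
  carrier := {x | x = 1 ∨ x = s1 ∨ x = s2 ∨ x = s1 * s2}
  mul_mem' := by
    rintro a b (h | h | h | h) (h' | h' | h' | h') <;> subst h <;> subst h' <;> decide +kernel
  one_mem' := Or.inl rfl
  inv_mem' := by
    rintro a (h | h | h | h) <;> subst h <;> decide +kernel

theorem mem_V4 {x : A5} : x ∈ V4 ↔ x = 1 ∨ x = s1 ∨ x = s2 ∨ x = s1 * s2 := Iff.rfl

theorem card_V4 : Nat.card V4 = 4 := by
  have e : (V4 : Set A5) = (({1, s1, s2, s1 * s2} : Finset A5) : Set A5) := by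
    ext x
    rw [SetLike.mem_coe, mem_V4]
    simp
  rw [← SetLike.coe_sort_coe, Nat.card_coe_set_eq, e, Set.ncard_coe_finset]
  decide +kernel

theorem card_A5 : Nat.card A5 = 60 := by
  rw [nat_card_alternatingGroup, Nat.card_eq_fintype_card]
  rfl

/-- center of `A5` -/
theorem center_A5 : ∀ x : A5, (∀ y : A5, x * y = y * x) → x = 1 := by decide +kernel

/-- every Sylow 2-subgroup of a copy of `A5` is a standard Klein group in suitable coordinates -/
theorem exists_std {A : Type*} [Group A] [Finite A] (e : A ≃* A5) (V : Subgroup A) (hV : IsPGroup 2 V) (hidx : Odd V.index) :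
    ∃ ψ : A ≃* A5, ∀ a : A, a ∈ V ↔ (ψ a = 1 ∨ ψ a = s1 ∨ ψ a = s2 ∨ ψ a = s1 * s2) := by
  haveI : Fact (Nat.Prime 2) := ⟨Nat.prime_two⟩
  have h1 : IsPGroup 2 (V.map e.toMonoidHom) := hV.map _
  have h2 : IsPGroup 2 V4 := IsPGroup.of_card (n := 2) (by rw [card_V4]; norm_num)
  have i1 : ¬ 2 ∣ (V.map e.toMonoidHom).index := by
    have : (V.map e.toMonoidHom).index = V.index := by
      rw [Subgroup.index_map_of_bijective]
      exact e.bijective
    rw [this]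
    intro h
    exact (Nat.not_even_iff_odd.mpr hidx) (even_iff_two_dvd.mpr h)
  have i2 : ¬ 2 ∣ V4.index := by
    have := V4.card_mul_index
    rw [card_V4, card_A5] at this
    have h : V4.index = 15 := by omega
    rw [h]; norm_num
  let P : Sylow 2 A5 := h1.toSylow i1
  let Q : Sylow 2 A5 := h2.toSylow i2
  obtain ⟨g, hg⟩ := MulAction.exists_smul_eq A5 P Q
  refine ⟨e.trans (MulAut.conj g), fun a => ?_⟩
  have hmem : ∀ x : A5, x ∈ V.map e.toMonoidHom ↔ g * x * g⁻¹ ∈ V4 := by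
    intro x
    have e1 : x ∈ (P : Subgroup A5) ↔ x ∈ V.map e.toMonoidHom := Iff.rfl
    have e2 : g * x * g⁻¹ ∈ (Q : Subgroup A5) ↔ g * x * g⁻¹ ∈ V4 := Iff.rfl
    rw [← e1, ← e2, ← hg]
    change _ ↔ g * x * g⁻¹ ∈ ((g • P : Sylow 2 A5) : Subgroup A5)
    rw [Sylow.coe_subgroup_smul, Subgroup.mem_pointwise_smul_iff_inv_smul_mem]
    simp [mul_assoc]
  have h3 : a ∈ V ↔ e a ∈ V.map e.toMonoidHom := by
    constructor
    · intro h; exact ⟨a, h, rfl⟩
    · rintro ⟨b, hb, hb2⟩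
      have : b = a := e.injective hb2
      rwa [this] at hb
  rw [h3, hmem, mem_V4]
  rfl

end H58.WC
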