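import Mathlib
import Cfsg.Agent.Lib.H58.WCa
import Cfsg.Agent.Lib.H58.Rel

/-!
# The weak closure set-up: `W(d) = ⟨D ∩ C(d)⟩ ≅ 2 × A₅` for all `d ∈ D`
-/

set_option autoImplicit false
set_option linter.style.haveILetI false

open Subgroup
open scoped commutatorElement

namespace H58.WC

variable {G : Type*} [Group G]

section bas

theorem card_subgroupOf (H K : Subgroup G) : Nat.card (H.subgroupOf K) = Nat.card (H ⊓ K : Subgroup G) := by
  rw [← Subgroup.inf_subgroupOf_right, Nat.card_congr (Subgroup.subgroupOfEquivOfLe (inf_le_right : H ⊓ K ≤ K)).toEquiv]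

/-- order formula for `K N` with `N` normal -/
theorem card_sup_mul_card_inf [Finite G] (K N : Subgroup G) [N.Normal] :
    Nat.card (K ⊔ N : Subgroup G) * Nat.card (K ⊓ N : Subgroup G) = Nat.card K * Nat.card N := by
  have h1 : N.relIndex (K ⊔ N) = N.relIndex K := Subgroup.relIndex_sup_right K N
  have a1 : Nat.card N * N.relIndex (K ⊔ N) = Nat.card (K ⊔ N : Subgroup G) := by
    have := (N.subgroupOf (K ⊔ N)).card_mul_index
    rwa [Nat.card_congr (Subgroup.subgroupOfEquivOfLe (le_sup_right : N ≤ K ⊔ N)).toEquiv] at this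
  have a2 : Nat.card (K ⊓ N : Subgroup G) * N.relIndex K = Nat.card K := by
    have := (N.subgroupOf K).card_mul_index
    rw [card_subgroupOf, inf_comm] at this
    exact this
  rw [h1] at a1
  rw [← a1, ← a2]; ring

theorem relIndex_sup_eq [Finite G] (K N : Subgroup G) [N.Normal] : K.relIndex (K ⊔ N) = K.relIndex N := by
  have hcards := card_sup_mul_card_inf K N
  have b1 : Nat.card (K ⊓ N : Subgroup G) * K.relIndex N = Nat.card N := by
    have := (K.subgroupOf N).card_mul_index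
    rwa [card_subgroupOf] at this
  have b2 : Nat.card K * K.relIndex (K ⊔ N) = Nat.card (K ⊔ N : Subgroup G) := by
    have := (K.subgroupOf (K ⊔ N)).card_mul_index
    rwa [Nat.card_congr (Subgroup.subgroupOfEquivOfLe (le_sup_left : K ≤ K ⊔ N)).toEquiv] at this
  have p1 : 0 < Nat.card (K ⊓ N : Subgroup G) := Nat.card_pos
  have p2 : 0 < Nat.card K := Nat.card_pos
  rw [← b1, ← b2] at hcards
  have : Nat.card K * Nat.card (K ⊓ N : Subgroup G) * K.relIndex (K ⊔ N) = Nat.card K * Nat.card (K ⊓ N : Subgroup G) * K.relIndex N := by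
    linarith [hcards]
  exact Nat.eq_of_mul_eq_mul_left (Nat.mul_pos p2 p1) this

/-- `[N : N ∩ K]` divides `[G : K]` for `N` normal -/
theorem relIndex_dvd_index [Finite G] (K N : Subgroup G) [N.Normal] : K.relIndex N ∣ K.index := by
  rw [← relIndex_sup_eq]
  exact Subgroup.relIndex_dvd_index_of_le le_sup_left


end bas

def W (D : Set G) (d : G) : Subgroup G := closure {x | x ∈ D ∧ x * d = d * x}
def A (D : Set G) (d : G) : Subgroup G := ⁅W D d, W D d⁆

structure Hy (D : Set G) : Prop where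
  conj : ∀ x ∈ D, ∀ g : G, g * x * g⁻¹ ∈ D
  trans : ∀ x ∈ D, ∀ y ∈ D, ∃ g : G, g * x * g⁻¹ = y
  sq : ∀ x ∈ D, x * x = 1
  ne1 : ∀ x ∈ D, x ≠ 1
  cent : ∀ x ∈ D, ∃ S : Sylow 2 G, x ∈ S ∧ ∀ s ∈ S, s * x = x * s
  iso : ∀ x ∈ D, Nonempty (W D x ≃* Multiplicative (ZMod 2) × A5)

variable {D : Set G}

theorem Hy.W_conj (h : Hy D) (g d : G) {x : G} (hx : x ∈ W D d) : g * x * g⁻¹ ∈ W D (g * d * g⁻¹) := by
  have h1 : W D d ≤ (W D (g * d * g⁻¹)).comap (MulAut.conj g).toMonoidHom := by
    refine (closure_le _).2 ?_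
    rintro y ⟨hy1, hy2⟩
    refine subset_closure ⟨h.conj y hy1 g, ?_⟩
    change g * y * g⁻¹ * (g * d * g⁻¹) = g * d * g⁻¹ * (g * y * g⁻¹)
    calc g * y * g⁻¹ * (g * d * g⁻¹) = g * (y * d) * g⁻¹ := by group
      _ = g * (d * y) * g⁻¹ := by rw [hy2]
      _ = _ := by group
  exact h1 hx

theorem Hy.A_conj (h : Hy D) (g d : G) {x : G} (hx : x ∈ A D d) : g * x * g⁻¹ ∈ A D (g * d * g⁻¹) := by
  have h1 : (A D d).map (MulAut.conj g).toMonoidHom ≤ A D (g * d * g⁻¹) := by
    unfold A
    rw [map_commutator]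
    apply commutator_mono
    · rintro _ ⟨y, hy, rfl⟩
      exact h.W_conj g d hy
    · rintro _ ⟨y, hy, rfl⟩
      exact h.W_conj g d hy
  exact h1 ⟨x, hx, rfl⟩

theorem Hy.W_cent (h : Hy D) {g d : G} (hg : g * d = d * g) {x : G} (hx : x ∈ W D d) : g * x * g⁻¹ ∈ W D d := by
  have := h.W_conj g d hx
  rwa [hg, mul_inv_cancel_right] at this

theorem Hy.A_cent (h : Hy D) {g d : G} (hg : g * d = d * g) {x : G} (hx : x ∈ A D d) : g * x * g⁻¹ ∈ A D d := by
  have := h.A_conj g d hx
  rwa [hg, mul_inv_cancel_right] at this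

theorem Hy.dW (_h : Hy D) {d : G} (hd : d ∈ D) : d ∈ W D d := subset_closure ⟨hd, rfl⟩

theorem Hy.cW {d : G} {w : G} (hw : w ∈ W D d) : w * d = d * w := by
  have h1 : W D d ≤ centralizer {d} := (closure_le _).2 (fun y hy => mem_centralizer_singleton_iff.2 hy.2)
  exact (mem_centralizer_singleton_iff.1 (h1 hw))

theorem Hy.AW {d : G} : A D d ≤ W D d := by
  unfold A
  rw [commutator_le]
  intro a ha b hb
  rw [commutatorElement_def]
  exact mul_mem (mul_mem (mul_mem ha hb) (inv_mem ha)) (inv_mem hb)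

theorem Hy.inv (h : Hy D) {d : G} (hd : d ∈ D) : d⁻¹ = d := inv_eq_of_mul_eq_one_right (h.sq d hd)

structure Lc (D : Set G) (d : G) (j : A5 →* G) : Prop where
  inj : Function.Injective j
  rng : ∀ x, x ∈ A D d ↔ ∃ y, j y = x
  dA : d ∉ A D d
  half : ∀ w ∈ W D d, w ∈ A D d ∨ d * w ∈ A D d

theorem two_elts : ∀ c : Multiplicative (ZMod 2), c = 1 ∨ c = Multiplicative.ofAdd 1 := by decide

theorem commutator_A5 : ⁅(⊤ : Subgroup A5), (⊤ : Subgroup A5)⁆ = ⊤ := by
  haveI : IsSimpleGroup A5 := alternatingGroup.isSimpleGroup (by simp)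
  have hn : (⁅(⊤ : Subgroup A5), (⊤ : Subgroup A5)⁆).Normal := inferInstance
  rcases hn.eq_bot_or_eq_top with h | h
  · exfalso
    have : ⁅f0, s1⁆ ∈ ⁅(⊤ : Subgroup A5), (⊤ : Subgroup A5)⁆ := commutator_mem_commutator (mem_top _) (mem_top _)
    rw [h, mem_bot] at this
    revert this
    decide +kernel
  · exact h

theorem Hy.exists_loc (h : Hy D) {d : G} (hd : d ∈ D) : ∃ j : A5 →* G, Lc D d j := by
  obtain ⟨φ⟩ := h.iso d hd
  let dd : W D d := ⟨d, h.dW hd⟩
  have hdc : ∀ w : W D d, dd * w = w * dd := fun w => Subtype.ext (Hy.cW w.2).symm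
  have hφ2 : (φ dd).2 = 1 := by
    apply center_A5
    intro y
    have := congrArg φ (hdc (φ.symm (1, y)))
    rw [map_mul, map_mul, MulEquiv.apply_symm_apply] at this
    exact congrArg Prod.snd this
  have hφ1 : (φ dd).1 = Multiplicative.ofAdd 1 := by
    rcases two_elts (φ dd).1 with h1 | h1
    · exfalso
      have : φ dd = 1 := Prod.ext h1 hφ2
      rw [map_eq_one_iff φ φ.injective] at this
      exact h.ne1 d hd (congrArg Subtype.val this)
    · exact h1
  let j : A5 →* G := (W D d).subtype.comp (φ.symm.toMonoidHom.comp (MonoidHom.inr _ _))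
  have hj : ∀ y, j y = (φ.symm (1, y) : G) := fun y => rfl
  have hjr : ∀ x : W D d, (∃ y, j y = (x : G)) ↔ (φ x).1 = 1 := by
    intro x
    constructor
    · rintro ⟨y, hy⟩
      rw [hj] at hy
      have : φ.symm (1, y) = x := Subtype.ext hy
      rw [← this, MulEquiv.apply_symm_apply]
    · intro hx
      refine ⟨(φ x).2, ?_⟩
      rw [hj]
      have : ((1 : Multiplicative (ZMod 2)), (φ x).2) = φ x := Prod.ext hx.symm rfl
      rw [this, MulEquiv.symm_apply_apply]
  have hr : ∀ x, x ∈ A D d ↔ ∃ y, j y = x := by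
    intro x
    constructor
    · intro hx
      have h1 : A D d ≤ j.range := by
        unfold A
        rw [commutator_le]
        intro a ha b hb
        have h2 := (hjr ⁅(⟨a, ha⟩ : W D d), ⟨b, hb⟩⁆).2 (by
          rw [map_commutatorElement]
          change ⁅(φ _).1, (φ _).1⁆ = 1
          rw [commutatorElement_eq_one_iff_mul_comm]
          exact mul_comm _ _)
        exact h2
      exact h1 hx
    · rintro ⟨y, rfl⟩
      have h1 : (⁅(⊤ : Subgroup A5), (⊤ : Subgroup A5)⁆).map j ≤ A D d := by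
        unfold A
        rw [map_commutator]
        apply commutator_mono
        · rintro _ ⟨z, _, rfl⟩
          exact (φ.symm (1, z)).2
        · rintro _ ⟨z, _, rfl⟩
          exact (φ.symm (1, z)).2
      rw [commutator_A5] at h1
      exact h1 ⟨y, mem_top _, rfl⟩
  refine ⟨j, ?_, hr, ?_, ?_⟩
  · intro a b hab
    have h1 : φ.symm (1, a) = φ.symm (1, b) := Subtype.ext hab
    have h2 := φ.symm.injective h1
    exact congrArg Prod.snd h2
  · intro hdA
    have h1 := (hjr dd).1 ((hr d).1 hdA)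
    rw [hφ1] at h1
    revert h1
    decide
  · intro w hw
    rcases two_elts (φ ⟨w, hw⟩).1 with h1 | h1
    · left
      exact (hr w).2 ((hjr ⟨w, hw⟩).2 h1)
    · right
      refine (hr (d * w)).2 ((hjr (dd * ⟨w, hw⟩)).2 ?_)
      rw [map_mul, Prod.fst_mul, hφ1, h1]
      decide

variable {d : G} {j : A5 →* G}

theorem Lc.mem (L : Lc D d j) (y : A5) : j y ∈ A D d := (L.rng _).2 ⟨y, rfl⟩

theorem Lc.cent_A (L : Lc D d j) {a : G} (ha : a ∈ A D d) (hc : ∀ b ∈ A D d, a * b = b * a) : a = 1 := by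
  obtain ⟨y, rfl⟩ := (L.rng a).1 ha
  have : y = 1 := by
    apply center_A5
    intro z
    apply L.inj
    rw [map_mul, map_mul]
    exact hc _ (L.mem z)
  rw [this, map_one]

theorem Lc.cent_W (L : Lc D d j) (h : Hy D) (hd : d ∈ D) {w : G} (hw : w ∈ W D d) (hc : ∀ b ∈ A D d, w * b = b * w) :
    w = 1 ∨ w = d := by
  rcases L.half w hw with h1 | h1
  · left
    exact L.cent_A h1 hc
  · right
    have := L.cent_A h1 (fun b hb => by
      have h2 : b * d = d * b := Hy.cW (Hy.AW hb)
      calc d * w * b = d * (w * b) := by group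
        _ = d * (b * w) := by rw [hc b hb]
        _ = (d * b) * w := by group
        _ = (b * d) * w := by rw [h2]
        _ = _ := by group)
    calc w = d⁻¹ * (d * w) := by group
      _ = d := by rw [this, mul_one, h.inv hd]

/-- coordinates adapted to a Sylow subgroup centralising `d` -/
theorem Hy.exists_coord [Finite G] (h : Hy D) {d : G} (hd : d ∈ D) (S : Sylow 2 G) (hS : ∀ s ∈ S, s * d = d * s) :
    ∃ j : A5 →* G, Lc D d j ∧ ∀ y, j y ∈ S ↔ (y = 1 ∨ y = s1 ∨ y = s2 ∨ y = s1 * s2) := by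
  haveI : Fact (Nat.Prime 2) := ⟨Nat.prime_two⟩
  obtain ⟨j, L⟩ := h.exists_loc hd
  -- iso A ≃ A5
  have hrange : j.range = A D d := by
    ext x
    rw [L.rng]
    rfl
  let e0 : A5 ≃* A D d := (MonoidHom.ofInjective L.inj).trans (MulEquiv.subgroupCongr hrange)
  have he0 : ∀ y, ((e0 y : A D d) : G) = j y := fun y => rfl
  -- index of S ∩ A in A
  have hAC : A D d ≤ centralizer {d} := fun x hx => mem_centralizer_singleton_iff.2 (Hy.cW (Hy.AW hx))
  have hSC : (S : Subgroup G) ≤ centralizer {d} := fun x hx => mem_centralizer_singleton_iff.2 (hS x hx)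
  have hodd : Odd ((S : Subgroup G).relIndex (A D d)) := by
    have hn : ((A D d).subgroupOf (centralizer {d})).Normal := ⟨fun n hn g => by
      rw [mem_subgroupOf] at hn ⊢
      exact h.A_cent (mem_centralizer_singleton_iff.1 g.2) hn⟩
    have h1 := relIndex_dvd_index ((S : Subgroup G).subgroupOf (centralizer {d})) ((A D d).subgroupOf (centralizer {d}))
    rw [relIndex_subgroupOf hAC] at h1
    have h2 : ((S : Subgroup G).subgroupOf (centralizer {d})).index ∣ (S : Subgroup G).index := Subgroup.relIndex_dvd_index_of_le hSC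
    have h3 := S.not_dvd_index
    rw [← Nat.not_even_iff_odd, even_iff_two_dvd]
    exact fun h4 => h3 ((h4.trans h1).trans h2)
  obtain ⟨ψ, hψ⟩ := exists_std e0.symm ((S : Subgroup G).subgroupOf (A D d)) (S.isPGroup'.comap_subtype) hodd
  let j' : A5 →* G := (A D d).subtype.comp ψ.symm.toMonoidHom
  have hj' : ∀ y, j' y = ((ψ.symm y : A D d) : G) := fun y => rfl
  refine ⟨j', ⟨?_, ?_, L.dA, L.half⟩, ?_⟩
  · intro a b hab
    exact ψ.symm.injective (Subtype.ext hab)
  · intro x
    constructor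
    · intro hx
      exact ⟨ψ ⟨x, hx⟩, by rw [hj', MulEquiv.symm_apply_apply]⟩
    · rintro ⟨y, rfl⟩
      exact (ψ.symm y).2
  · intro y
    have := hψ (ψ.symm y)
    rw [mem_subgroupOf, MulEquiv.apply_symm_apply] at this
    exact this

end H58.WC
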