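import Mathlib
import Cfsg.Agent.Lib.H58.WCb

/-!
# The strongly closed subgroup `T` of order eight
-/

set_option autoImplicit false
set_option linter.style.haveILetI false
set_option linter.unusedSectionVars false

open Subgroup
open scoped commutatorElement

namespace H58.WC

variable {G : Type*} [Group G]

/-- number of conjugates under a subgroup -/
theorem relIndex_orbit (M : Subgroup G) (x : G) (O : Set G) (hO : ∀ y, y ∈ O ↔ ∃ n ∈ M, n * x * n⁻¹ = y) :
    (centralizer ({x} : Set G)).relIndex M = O.ncard := by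
  letI : MulAction M G := MulAction.compHom G ((MulAut.conj (G := G)).comp M.subtype)
  have hs : ∀ (m : M) (y : G), m • y = (m : G) * y * (m : G)⁻¹ := fun m y => rfl
  have h1 := MulAction.index_stabilizer M x
  have h2 : MulAction.stabilizer M x = (centralizer ({x} : Set G)).subgroupOf M := by
    ext m
    rw [MulAction.mem_stabilizer_iff, hs, mem_subgroupOf, mem_centralizer_singleton_iff, mul_inv_eq_iff_eq_mul]
  have h3 : MulAction.orbit M x = O := by
    ext y
    rw [MulAction.mem_orbit_iff, hO]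
    constructor
    · rintro ⟨m, hm⟩
      exact ⟨m, m.2, by rw [← hm, hs]⟩
    · rintro ⟨n, hn, hn2⟩
      exact ⟨⟨n, hn⟩, by rw [hs]; exact hn2⟩
  rw [h2, h3] at h1
  exact h1

/-- fixed points modulo `p` -/
theorem fix_mod (p n : ℕ) [Fact p.Prime] (s : G) (O : Set G) (hO : O.Finite) (hn : ∀ x ∈ O, s * x * s⁻¹ ∈ O)
    (hs : ∀ x ∈ O, s ^ (p ^ n) * x = x * s ^ (p ^ n)) :
    O.ncard ≡ {x | x ∈ O ∧ s * x = x * s}.ncard [MOD p] := by
  classical
  haveI : Finite O := hO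
  haveI : Fintype O := Fintype.ofFinite O
  let σ : Function.End O := fun x => ⟨s * x * s⁻¹, hn x x.2⟩
  have hσ : ∀ x, ((σ x : O) : G) = s * x * s⁻¹ := fun x => rfl
  have hσp : ∀ k : ℕ, ∀ x : O, (((σ ^ k) x : O) : G) = s ^ k * x * (s ^ k)⁻¹ := by
    intro k
    induction k with
    | zero => intro x; rw [pow_zero, pow_zero]; change ((x : O) : G) = _; simp
    | succ k ih =>
      intro x
      rw [pow_succ' σ k]
      change ((σ ((σ ^ k) x) : O) : G) = _
      rw [hσ, ih, pow_succ']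
      group
  have h1 : σ ^ (p ^ n) = 1 := by
    funext x
    apply Subtype.ext
    rw [hσp, hs x x.2, mul_inv_cancel_right]
    rfl
  have h2 := Equiv.Perm.card_fixedPoints_modEq h1
  have h3 : Fintype.card O = O.ncard := by
    rw [← Nat.card_eq_fintype_card, Nat.card_coe_set_eq]
  have h4 : Fintype.card (Function.fixedPoints σ) = {x | x ∈ O ∧ s * x = x * s}.ncard := by
    rw [← Nat.card_eq_fintype_card, ← Nat.card_coe_set_eq]
    refine Nat.card_congr ⟨fun x => ⟨x.1, x.1.2, ?_⟩, fun x => ⟨⟨x.1, x.2.1⟩, ?_⟩, fun x => rfl, fun x => rfl⟩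
    · have h5 : σ x.1 = x.1 := x.2
      have h6 := congrArg Subtype.val h5
      rw [hσ] at h6
      exact mul_inv_eq_iff_eq_mul.1 h6
    · change σ _ = _
      apply Subtype.ext
      rw [hσ]
      exact mul_inv_eq_iff_eq_mul.2 x.2.2
  rw [← h3, ← h4]
  exact h2

variable {D : Set G} {t : G} {S : Sylow 2 G} {j : A5 →* G}

structure Cf (D : Set G) (t : G) (S : Sylow 2 G) (j : A5 →* G) : Prop where
  h : Hy D
  ht : t ∈ D
  tS : t ∈ S
  cS : ∀ s ∈ S, s * t = t * s
  L : Lc D t j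
  hV : ∀ y, j y ∈ S ↔ (y = 1 ∨ y = s1 ∨ y = s2 ∨ y = s1 * s2)

theorem Hy.exists_Cf [Finite G] (h : Hy D) (ht : t ∈ D) : ∃ (S : Sylow 2 G) (j : A5 →* G), Cf D t S j := by
  obtain ⟨S, h1, h2⟩ := h.cent t ht
  obtain ⟨j, L, hV⟩ := h.exists_coord ht S h2
  exact ⟨S, j, h, ht, h1, h2, L, hV⟩

def T (D : Set G) (t : G) (S : Sylow 2 G) : Subgroup G := (S : Subgroup G) ⊓ W D t

namespace Cf

variable (c : Cf D t S j)
include c

theorem tt : t * t = 1 := c.h.sq t c.ht

theorem fourG {v a x : G} (hv : v ∈ A D t) (hvS : v ∈ S) (ha : a ∈ A D t) (haS : a ∈ S) (hx : x ∈ A D t) (hxS : x ∈ S)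
    (hv1 : v ≠ 1) (ha1 : a ≠ 1) (hav : a ≠ v) : x = 1 ∨ x = v ∨ x = a ∨ x = a * v := by
  obtain ⟨v, rfl⟩ := (c.L.rng v).1 hv
  obtain ⟨a, rfl⟩ := (c.L.rng a).1 ha
  obtain ⟨x, rfl⟩ := (c.L.rng x).1 hx
  rw [c.hV] at hvS haS hxS
  have hv1' : v ≠ 1 := fun h => hv1 (by rw [h, map_one])
  have ha1' : a ≠ 1 := fun h => ha1 (by rw [h, map_one])
  have hav' : a ≠ v := fun h => hav (by rw [h])
  have key : x = 1 ∨ x = v ∨ x = a ∨ x = a * v := by
    clear hv1 ha1 hav hv ha hx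
    rcases hvS with h | h | h | h <;> rcases haS with h' | h' | h' | h' <;>
      first
      | exact absurd h hv1'
      | exact absurd h' ha1'
      | exact absurd (h'.trans h.symm) hav'
      | (rcases hxS with h'' | h'' | h'' | h'' <;> subst h <;> subst h' <;> subst h'' <;> decide +kernel)
  rcases key with h | h | h | h
  · left; rw [h, map_one]
  · right; left; rw [h]
  · right; right; left; rw [h]
  · right; right; right; rw [h, map_mul]

theorem v1A : j s1 ∈ A D t := c.L.mem _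
theorem v2A : j s2 ∈ A D t := c.L.mem _
theorem v1S : j s1 ∈ S := (c.hV _).2 (Or.inr (Or.inl rfl))
theorem v2S : j s2 ∈ S := (c.hV _).2 (Or.inr (Or.inr (Or.inl rfl)))
theorem v1ne : j s1 ≠ 1 := fun h => s1_ne (c.L.inj (by rw [h, map_one]))
theorem v2ne : j s2 ≠ 1 := fun h => s2_ne (c.L.inj (by rw [h, map_one]))
theorem v12ne : j s1 ≠ j s2 := fun h => by
  have h1 : s1 = s2 := c.L.inj h
  revert h1; decide +kernel
theorem v1sq : j s1 * j s1 = 1 := by rw [← map_mul, s1_sq, map_one]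
theorem v2sq : j s2 * j s2 = 1 := by rw [← map_mul, s2_sq, map_one]
theorem vcomm : j s1 * j s2 = j s2 * j s1 := by rw [← map_mul, s_comm, map_mul]
theorem fA : j f0 ∈ A D t := c.L.mem _
theorem f1 : j f0 * j s1 = j s2 * j f0 := by rw [← map_mul, f0_s1, map_mul]
theorem f2 : j f0 * j s2 = j s1 * j s2 * j f0 := by rw [← map_mul, f0_s2, map_mul, map_mul]

theorem memV {x : G} (hx : x ∈ A D t) (hxS : x ∈ S) : x = 1 ∨ x = j s1 ∨ x = j s2 ∨ x = j s1 * j s2 := by
  have := c.fourG c.v1A c.v1S c.v2A c.v2S hx hxS c.v1ne c.v2ne c.v12ne.symm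
  rcases this with h | h | h | h
  · exact Or.inl h
  · exact Or.inr (Or.inl h)
  · exact Or.inr (Or.inr (Or.inl h))
  · exact Or.inr (Or.inr (Or.inr (by rw [h, c.vcomm])))

theorem at_comm {a : G} (ha : a ∈ A D t) : a * t = t * a := Hy.cW (Hy.AW ha)

theorem tT : t ∈ T D t S := ⟨c.tS, c.h.dW c.ht⟩
theorem v1T : j s1 ∈ T D t S := ⟨c.v1S, Hy.AW c.v1A⟩
theorem v2T : j s2 ∈ T D t S := ⟨c.v2S, Hy.AW c.v2A⟩

theorem T_half {x : G} (hx : x ∈ T D t S) : (x ∈ A D t ∧ x ∈ S) ∨ (t * x ∈ A D t ∧ t * x ∈ S) := by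
  rcases c.L.half x hx.2 with h | h
  · exact Or.inl ⟨h, hx.1⟩
  · exact Or.inr ⟨h, mul_mem c.tS hx.1⟩

theorem V_comm {x y : G} (hx : x ∈ A D t) (hxS : x ∈ S) (hy : y ∈ A D t) (hyS : y ∈ S) : x * y = y * x := by
  obtain ⟨x, rfl⟩ := (c.L.rng x).1 hx
  obtain ⟨y, rfl⟩ := (c.L.rng y).1 hy
  rw [c.hV] at hxS hyS
  rw [← map_mul, ← map_mul]
  congr 1
  clear hx hy
  rcases hxS with h | h | h | h <;> rcases hyS with h' | h' | h' | h' <;> subst h <;> subst h' <;> decide +kernel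

theorem V_sq {x : G} (hx : x ∈ A D t) (hxS : x ∈ S) : x * x = 1 := by
  have h := c.vcomm
  have e1 := c.v1sq
  have e2 := c.v2sq
  rcases c.memV hx hxS with rfl | rfl | rfl | rfl
  · simp
  · exact e1
  · exact e2
  · calc j s1 * j s2 * (j s1 * j s2) = j s1 * (j s2 * j s1) * j s2 := by group
      _ = j s1 * (j s1 * j s2) * j s2 := by rw [h]
      _ = (j s1 * j s1) * (j s2 * j s2) := by group
      _ = 1 := by rw [e1, e2, one_mul]

theorem T_comm {x y : G} (hx : x ∈ T D t S) (hy : y ∈ T D t S) : x * y = y * x := by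
  have tx : x * t = t * x := Hy.cW hx.2
  have ty : y * t = t * y := Hy.cW hy.2
  have htt := c.tt
  rcases c.T_half hx with ⟨h1, h2⟩ | ⟨h1, h2⟩ <;> rcases c.T_half hy with ⟨h3, h4⟩ | ⟨h3, h4⟩
  · exact c.V_comm h1 h2 h3 h4
  · have := c.V_comm h1 h2 h3 h4
    have e : t * (x * y) = t * (y * x) := by
      calc t * (x * y) = (t * x) * y := by group
        _ = (x * t) * y := by rw [tx]
        _ = x * (t * y) := by group
        _ = t * y * x := this
        _ = _ := by group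
    exact mul_left_cancel e
  · have := c.V_comm h1 h2 h3 h4
    have e : t * (x * y) = t * (y * x) := by
      calc t * (x * y) = (t * x) * y := by group
        _ = y * (t * x) := this
        _ = (y * t) * x := by group
        _ = (t * y) * x := by rw [ty]
        _ = _ := by group
    exact mul_left_cancel e
  · have := c.V_comm h1 h2 h3 h4
    calc x * y = (t * t) * (x * y) := by rw [htt, one_mul]
      _ = t * (t * x) * y := by group
      _ = t * (x * t) * y := by rw [tx]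
      _ = (t * x) * (t * y) := by group
      _ = (t * y) * (t * x) := this
      _ = t * (y * t) * x := by group
      _ = t * (t * y) * x := by rw [ty]
      _ = (t * t) * (y * x) := by group
      _ = y * x := by rw [htt, one_mul]

theorem T_sq {x : G} (hx : x ∈ T D t S) : x * x = 1 := by
  have tx : x * t = t * x := Hy.cW hx.2
  rcases c.T_half hx with ⟨h1, h2⟩ | ⟨h1, h2⟩
  · exact c.V_sq h1 h2
  · have := c.V_sq h1 h2
    calc x * x = (t * t) * (x * x) := by rw [c.tt, one_mul]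
      _ = t * (t * x) * x := by group
      _ = t * (x * t) * x := by rw [tx]
      _ = (t * x) * (t * x) := by group
      _ = 1 := this

theorem DS_T {x : G} (hx : x ∈ D) (hxS : x ∈ S) : x ∈ T D t S :=
  ⟨hxS, subset_closure ⟨hx, c.cS x hxS⟩⟩

theorem S_norm {s : G} (hs : s ∈ S) {x : G} (hx : x ∈ T D t S) : s * x * s⁻¹ ∈ T D t S :=
  ⟨(S : Subgroup G).mul_mem ((S : Subgroup G).mul_mem hs hx.1) ((S : Subgroup G).inv_mem hs), c.h.W_cent (c.cS s hs) hx.2⟩

/-- conjugation by `f` cycles -/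
theorem fcyc_D {y : G} (hy : y ∈ D) : j f0 * y * (j f0)⁻¹ ∈ D := c.h.conj y hy _

theorem f1' : j f0 * j s1 * (j f0)⁻¹ = j s2 := by rw [c.f1]; group
theorem f2' : j f0 * j s2 * (j f0)⁻¹ = j s1 * j s2 := by rw [c.f2]; group
theorem f3' : j f0 * (j s1 * j s2) * (j f0)⁻¹ = j s1 := by
  calc j f0 * (j s1 * j s2) * (j f0)⁻¹ = (j f0 * j s1 * (j f0)⁻¹) * (j f0 * j s2 * (j f0)⁻¹) := by group
    _ = j s2 * (j s1 * j s2) := by rw [c.f1', c.f2']
    _ = j s2 * (j s2 * j s1) := by rw [c.vcomm]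
    _ = (j s2 * j s2) * j s1 := by group
    _ = j s1 := by rw [c.v2sq, one_mul]
theorem ft (y : G) : j f0 * (t * y) * (j f0)⁻¹ = t * (j f0 * y * (j f0)⁻¹) := by
  have := c.at_comm c.fA
  calc j f0 * (t * y) * (j f0)⁻¹ = (j f0 * t) * y * (j f0)⁻¹ := by group
    _ = (t * j f0) * y * (j f0)⁻¹ := by rw [this]
    _ = _ := by group

theorem Vall (h : j s1 ∈ D) : j s2 ∈ D ∧ j s1 * j s2 ∈ D := by
  have h2 : j s2 ∈ D := by rw [← c.f1']; exact c.fcyc_D h
  exact ⟨h2, by rw [← c.f2']; exact c.fcyc_D h2⟩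

theorem tVall (h : t * j s1 ∈ D) : t * j s2 ∈ D ∧ t * (j s1 * j s2) ∈ D := by
  have h2 : t * j s2 ∈ D := by rw [← c.f1', ← c.ft]; exact c.fcyc_D h
  exact ⟨h2, by rw [← c.f2', ← c.ft]; exact c.fcyc_D h2⟩

theorem V_of {x : G} (hx : x ∈ A D t) (hxS : x ∈ S) (hx1 : x ≠ 1) (hxD : x ∈ D) : j s1 ∈ D := by
  rcases c.memV hx hxS with h | h | h | h
  · exact absurd h hx1
  · rwa [← h]
  · rw [h] at hxD
    rw [← c.f3', ← c.f2']
    exact c.fcyc_D (c.fcyc_D hxD)
  · rw [h] at hxD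
    rw [← c.f3']
    exact c.fcyc_D hxD

theorem tV_of {x : G} (hx : x ∈ A D t) (hxS : x ∈ S) (hx1 : x ≠ 1) (hxD : t * x ∈ D) : t * j s1 ∈ D := by
  rcases c.memV hx hxS with h | h | h | h
  · exact absurd h hx1
  · rwa [← h]
  · rw [h] at hxD
    have h1 := c.fcyc_D hxD
    rw [c.ft, c.f2'] at h1
    have h2 := c.fcyc_D h1
    rwa [c.ft, c.f3'] at h2
  · rw [h] at hxD
    have h2 := c.fcyc_D hxD
    rwa [c.ft, c.f3'] at h2

variable [Finite G]

theorem S_relIndex {H : Subgroup G} (hH : (S : Subgroup G) ≤ H) : ¬ 2 ∣ (S : Subgroup G).relIndex H := fun h =>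
  S.not_dvd_index (h.trans (Subgroup.relIndex_dvd_index_of_le hH))

/-- there is another element of `D` in `T` -/
theorem exists_other : j s1 ∈ D ∨ t * j s1 ∈ D := by
  haveI : Fact (Nat.Prime 2) := ⟨Nat.prime_two⟩
  have h1 : ∃ x ∈ D, x * t = t * x ∧ x ≠ t := by
    by_contra hcon
    push Not at hcon
    have h2 : W D t ≤ zpowers t := (closure_le _).2 (fun x hx => by
      rw [hcon x hx.1 hx.2]
      exact mem_zpowers t)
    have h3 := h2 (Hy.AW c.v1A)
    have h4 := h2 (Hy.AW c.fA)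
    have h5 : j s1 * j f0 = j f0 * j s1 := by
      obtain ⟨a, ha⟩ := mem_zpowers_iff.1 h3
      obtain ⟨b, hb⟩ := mem_zpowers_iff.1 h4
      rw [← ha, ← hb, ← zpow_add, ← zpow_add, add_comm]
    rw [← map_mul, ← map_mul] at h5
    have h6 := c.L.inj h5
    revert h6
    decide +kernel
  obtain ⟨x, hxD, hxt, hne⟩ := h1
  have hxx : x * x = 1 := c.h.sq x hxD
  have hP : IsPGroup 2 (zpowers x) := by
    refine IsPGroup.of_card (n := 1) ?_
    rw [Nat.card_zpowers, pow_one]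
    exact orderOf_eq_prime (by rw [pow_two, hxx]) (c.h.ne1 x hxD)
  have hSC : (S : Subgroup G) ≤ centralizer {t} := fun y hy => mem_centralizer_singleton_iff.2 (c.cS y hy)
  obtain ⟨g, hg, hgS⟩ := H58.Rel.exists_conj_mem_sylowOf (H := centralizer {t}) (P := zpowers x) (Q := S)
    (by rw [zpowers_le]; exact mem_centralizer_singleton_iff.2 hxt) hP S.isPGroup' (c.S_relIndex hSC)
  have hgt : g * t = t * g := mem_centralizer_singleton_iff.1 hg
  have hy := hgS x (mem_zpowers x)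
  have hyD := c.h.conj x hxD g
  have hyne : g * x * g⁻¹ ≠ t := by
    intro h
    apply hne
    calc x = g⁻¹ * (g * x * g⁻¹) * g := by group
      _ = g⁻¹ * (t * g) := by rw [h]; group
      _ = g⁻¹ * (g * t) := by rw [hgt]
      _ = t := by group
  have hyT := c.DS_T hyD hy
  rcases c.T_half hyT with ⟨h2, h3⟩ | ⟨h2, h3⟩
  · exact Or.inl (c.V_of h2 h3 (c.h.ne1 _ hyD) hyD)
  · right
    refine c.tV_of h2 h3 ?_ ?_
    · intro h4
      apply hyne
      calc g * x * g⁻¹ = t⁻¹ * (t * (g * x * g⁻¹)) := by group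
        _ = t := by rw [h4, mul_one, c.h.inv c.ht]
    · rw [← mul_assoc, c.tt, one_mul]
      exact hyD

omit [Finite G] in
theorem T_closure (h : j s1 ∈ D ∨ t * j s1 ∈ D) : T D t S ≤ closure {x | x ∈ D ∧ x ∈ S} := by
  have ht : t ∈ closure {x | x ∈ D ∧ x ∈ S} := subset_closure ⟨c.ht, c.tS⟩
  have h12 : j s1 ∈ closure {x | x ∈ D ∧ x ∈ S} ∧ j s2 ∈ closure {x | x ∈ D ∧ x ∈ S} := by
    rcases h with h | h
    · exact ⟨subset_closure ⟨h, c.v1S⟩, subset_closure ⟨(c.Vall h).1, c.v2S⟩⟩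
    · have e : ∀ y, t * (t * y) = y := fun y => by rw [← mul_assoc, c.tt, one_mul]
      constructor
      · rw [← e (j s1)]
        exact mul_mem ht (subset_closure ⟨h, mul_mem c.tS c.v1S⟩)
      · rw [← e (j s2)]
        exact mul_mem ht (subset_closure ⟨(c.tVall h).1, mul_mem c.tS c.v2S⟩)
  have hV : ∀ x, x ∈ A D t → x ∈ S → x ∈ closure {x | x ∈ D ∧ x ∈ S} := by
    intro x hx hxS
    rcases c.memV hx hxS with h | h | h | h <;> rw [h]
    · exact one_mem _
    · exact h12.1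
    · exact h12.2
    · exact mul_mem h12.1 h12.2
  intro x hx
  rcases c.T_half hx with ⟨h2, h3⟩ | ⟨h2, h3⟩
  · exact hV x h2 h3
  · have := hV _ h2 h3
    have e : x = t * (t * x) := by rw [← mul_assoc, c.tt, one_mul]
    rw [e]
    exact mul_mem ht this

/-- weak closure: conjugates of `t` in `T` are conjugate under `N(T)` -/
theorem fuse (h : j s1 ∈ D ∨ t * j s1 ∈ D) {e : G} (he : e ∈ D) (heT : e ∈ T D t S) :
    ∃ n : G, n * t * n⁻¹ = e ∧ (∀ x ∈ T D t S, n * x * n⁻¹ ∈ T D t S) ∧ (∀ x ∈ T D t S, n⁻¹ * x * n ∈ T D t S) := by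
  haveI : Fact (Nat.Prime 2) := ⟨Nat.prime_two⟩
  obtain ⟨g, hg⟩ := c.h.trans t c.ht e he
  have hTe : T D t S ≤ centralizer {e} := fun x hx => mem_centralizer_singleton_iff.2 (c.T_comm hx heT)
  have hTp : IsPGroup 2 (T D t S) := S.isPGroup'.to_le inf_le_left
  have hSg : ((S : Subgroup G).map (MulAut.conj g).toMonoidHom) ≤ centralizer {e} := by
    intro y hy
    rw [H58.Rel.mem_map_conj_iff] at hy
    have h1 := c.cS _ hy
    rw [mem_centralizer_singleton_iff, ← hg]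
    calc y * (g * t * g⁻¹) = g * ((g⁻¹ * y * g) * t) * g⁻¹ := by group
      _ = g * (t * (g⁻¹ * y * g)) * g⁻¹ := by rw [h1]
      _ = _ := by group
  have hidx : ¬ 2 ∣ ((S : Subgroup G).map (MulAut.conj g).toMonoidHom).relIndex (centralizer {e}) := by
    intro h2
    have h3 := h2.trans (Subgroup.relIndex_dvd_index_of_le hSg)
    rw [Subgroup.index_map_of_bijective (MulAut.conj g).bijective] at h3
    exact S.not_dvd_index h3
  obtain ⟨k, hk, hkS⟩ := H58.Rel.exists_conj_mem_sylowOf hTe hTp (S.isPGroup'.map (MulAut.conj g).toMonoidHom) hidx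
  have hke : k * e = e * k := mem_centralizer_singleton_iff.1 hk
  -- m = g⁻¹ k normalises T
  have hm : ∀ x ∈ T D t S, (g⁻¹ * k) * x * (g⁻¹ * k)⁻¹ ∈ T D t S := by
    have h1 : T D t S ≤ (T D t S).comap (MulAut.conj (g⁻¹ * k)).toMonoidHom := by
      refine (c.T_closure h).trans ((closure_le _).2 ?_)
      rintro x ⟨hx1, hx2⟩
      change (g⁻¹ * k) * x * (g⁻¹ * k)⁻¹ ∈ T D t S
      refine c.DS_T (c.h.conj x hx1 _) ?_
      have h2 := hkS x (c.DS_T hx1 hx2)
      rw [H58.Rel.mem_map_conj_iff] at h2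
      have e1 : g⁻¹ * (k * x * k⁻¹) * g = (g⁻¹ * k) * x * (g⁻¹ * k)⁻¹ := by group
      rwa [e1] at h2
    intro x hx
    exact h1 hx
  have hmT : (T D t S).map (MulAut.conj (g⁻¹ * k)).toMonoidHom = T D t S := by
    apply Subgroup.eq_of_le_of_card_ge
    · rintro _ ⟨x, hx, rfl⟩
      exact hm x hx
    · rw [H58.Rel.card_map_conj]
  have hm' : ∀ x ∈ T D t S, (g⁻¹ * k)⁻¹ * x * (g⁻¹ * k) ∈ T D t S := by
    intro x hx
    rw [← hmT] at hx
    rwa [H58.Rel.mem_map_conj_iff] at hx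
  refine ⟨(g⁻¹ * k)⁻¹, ?_, ?_, ?_⟩
  · calc (g⁻¹ * k)⁻¹ * t * ((g⁻¹ * k)⁻¹)⁻¹ = k⁻¹ * (g * t * g⁻¹) * k := by group
      _ = k⁻¹ * (e * k) := by rw [hg]; group
      _ = k⁻¹ * (k * e) := by rw [hke]
      _ = e := by group
  · intro x hx
    rw [inv_inv]
    exact hm' x hx
  · intro x hx
    rw [inv_inv]
    have := hm x hx
    exact this

end Cf

end H58.WC
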